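import Mathlib.RingTheory.PolynomialLaw.Basic
import Mathlib.RingTheory.TensorProduct.Maps
import Mathlib.LinearAlgebra.TensorProduct.RightExactness
import Mathlib.RingTheory.Ideal.Maps
import Mathlib.LinearAlgebra.TensorProduct.Finiteness

/-! Polynomial laws determined by polynomial rings in finitely many variables. -/

set_option autoImplicit false

universe u v w

open scoped TensorProduct

namespace Groth.Agent.ZeroCycPoly

open MvPolynomial

variable {A : Type u} [CommRing A] {M : Type v} [AddCommGroup M] [Module A M] {N : Type w} [AddCommGroup N] [Module A N]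

theorem exists_rep {S : Type u} [CommSemiring S] [Algebra A S] (x : S ⊗[A] M) :
    ∃ (n : ℕ) (Ψ : MvPolynomial (Fin n) A →ₐ[A] S) (z : MvPolynomial (Fin n) A ⊗[A] M),
      Ψ.toLinearMap.rTensor M z = x := by
  induction x using TensorProduct.induction_on with
  | zero => exact ⟨0, aeval Fin.elim0, 0, map_zero _⟩
  | tmul s m => exact ⟨1, aeval fun _ => s, X 0 ⊗ₜ[A] m, by simp⟩
  | add x y hx hy =>
    obtain ⟨n, Ψ, z, rfl⟩ := hx
    obtain ⟨n', Ψ', z', rfl⟩ := hy
    let v : Fin (n + n') → S := Fin.append (fun i => Ψ (X i)) (fun i => Ψ' (X i))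
    refine ⟨n + n', aeval v,
      (rename (Fin.castAdd n') : MvPolynomial (Fin n) A →ₐ[A] _).toLinearMap.rTensor M z +
        (rename (Fin.natAdd n) : MvPolynomial (Fin n') A →ₐ[A] _).toLinearMap.rTensor M z', ?_⟩
    rw [map_add, ← LinearMap.rTensor_comp_apply, ← LinearMap.rTensor_comp_apply, ← AlgHom.comp_toLinearMap,
      ← AlgHom.comp_toLinearMap,
      show (aeval v).comp (rename (Fin.castAdd n')) = Ψ from algHom_ext fun i => by simp [v],
      show (aeval v).comp (rename (Fin.natAdd n)) = Ψ' from algHom_ext fun i => by simp [v]]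

/-- the data of a family on polynomial rings -/
def IsNat (T : ∀ n : ℕ, MvPolynomial (Fin n) A ⊗[A] M → MvPolynomial (Fin n) A ⊗[A] N) : Prop :=
  ∀ (n m : ℕ) (φ : MvPolynomial (Fin n) A →ₐ[A] MvPolynomial (Fin m) A),
    φ.toLinearMap.rTensor N ∘ T n = T m ∘ φ.toLinearMap.rTensor M

variable {T : ∀ n : ℕ, MvPolynomial (Fin n) A ⊗[A] M → MvPolynomial (Fin n) A ⊗[A] N}

theorem same_level (hT : IsNat T) {S : Type u} [CommRing S] [Algebra A S] {n : ℕ}
    (Ψ : MvPolynomial (Fin n) A →ₐ[A] S) (z z' : MvPolynomial (Fin n) A ⊗[A] M)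
    (h : Ψ.toLinearMap.rTensor M z = Ψ.toLinearMap.rTensor M z') :
    Ψ.toLinearMap.rTensor N (T n z) = Ψ.toLinearMap.rTensor N (T n z') := by
  classical
  let π : MvPolynomial S A →ₐ[A] S := aeval id
  have hπ : Function.Surjective π.toLinearMap := fun s => ⟨X s, by simp [π]⟩
  let j : MvPolynomial (Fin n) A →ₐ[A] MvPolynomial S A := rename fun i => Ψ (X i)
  have hj : π.comp j = Ψ := algHom_ext fun i => by simp [π, j]
  have hker : j.toLinearMap.rTensor M z - j.toLinearMap.rTensor M z' ∈
      LinearMap.range ((LinearMap.ker π.toLinearMap).subtype.rTensor M) := by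
    rw [← (rTensor_exact M (LinearMap.exact_subtype_ker_map π.toLinearMap) hπ).linearMap_ker_eq, LinearMap.mem_ker,
      map_sub, ← LinearMap.rTensor_comp_apply, ← LinearMap.rTensor_comp_apply, ← AlgHom.comp_toLinearMap, hj, h,
      sub_self]
  obtain ⟨w, hw⟩ := hker
  obtain ⟨s, hs⟩ := TensorProduct.exists_finset w
  let t : Finset S := Finset.univ.image (fun i => Ψ (X i)) ∪ s.biUnion (fun p => p.1.1.vars)
  let e : t ≃ Fin t.card := t.equivFin
  let r : MvPolynomial S A →ₐ[A] MvPolynomial (Fin t.card) A :=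
    aeval fun a => if ha : a ∈ t then X (e ⟨a, ha⟩) else 0
  let Φ : MvPolynomial (Fin t.card) A →ₐ[A] S := aeval fun i => (e.symm i).1
  have hr : ∀ a ∈ t, Φ (r (X a)) = a := fun a ha => by simp [Φ, r, ha]
  have hrj : Φ.comp (r.comp j) = Ψ := algHom_ext fun i => by
    simp only [AlgHom.comp_apply, j, rename_X]
    exact hr _ (Finset.mem_union_left _ (Finset.mem_image_of_mem _ (Finset.mem_univ i)))
  -- one more block of variables
  let K := s.card
  let p : Fin K → MvPolynomial (Fin t.card) A := fun k => r (s.equivFin.symm k).1.1.1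
  have hp : ∀ k, Φ (p k) = 0 := fun k => by
    have hmem : ((s.equivFin.symm k).1.1 : MvPolynomial S A).vars ⊆ t :=
      (Finset.subset_biUnion_of_mem (fun p : (LinearMap.ker π.toLinearMap) × M => p.1.1.vars)
        (s.equivFin.symm k).2).trans Finset.subset_union_right
    have h0 : π (s.equivFin.symm k).1.1.1 = 0 := LinearMap.mem_ker.1 (s.equivFin.symm k).1.1.2
    rw [← h0]
    show (Φ.comp r).toRingHom _ = π.toRingHom _
    refine hom_congr_vars (RingHom.ext fun a => by simp [Φ, r, π]) (fun a ha _ => ?_) rfl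
    show Φ (r (X a)) = π (X a)
    rw [hr a (hmem ha)]
    simp [π]
  let g₁ : MvPolynomial (Fin (t.card + K)) A →ₐ[A] MvPolynomial (Fin t.card) A := aeval (Fin.append X p)
  let g₂ : MvPolynomial (Fin (t.card + K)) A →ₐ[A] MvPolynomial (Fin t.card) A := aeval (Fin.append X (fun _ => 0))
  let c : MvPolynomial (Fin t.card) A →ₐ[A] MvPolynomial (Fin (t.card + K)) A := rename (Fin.castAdd K)
  let y : MvPolynomial (Fin (t.card + K)) A ⊗[A] M :=
    c.toLinearMap.rTensor M ((r.comp j).toLinearMap.rTensor M z') +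
      ∑ k, X (Fin.natAdd t.card k) ⊗ₜ[A] (s.equivFin.symm k).1.2
  have hc₁ : g₁.comp c = AlgHom.id A _ := algHom_ext fun i => by simp [g₁, c]
  have hc₂ : g₂.comp c = AlgHom.id A _ := algHom_ext fun i => by simp [g₂, c]
  have hy₂ : g₂.toLinearMap.rTensor M y = (r.comp j).toLinearMap.rTensor M z' := by
    simp only [y, map_add, map_sum, LinearMap.rTensor_tmul, AlgHom.toLinearMap_apply]
    rw [← LinearMap.rTensor_comp_apply, ← AlgHom.comp_toLinearMap, hc₂]
    simp [g₂]
  have hy₁ : g₁.toLinearMap.rTensor M y = (r.comp j).toLinearMap.rTensor M z := by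
    simp only [y, map_add, map_sum, LinearMap.rTensor_tmul, AlgHom.toLinearMap_apply]
    rw [← LinearMap.rTensor_comp_apply, ← AlgHom.comp_toLinearMap, hc₁]
    have e1 : r.toLinearMap.rTensor M (j.toLinearMap.rTensor M z - j.toLinearMap.rTensor M z') =
        ∑ k, g₁ (X (Fin.natAdd t.card k)) ⊗ₜ[A] (s.equivFin.symm k).1.2 := by
      rw [← hw, hs, map_sum, map_sum, ← Finset.sum_coe_sort s]
      exact Fintype.sum_equiv s.equivFin _ _ fun a => by simp [g₁, p]
    rw [map_sub, ← LinearMap.rTensor_comp_apply, ← LinearMap.rTensor_comp_apply, ← AlgHom.comp_toLinearMap,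
      sub_eq_iff_eq_add'] at e1
    rw [e1]
    simp
    rfl
  have hΦ : Φ.comp g₁ = Φ.comp g₂ := algHom_ext fun i => by
    induction i using Fin.addCases with
    | left i => simp [g₁, g₂]
    | right k => simp [g₁, g₂, hp k]
  have key : ∀ x : MvPolynomial (Fin n) A ⊗[A] M, Ψ.toLinearMap.rTensor N (T n x) =
      Φ.toLinearMap.rTensor N (T t.card ((r.comp j).toLinearMap.rTensor M x)) := fun x => by
    rw [← Function.comp_apply (f := T t.card), ← hT, Function.comp_apply, ← LinearMap.rTensor_comp_apply,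
      ← AlgHom.comp_toLinearMap, hrj]
  rw [key, key, ← hy₁, ← hy₂, ← Function.comp_apply (f := T t.card) (g := g₁.toLinearMap.rTensor M), ← hT,
    ← Function.comp_apply (f := T t.card) (g := g₂.toLinearMap.rTensor M), ← hT, Function.comp_apply,
    Function.comp_apply, ← LinearMap.rTensor_comp_apply, ← LinearMap.rTensor_comp_apply, ← AlgHom.comp_toLinearMap,
    ← AlgHom.comp_toLinearMap, hΦ]

theorem indep (hT : IsNat T) {S : Type u} [CommSemiring S] [Algebra A S] {n n' : ℕ}
    (Ψ : MvPolynomial (Fin n) A →ₐ[A] S) (z : MvPolynomial (Fin n) A ⊗[A] M)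
    (Ψ' : MvPolynomial (Fin n') A →ₐ[A] S) (z' : MvPolynomial (Fin n') A ⊗[A] M)
    (h : Ψ.toLinearMap.rTensor M z = Ψ'.toLinearMap.rTensor M z') :
    Ψ.toLinearMap.rTensor N (T n z) = Ψ'.toLinearMap.rTensor N (T n' z') := by
  let _ : CommRing S := { Algebra.semiringToRing A (A := S) with mul_comm := mul_comm }
  let v : Fin (n + n') → S := Fin.append (fun i => Ψ (X i)) (fun i => Ψ' (X i))
  let ι : MvPolynomial (Fin n) A →ₐ[A] MvPolynomial (Fin (n + n')) A := rename (Fin.castAdd n')
  let ι' : MvPolynomial (Fin n') A →ₐ[A] MvPolynomial (Fin (n + n')) A := rename (Fin.natAdd n)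
  have e : (aeval v).comp ι = Ψ := algHom_ext fun i => by simp [v, ι]
  have e' : (aeval v).comp ι' = Ψ' := algHom_ext fun i => by simp [v, ι']
  have h2 : (aeval v).toLinearMap.rTensor M (ι.toLinearMap.rTensor M z) =
      (aeval v).toLinearMap.rTensor M (ι'.toLinearMap.rTensor M z') := by
    rw [← LinearMap.rTensor_comp_apply, ← LinearMap.rTensor_comp_apply, ← AlgHom.comp_toLinearMap,
      ← AlgHom.comp_toLinearMap, e, e', h]
  have h3 := same_level hT (aeval v) _ _ h2
  rw [← Function.comp_apply (f := T (n + n')), ← hT, ← Function.comp_apply (f := T (n + n')), ← hT, Function.comp_apply,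
    Function.comp_apply, ← LinearMap.rTensor_comp_apply, ← LinearMap.rTensor_comp_apply, ← AlgHom.comp_toLinearMap,
    ← AlgHom.comp_toLinearMap, e, e'] at h3
  exact h3

/-- the law of a family on polynomial rings -/
noncomputable def toLaw (hT : IsNat T) : M →ₚₗ[A] N where
  toFun' S _ _ x :=
    (exists_rep x).choose_spec.choose.toLinearMap.rTensor N
      (T (exists_rep x).choose (exists_rep x).choose_spec.choose_spec.choose)
  isCompat' {S} _ _ {S'} _ _ φ := by
    funext x
    simp only [Function.comp_apply]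
    rw [← LinearMap.rTensor_comp_apply, ← AlgHom.comp_toLinearMap]
    refine indep hT _ _ _ _ ?_
    rw [(exists_rep (φ.toLinearMap.rTensor M x)).choose_spec.choose_spec.choose_spec,
      AlgHom.comp_toLinearMap, LinearMap.rTensor_comp_apply, (exists_rep x).choose_spec.choose_spec.choose_spec]

theorem bijective_restrict :
    Function.Bijective (fun F : M →ₚₗ[A] N =>
      (⟨fun n => F.toFun' (MvPolynomial (Fin n) A), fun n m φ => F.isCompat' φ⟩ :
        {T : ∀ n : ℕ, MvPolynomial (Fin n) A ⊗[A] M → MvPolynomial (Fin n) A ⊗[A] N //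
          ∀ (n m : ℕ) (φ : MvPolynomial (Fin n) A →ₐ[A] MvPolynomial (Fin m) A),
            φ.toLinearMap.rTensor N ∘ T n = T m ∘ φ.toLinearMap.rTensor M})) := by
  constructor
  · intro F G h
    ext S _ _ x
    obtain ⟨n, Ψ, z, rfl⟩ := exists_rep x
    have hn : F.toFun' (MvPolynomial (Fin n) A) = G.toFun' (MvPolynomial (Fin n) A) :=
      congrFun (congrArg Subtype.val h) n
    rw [← Function.comp_apply (f := F.toFun' S), ← F.isCompat' Ψ, ← Function.comp_apply (f := G.toFun' S),
      ← G.isCompat' Ψ, Function.comp_apply, Function.comp_apply, hn]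
  · rintro ⟨T, hT⟩
    refine ⟨toLaw hT, Subtype.ext (funext fun n => funext fun z => ?_)⟩
    show _ = T n z
    have := indep hT (exists_rep z).choose_spec.choose (exists_rep z).choose_spec.choose_spec.choose
      (AlgHom.id A _) z (by rw [(exists_rep z).choose_spec.choose_spec.choose_spec]; simp)
    refine this.trans ?_
    simp

theorem isMult_of_poly {B : Type v} [CommRing B] [Algebra A B] {C : Type w} [CommRing C] [Algebra A C]
    (F : B →ₚₗ[A] C) (h1 : ∀ n : ℕ, F.toFun' (MvPolynomial (Fin n) A) 1 = 1)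
    (hmul : ∀ (n : ℕ) (x y : MvPolynomial (Fin n) A ⊗[A] B),
      F.toFun' (MvPolynomial (Fin n) A) (x * y) = F.toFun' (MvPolynomial (Fin n) A) x * F.toFun' (MvPolynomial (Fin n) A) y)
    (S : Type u) [CommRing S] [Algebra A S] :
    F.toFun' S 1 = 1 ∧ ∀ x y : S ⊗[A] B, F.toFun' S (x * y) = F.toFun' S x * F.toFun' S y := by
  have hmap : ∀ {n : ℕ} (Ψ : MvPolynomial (Fin n) A →ₐ[A] S) (z : MvPolynomial (Fin n) A ⊗[A] B),
      Ψ.toLinearMap.rTensor B z = Algebra.TensorProduct.map Ψ (AlgHom.id A B) z := fun Ψ z => rfl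
  have hmap' : ∀ {n : ℕ} (Ψ : MvPolynomial (Fin n) A →ₐ[A] S) (z : MvPolynomial (Fin n) A ⊗[A] C),
      Ψ.toLinearMap.rTensor C z = Algebra.TensorProduct.map Ψ (AlgHom.id A C) z := fun Ψ z => rfl
  have hF : ∀ {n : ℕ} (Ψ : MvPolynomial (Fin n) A →ₐ[A] S) (z : MvPolynomial (Fin n) A ⊗[A] B),
      F.toFun' S (Algebra.TensorProduct.map Ψ (AlgHom.id A B) z) =
        Algebra.TensorProduct.map Ψ (AlgHom.id A C) (F.toFun' _ z) := fun Ψ z =>
    (congrFun (F.isCompat' Ψ) z).symm
  constructor
  · have := hF (aeval (R := A) (Fin.elim0 : Fin 0 → S)) 1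
    rwa [map_one, h1, map_one] at this
  · intro x y
    obtain ⟨n, Ψ, z, rfl⟩ := exists_rep x
    obtain ⟨n', Ψ', z', rfl⟩ := exists_rep y
    let v : Fin (n + n') → S := Fin.append (fun i => Ψ (X i)) (fun i => Ψ' (X i))
    let ι : MvPolynomial (Fin n) A →ₐ[A] MvPolynomial (Fin (n + n')) A := rename (Fin.castAdd n')
    let ι' : MvPolynomial (Fin n') A →ₐ[A] MvPolynomial (Fin (n + n')) A := rename (Fin.natAdd n)
    have e : (aeval v).comp ι = Ψ := algHom_ext fun i => by simp [v, ι]
    have e' : (aeval v).comp ι' = Ψ' := algHom_ext fun i => by simp [v, ι']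
    rw [← e, ← e', AlgHom.comp_toLinearMap, AlgHom.comp_toLinearMap, LinearMap.rTensor_comp_apply,
      LinearMap.rTensor_comp_apply, hmap (aeval v), hmap (aeval v), ← map_mul, hF, hF, hF, hmul, map_mul]

end Groth.Agent.ZeroCycPoly
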