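import Groth.Prelude.Def_SymTen
import Mathlib.RingTheory.GradedAlgebra.Basic
import Mathlib.RingTheory.Ideal.GoingUp
import Mathlib.RingTheory.LocalRing.ResidueField.Ideal
import Mathlib.Algebra.MvPolynomial.NoZeroDivisors
import Mathlib.RingTheory.Finiteness.Defs

/-! Degree-one covers of symmetric products of a projective spectrum. -/

set_option autoImplicit false

universe u

open scoped TensorProduct

namespace Groth.Agent.ZeroCycGraded

variable {A B : Type u} [CommRing A] [CommRing B] [Algebra A B] (𝒜 : ℕ → Submodule A B) {d : ℕ}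

variable (A B d) in
/-- pure tensors, multiplicatively -/
noncomputable def tpH : (Fin d → B) →* (⨂[A] _ : Fin d, B) where
  toFun := PiTensorProduct.tprod A
  map_one' := (PiTensorProduct.one_def (R := A) (A := fun _ : Fin d => B)).symm
  map_mul' x y := (PiTensorProduct.tprod_mul_tprod x y).symm

theorem tpH_apply (x : Fin d → B) : tpH A B d x = PiTensorProduct.tprod A x := rfl

variable (d) in
/-- the equal-degree tensors -/
noncomputable def Cs : Subalgebra A (⨂[A] _ : Fin d, B) :=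
  Algebra.adjoin A {t | ∃ (k : ℕ) (b : Fin d → B), (∀ i, b i ∈ 𝒜 k) ∧ t = PiTensorProduct.tprod A b}

/-- the deg-k span -/
noncomputable def Ck (d k : ℕ) : Submodule A (⨂[A] _ : Fin d, B) :=
  Submodule.span A {s | ∃ b : Fin d → B, (∀ i, b i ∈ 𝒜 k) ∧ s = PiTensorProduct.tprod A b}

theorem tprod_mem_Cs {k : ℕ} {b : Fin d → B} (hb : ∀ i, b i ∈ 𝒜 k) : tpH A B d b ∈ Cs 𝒜 d :=
  Algebra.subset_adjoin ⟨k, b, hb, rfl⟩

theorem Ck_le (k : ℕ) : Ck 𝒜 d k ≤ Subalgebra.toSubmodule (Cs 𝒜 d) :=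
  Submodule.span_le.2 fun _ ⟨_, hb, e⟩ => e ▸ tprod_mem_Cs 𝒜 hb

theorem perm_mem_Cs (σ : Equiv.Perm (Fin d)) {t : ⨂[A] _ : Fin d, B} (ht : t ∈ Cs 𝒜 d) :
    SymTen.perm A B d σ t ∈ Cs 𝒜 d := by
  induction ht using Algebra.adjoin_induction with
  | mem x hx =>
    obtain ⟨k, b, hb, rfl⟩ := hx
    rw [SymTen.perm_tprod]
    exact tprod_mem_Cs 𝒜 fun i => hb _
  | algebraMap r => rw [AlgHom.commutes]; exact Subalgebra.algebraMap_mem _ r
  | add x y _ _ hx hy => rw [map_add]; exact add_mem hx hy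
  | mul x y _ _ hx hy => rw [map_mul]; exact mul_mem hx hy

theorem perm_comp (σ τ : Equiv.Perm (Fin d)) (t : ⨂[A] _ : Fin d, B) :
    SymTen.perm A B d σ (SymTen.perm A B d τ t) = SymTen.perm A B d (σ * τ) t := by
  induction t using PiTensorProduct.induction_on with
  | smul_tprod r f => simp [Equiv.Perm.mul_def, Equiv.symm_trans_apply]
  | add x y hx hy => simp only [map_add, hx, hy]

theorem isIntegral_over_sym {t : ⨂[A] _ : Fin d, B} (ht : t ∈ Cs 𝒜 d) :
    IsIntegral (Cs 𝒜 d ⊓ SymTen.TS A B d : Subalgebra A _) t := by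
  classical
  set D := (Cs 𝒜 d ⊓ SymTen.TS A B d : Subalgebra A (⨂[A] _ : Fin d, B))
  let q : Polynomial (⨂[A] _ : Fin d, B) :=
    ∏ σ : Equiv.Perm (Fin d), (Polynomial.X - Polynomial.C (SymTen.perm A B d σ t))
  have hmonic : q.Monic := Polynomial.monic_prod_of_monic _ _ fun σ _ => Polynomial.monic_X_sub_C _
  have hq : q ∈ Polynomial.lifts (algebraMap D (⨂[A] _ : Fin d, B)) := by
    rw [Polynomial.lifts_iff_coeff_lifts]
    intro n
    refine ⟨⟨q.coeff n, ⟨?_, ?_⟩⟩, rfl⟩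
    · have : q ∈ Polynomial.lifts (algebraMap (Cs 𝒜 d) (⨂[A] _ : Fin d, B)) :=
        Subsemiring.prod_mem _ fun σ _ => Subring.sub_mem (Polynomial.liftsRing _) (Polynomial.X_mem_lifts _)
          (Polynomial.C_mem_lifts _ (⟨_, perm_mem_Cs 𝒜 σ ht⟩ : Cs 𝒜 d))
      obtain ⟨x, hx⟩ := (Polynomial.lifts_iff_coeff_lifts q).1 this n
      exact hx ▸ x.2
    · intro τ
      rw [← SymTen.perm_apply]
      have : q.map (SymTen.perm A B d τ).toRingHom = q := by
        simp only [q, Polynomial.map_prod, Polynomial.map_sub, Polynomial.map_X, Polynomial.map_C]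
        refine Fintype.prod_equiv (Equiv.mulLeft τ) _ _ fun σ => ?_
        simp [perm_comp]
      conv_rhs => rw [← this, Polynomial.coeff_map]
      rfl
  rcases subsingleton_or_nontrivial (⨂[A] _ : Fin d, B) with hs | hs
  · exact ⟨Polynomial.X, Polynomial.monic_X, Subsingleton.elim _ _⟩
  obtain ⟨p, hp, -, hpm⟩ := Polynomial.lifts_and_degree_eq_and_monic hq hmonic
  refine ⟨p, hpm, ?_⟩
  rw [Polynomial.eval₂_eq_eval_map, hp, Polynomial.eval_prod]
  refine Finset.prod_eq_zero (Finset.mem_univ 1) ?_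
  have h1 : ∀ z, SymTen.perm A B d 1 z = z := fun z => by
    induction z using PiTensorProduct.induction_on with
    | smul_tprod r f => simp [Equiv.Perm.one_symm]
    | add x y hx hy => simp only [map_add, hx, hy]
  simp [h1]

variable [GradedAlgebra 𝒜]

theorem pow_one_eq (hgen : Algebra.adjoin A (𝒜 1 : Set B) = ⊤) (n : ℕ) : (𝒜 1) ^ n = 𝒜 n := by
  classical
  have hle : ∀ n, (𝒜 1) ^ n ≤ 𝒜 n := fun n => by
    induction n with
    | zero => rw [pow_zero, Submodule.one_le]; exact SetLike.one_mem_graded 𝒜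
    | succ n ih =>
      rw [pow_succ, Submodule.mul_le]
      exact fun x hx y hy => SetLike.mul_mem_graded (ih hx) hy
  refine le_antisymm (hle n) fun x hx => ?_
  have key : ∀ y ∈ Submonoid.closure (𝒜 1 : Set B), ∃ m, y ∈ (𝒜 1) ^ m := by
    intro y hy
    induction hy using Submonoid.closure_induction with
    | mem y hy => exact ⟨1, by simpa using hy⟩
    | one => exact ⟨0, by rw [pow_zero]; exact Submodule.one_le.1 le_rfl⟩
    | mul y z _ _ hy hz =>
      obtain ⟨m, hm⟩ := hy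
      obtain ⟨m', hm'⟩ := hz
      exact ⟨m + m', by rw [pow_add]; exact Submodule.mul_mem_mul hm hm'⟩
  have htop : x ∈ Submodule.span A (Submonoid.closure (𝒜 1 : Set B) : Set B) := by
    rw [← Algebra.adjoin_eq_span, hgen]; trivial
  have : (DirectSum.decompose 𝒜 x n : B) ∈ (𝒜 1) ^ n := by
    clear hx
    induction htop using Submodule.span_induction with
    | mem y hy =>
      obtain ⟨m, hm⟩ := key y hy
      rcases eq_or_ne m n with rfl | hne
      · rwa [DirectSum.decompose_of_mem_same 𝒜 (hle _ hm)]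
      · rw [DirectSum.decompose_of_mem_ne 𝒜 (hle _ hm) hne]; exact zero_mem _
    | zero => simp
    | add y z _ _ hy hz => simpa using add_mem hy hz
    | smul c y _ hy =>
      rw [DirectSum.decompose_smul]
      exact Submodule.smul_mem _ c hy
  rwa [DirectSum.decompose_of_mem_same 𝒜 hx] at this

/-- membership in an ideal of the equal-degree algebra -/
def InP (P : Ideal (Cs 𝒜 d)) (t : ⨂[A] _ : Fin d, B) : Prop := ∃ h : t ∈ Cs 𝒜 d, (⟨t, h⟩ : Cs 𝒜 d) ∈ P

variable {𝒜}

theorem inP_add {P : Ideal (Cs 𝒜 d)} {s t : ⨂[A] _ : Fin d, B} (hs : InP 𝒜 P s) (ht : InP 𝒜 P t) :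
    InP 𝒜 P (s + t) := ⟨add_mem hs.1 ht.1, P.add_mem hs.2 ht.2⟩

theorem inP_mul_left {P : Ideal (Cs 𝒜 d)} {s t : ⨂[A] _ : Fin d, B} (hs : s ∈ Cs 𝒜 d) (ht : InP 𝒜 P t) :
    InP 𝒜 P (s * t) := ⟨mul_mem hs ht.1, P.mul_mem_left ⟨s, hs⟩ ht.2⟩

theorem inP_smul {P : Ideal (Cs 𝒜 d)} (c : A) {t : ⨂[A] _ : Fin d, B} (ht : InP 𝒜 P t) :
    InP 𝒜 P (c • t) := by
  rw [Algebra.smul_def]; exact inP_mul_left (Subalgebra.algebraMap_mem _ c) ht

theorem inP_mul_iff {P : Ideal (Cs 𝒜 d)} [P.IsPrime] {s t : ⨂[A] _ : Fin d, B} (hs : s ∈ Cs 𝒜 d) (ht : t ∈ Cs 𝒜 d) :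
    InP 𝒜 P (s * t) ↔ InP 𝒜 P s ∨ InP 𝒜 P t := by
  refine ⟨fun ⟨_, h⟩ => ?_, fun h => h.elim (fun h => mul_comm t s ▸ inP_mul_left ht h) (inP_mul_left hs)⟩
  rcases ‹P.IsPrime›.mem_or_mem (x := ⟨s, hs⟩) (y := ⟨t, ht⟩) h with h | h
  · exact Or.inl ⟨hs, h⟩
  · exact Or.inr ⟨ht, h⟩

theorem exists_deg_one (hgen : Algebra.adjoin A (𝒜 1 : Set B) = ⊤) {P : Ideal (Cs 𝒜 d)} [hP : P.IsPrime] {k : ℕ}
    (hk : 0 < k) {t : ⨂[A] _ : Fin d, B} (htk : t ∈ Ck 𝒜 d k) (ht : ¬ InP 𝒜 P t) :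
    ∃ b : Fin d → B, (∀ i, b i ∈ 𝒜 1) ∧ ¬ InP 𝒜 P (tpH A B d b) := by
  classical
  by_contra hall
  push Not at hall
  apply ht
  induction htk using Submodule.span_induction with
  | zero => exact ⟨zero_mem _, P.zero_mem⟩
  | add x y _ _ hx hy =>
    by_cases hxP : InP 𝒜 P x
    · by_cases hyP : InP 𝒜 P y
      · exact inP_add hxP hyP
      · exact absurd (hy hyP) hyP
    · exact absurd (hx hxP) hxP
  | smul c x _ hx =>
    by_cases hxP : InP 𝒜 P x
    · exact inP_smul c hxP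
    · exact absurd (hx hxP) hxP
  | mem x hx =>
    obtain ⟨b, hb, rfl⟩ := hx
    obtain ⟨m, rfl⟩ : ∃ m, k = m + 1 := ⟨k - 1, by omega⟩
    have hex : ∀ i, ∃ (n : ℕ) (v w : Fin n → B), (∀ j, v j ∈ 𝒜 1) ∧ (∀ j, w j ∈ 𝒜 m) ∧ b i = ∑ j, v j * w j := by
      intro i
      have h := hb i
      rw [← pow_one_eq 𝒜 hgen, pow_succ'] at h
      generalize b i = y0 at h ⊢
      induction h using Submodule.mul_induction_on' with
      | mem_mul_mem x hx y hy =>
        exact ⟨1, fun _ => x, fun _ => y, fun _ => hx, fun _ => pow_one_eq 𝒜 hgen m ▸ hy, by simp⟩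
      | add x _ y _ hx hy =>
        obtain ⟨n, v, w, hv, hw, rfl⟩ := hx
        obtain ⟨n', v', w', hv', hw', rfl⟩ := hy
        refine ⟨n + n', Fin.append v v', Fin.append w w', fun j => ?_, fun j => ?_, by simp [Fin.sum_univ_add]⟩
        · induction j using Fin.addCases <;> simp [*]
        · induction j using Fin.addCases <;> simp [*]
    choose n v w hv hw he using hex
    have e : PiTensorProduct.tprod A b =
        ∑ r : ∀ i, Fin (n i), tpH A B d (fun i => v i (r i)) * tpH A B d (fun i => w i (r i)) := by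
      rw [show b = fun i => ∑ j, v i j * w i j from funext he, MultilinearMap.map_sum]
      exact Finset.sum_congr rfl fun r _ => by rw [← map_mul]; rfl
    rw [e]
    refine Finset.sum_induction _ (InP 𝒜 P) (fun _ _ => inP_add) ⟨zero_mem _, P.zero_mem⟩ fun r _ => ?_
    rw [mul_comm]
    exact inP_mul_left (tprod_mem_Cs 𝒜 fun i => hw i _) (hall _ fun i => hv i _)

section Point

variable (𝒜) (b0 : Fin d → B)

/-- the linear form of a factor -/
noncomputable def ell (i : Fin d) (n : ℕ) (x : B) : ⨂[A] _ : Fin d, B :=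
  tpH A B d (Function.update (b0 ^ n) i x)

variable {𝒜} {b0} (hb0 : ∀ i, b0 i ∈ 𝒜 1)

include hb0 in
theorem ell_mem {i : Fin d} {n : ℕ} {x : B} (hx : x ∈ 𝒜 n) : ell b0 i n x ∈ Cs 𝒜 d :=
  tprod_mem_Cs 𝒜 fun j => by
    rcases eq_or_ne j i with rfl | h
    · simpa using hx
    · rw [Function.update_of_ne h, Pi.pow_apply]
      simpa using SetLike.pow_mem_graded n (hb0 j)

theorem ell_mul (i : Fin d) (n m : ℕ) (x y : B) : ell (A := A) b0 i n x * ell b0 i m y = ell b0 i (n + m) (x * y) := by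
  rw [ell, ell, ell, ← map_mul]
  congr 1
  funext j
  rcases eq_or_ne j i with rfl | h
  · simp
  · simp [Function.update_of_ne h, pow_add]

theorem ell_pow (i : Fin d) (n k : ℕ) (x : B) : ell (A := A) b0 i n x ^ k = ell b0 i (k * n) (x ^ k) := by
  rw [ell, ell, ← map_pow]
  congr 1
  funext j
  rcases eq_or_ne j i with rfl | h
  · simp
  · simp [Function.update_of_ne h, ← pow_mul, mul_comm k n]

theorem ell_add (i : Fin d) (n : ℕ) (x y : B) : ell (A := A) b0 i n (x + y) = ell b0 i n x + ell b0 i n y :=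
  (PiTensorProduct.tprod A).map_update_add (b0 ^ n) i x y

theorem ell_smul (i : Fin d) (n : ℕ) (c : A) (x : B) : ell (A := A) b0 i n (c • x) = c • ell b0 i n x :=
  (PiTensorProduct.tprod A).map_update_smul (b0 ^ n) i c x

theorem ell_self (i : Fin d) : ell (A := A) b0 i 1 (b0 i) = tpH A B d b0 := by
  rw [ell, pow_one, Function.update_eq_self]

theorem prod_ell (n : ℕ) (x : Fin d → B) :
    ∏ i, ell (A := A) b0 i n (x i) = tpH A B d x * tpH A B d (b0 ^ n) ^ (d - 1) := by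
  classical
  simp only [ell]
  rw [← map_prod, ← map_pow, ← map_mul]
  congr 1
  funext j
  rw [Finset.prod_apply, ← Finset.mul_prod_erase _ _ (Finset.mem_univ j), Function.update_self,
    Pi.mul_apply, Pi.pow_apply]
  congr 1
  rw [Finset.prod_congr rfl (g := fun _ => (b0 ^ n) j) (fun i hi => Function.update_of_ne (Finset.ne_of_mem_erase hi).symm _ _),
    Finset.prod_const, Finset.card_erase_of_mem (Finset.mem_univ j), Finset.card_univ, Fintype.card_fin]

variable {P : Ideal (Cs 𝒜 d)} [hP : P.IsPrime]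

include hb0 hP in
theorem not_inP_tprod {n : ℕ} {x : Fin d → B} (hx : ∀ i, x i ∈ 𝒜 n) (h : ∀ i, ¬ InP 𝒜 P (ell b0 i n (x i))) :
    ¬ InP 𝒜 P (tpH A B d x) := by
  intro hin
  have h2 : InP 𝒜 P (∏ i, ell b0 i n (x i)) := by
    rw [prod_ell, mul_comm]
    exact inP_mul_left (pow_mem (tprod_mem_Cs 𝒜 fun i => by simpa using SetLike.pow_mem_graded n (hb0 i)) _) hin
  have h3 : ∀ s : Finset (Fin d), InP 𝒜 P (∏ i ∈ s, ell b0 i n (x i)) → False := by
    classical
    intro s
    induction s using Finset.induction_on with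
    | empty => exact fun ⟨_, h1⟩ => hP.ne_top ((Ideal.eq_top_iff_one P).2 h1)
    | insert i s his ih =>
      intro hp
      rw [Finset.prod_insert his,
        inP_mul_iff (ell_mem hb0 (hx i)) (prod_mem fun j _ => ell_mem hb0 (hx j))] at hp
      exact hp.elim (h i) ih
  exact h3 Finset.univ h2

include hb0 hP in
theorem not_inP_self_pow (h0 : ¬ InP 𝒜 P (tpH A B d b0)) (k : ℕ) : ¬ InP 𝒜 P (tpH A B d b0 ^ k) := by
  induction k with
  | zero => exact fun ⟨_, h1⟩ => hP.ne_top ((Ideal.eq_top_iff_one P).2 h1)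
  | succ k ih =>
    rw [pow_succ, inP_mul_iff (pow_mem (tprod_mem_Cs 𝒜 hb0) _) (tprod_mem_Cs 𝒜 hb0)]
    exact fun h => h.elim ih h0

include hb0 hP in
theorem exists_sym_deg_one (hfg : (𝒜 1).FG) (h0 : ¬ InP 𝒜 P (tpH A B d b0)) :
    ∃ o, o ∈ SymTen.TS A B d ∧ o ∈ Ck 𝒜 d 1 ∧ ¬ InP 𝒜 P o := by
  classical
  obtain ⟨r, a, ha⟩ := (Submodule.fg_iff_exists_fin_generating_family.1 hfg)
  have hamem : ∀ j, a j ∈ 𝒜 1 := fun j => ha ▸ Submodule.subset_span ⟨j, rfl⟩
  let mk := Ideal.Quotient.mk P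
  let e : Fin d → Fin r → (Cs 𝒜 d ⧸ P) := fun i j => mk ⟨ell b0 i 1 (a j), ell_mem hb0 (hamem j)⟩
  have hne : ∀ i, (∑ j, MvPolynomial.monomial (Finsupp.single j 1) (e i j) :
      MvPolynomial (Fin r) (Cs 𝒜 d ⧸ P)) ≠ 0 := by
    intro i hz
    apply h0
    obtain ⟨c, hc⟩ := (Submodule.mem_span_range_iff_exists_fun A).1 (ha.ge (hb0 i))
    rw [← ell_self (A := A) i, ← hc]
    have hj : ∀ j, InP 𝒜 P (ell b0 i 1 (a j)) := fun j => by
      have := congrArg (MvPolynomial.coeff (Finsupp.single j 1)) hz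
      simp only [MvPolynomial.coeff_sum, MvPolynomial.coeff_monomial, MvPolynomial.coeff_zero,
        Finsupp.single_left_inj one_ne_zero, Finset.sum_ite_eq', Finset.mem_univ, if_true] at this
      exact ⟨_, Ideal.Quotient.eq_zero_iff_mem.1 this⟩
    have : ∀ s : Finset (Fin r), InP 𝒜 P (ell b0 i 1 (∑ j ∈ s, c j • a j)) := fun s => by
      induction s using Finset.induction_on with
      | empty =>
        rw [Finset.sum_empty, show ell (A := A) b0 i 1 0 = 0 from (PiTensorProduct.tprod A).map_coord_zero i (by simp)]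
        exact ⟨zero_mem _, P.zero_mem⟩
      | insert j s hjs ih =>
        rw [Finset.sum_insert hjs, ell_add, ell_smul]
        exact inP_add (inP_smul _ (hj j)) ih
    exact this Finset.univ
  have hprod : (∏ i, ∑ j, MvPolynomial.monomial (Finsupp.single j 1) (e i j)) ≠ 0 :=
    Finset.prod_ne_zero_iff.2 fun i _ => hne i
  rw [Fintype.prod_sum] at hprod
  obtain ⟨m, hm⟩ := MvPolynomial.exists_coeff_ne_zero hprod
  let typ : (Fin d → Fin r) → (Fin r →₀ ℕ) := fun s => ∑ i, Finsupp.single (s i) 1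
  let S := Finset.univ.filter fun s => typ s = m
  refine ⟨∑ s ∈ S, tpH A B d (a ∘ s), ?_, ?_, ?_⟩
  · intro σ
    rw [← SymTen.perm_apply, map_sum]
    simp only [tpH_apply, SymTen.perm_tprod]
    refine Finset.sum_equiv ((Equiv.arrowCongr σ (Equiv.refl (Fin r)))) (fun s => ?_) fun s _ => rfl
    simp only [S, typ, Finset.mem_filter, Finset.mem_univ, true_and]
    rw [Fintype.sum_equiv σ.symm (fun i => Finsupp.single ((Equiv.arrowCongr σ (Equiv.refl (Fin r))) s i) 1)
      (fun i => Finsupp.single (s i) 1) fun i => rfl]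
  · exact sum_mem fun s _ => Submodule.subset_span ⟨_, fun i => hamem _, rfl⟩
  · rintro ⟨hmem, hin⟩
    apply hm
    have key : ∀ s : Fin d → Fin r, ∏ i, MvPolynomial.monomial (Finsupp.single (s i) 1) (e i (s i)) =
        MvPolynomial.monomial (typ s) (mk (⟨tpH A B d (a ∘ s), tprod_mem_Cs 𝒜 fun i => hamem _⟩ *
          ⟨tpH A B d b0, tprod_mem_Cs 𝒜 hb0⟩ ^ (d - 1))) := fun s => by
      rw [← MvPolynomial.monomial_sum_prod]
      congr 1
      rw [← map_prod]
      congr 1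
      apply Subtype.ext
      push_cast
      rw [prod_ell, pow_one]
      rfl
    simp only [key, MvPolynomial.coeff_sum, MvPolynomial.coeff_monomial, ← Finset.sum_filter]
    rw [← map_sum, ← Finset.sum_mul, map_mul]
    refine mul_eq_zero_of_left (Ideal.Quotient.eq_zero_iff_mem.2 ?_) _
    convert hin
    push_cast
    rfl

include hb0 hP in
theorem exists_common (h0 : ¬ InP 𝒜 P (tpH A B d b0)) (s : Finset (Fin d)) :
    ∃ (n : ℕ) (f : B), 0 < n ∧ f ∈ 𝒜 n ∧ ∀ i ∈ s, ¬ InP 𝒜 P (ell b0 i n f) := by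
  classical
  induction s using Finset.strongInductionOn with
  | _ s ih =>
    rcases s.eq_empty_or_nonempty with rfl | ⟨j, hj⟩
    · exact ⟨1, 0, one_pos, zero_mem _, by simp⟩
    by_cases hone : s = {j}
    · subst hone
      exact ⟨1, b0 j, one_pos, hb0 j, by simpa [ell_self] using h0⟩
    have hih : ∀ i : Fin d, ∃ (n : ℕ) (f : B), 0 < n ∧ f ∈ 𝒜 n ∧
        (i ∈ s → ∀ l ∈ s.erase i, ¬ InP 𝒜 P (ell b0 l n f)) := fun i => by
      by_cases hi : i ∈ s
      · obtain ⟨n, f, hn, hf, h⟩ := ih _ (Finset.erase_ssubset hi)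
        exact ⟨n, f, hn, hf, fun _ => h⟩
      · exact ⟨1, 0, one_pos, zero_mem _, fun h => absurd h hi⟩
    choose n f hn hf hgood using hih
    by_cases hex : ∃ i ∈ s, ¬ InP 𝒜 P (ell b0 i (n i) (f i))
    · obtain ⟨i, hi, hP'⟩ := hex
      refine ⟨n i, f i, hn i, hf i, fun l hl => ?_⟩
      rcases eq_or_ne l i with rfl | hne
      · exact hP'
      · exact hgood i hi l (Finset.mem_erase.2 ⟨hne, hl⟩)
    push Not at hex
    set M := ∑ l ∈ s.erase j, n l with hM
    set g := ∏ l ∈ s.erase j, f l with hg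
    have hgm : g ∈ 𝒜 M := SetLike.prod_mem_graded _ _ _ fun l _ => hf l
    have hu : f j ^ M ∈ 𝒜 (M * n j) := by simpa [smul_eq_mul] using SetLike.pow_mem_graded M (hf j)
    have hv : g ^ n j ∈ 𝒜 (M * n j) := by simpa [smul_eq_mul, mul_comm] using SetLike.pow_mem_graded (n j) hgm
    have hMpos : 0 < M := by
      obtain ⟨l, hl⟩ : (s.erase j).Nonempty := by
        rw [Finset.nonempty_iff_ne_empty]
        intro h
        exact hone (Finset.ext fun x => ⟨fun hx => Finset.mem_singleton.2 (by_contra fun hne =>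
          Finset.notMem_empty x (h ▸ Finset.mem_erase.2 ⟨hne, hx⟩)), fun hx => Finset.mem_singleton.1 hx ▸ hj⟩)
      exact lt_of_lt_of_le (hn l) (Finset.single_le_sum (fun l _ => Nat.zero_le (n l)) hl)
    have hgbad : ∀ l ∈ s, InP 𝒜 P (ell b0 l M g) ↔ l ≠ j := by
      intro l hl
      have hd' : ∀ t : Finset (Fin d), t ⊆ s.erase j →
          (InP 𝒜 P (ell b0 l (∑ i ∈ t, n i) (∏ i ∈ t, f i)) ↔ l ∈ t) := by
        intro t
        induction t using Finset.induction_on with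
        | empty =>
          intro _
          simp only [Finset.sum_empty, Finset.prod_empty, Finset.notMem_empty, iff_false]
          rintro ⟨hm1, h1⟩
          refine hP.ne_top ((Ideal.eq_top_iff_one P).2 ?_)
          have e : ell (A := A) b0 l 0 1 = 1 := by
            rw [ell, pow_zero, show Function.update (1 : Fin d → B) l 1 = 1 from Function.update_eq_self l (1 : Fin d → B), map_one]
          rwa [show (1 : Cs 𝒜 d) = ⟨_, hm1⟩ from Subtype.ext e.symm]
        | insert i t hit iht =>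
          intro hsub
          rw [Finset.sum_insert hit, Finset.prod_insert hit, ← ell_mul,
            inP_mul_iff (ell_mem hb0 (hf i)) (ell_mem hb0 (SetLike.prod_mem_graded _ _ _ fun i _ => hf i)),
            iht ((Finset.subset_insert i t).trans hsub), Finset.mem_insert]
          refine or_congr_left ⟨fun h => by_contra fun hne => ?_, fun e => e ▸ hex i ?_⟩
          · exact hgood i (Finset.mem_of_mem_erase (hsub (Finset.mem_insert_self i t))) l
              (Finset.mem_erase.2 ⟨hne, hl⟩) h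
          · exact Finset.mem_of_mem_erase (hsub (Finset.mem_insert_self i t))
      rw [hd' _ subset_rfl, Finset.mem_erase]
      exact ⟨fun h => h.1, fun h => ⟨h, hl⟩⟩
    refine ⟨M * n j, f j ^ M + g ^ n j, Nat.mul_pos hMpos (hn j), add_mem hu hv, fun l hl h => ?_⟩
    rw [ell_add, ← ell_pow, mul_comm M (n j), ← ell_pow] at h
    have hpow : ∀ {x : ⨂[A] _ : Fin d, B}, x ∈ Cs 𝒜 d → ∀ k, 0 < k → (InP 𝒜 P (x ^ k) ↔ InP 𝒜 P x) :=
      fun {x} hx k hk => ⟨fun ⟨h1, h2⟩ => ⟨hx, hP.mem_of_pow_mem k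
        (show (⟨x, hx⟩ : Cs 𝒜 d) ^ k ∈ P from h2)⟩, fun ⟨h1, h2⟩ => ⟨pow_mem hx k,
        (show (⟨x, h1⟩ : Cs 𝒜 d) ^ k ∈ P from P.pow_mem_of_mem h2 k hk)⟩⟩
    have hneg : ∀ {x : ⨂[A] _ : Fin d, B}, InP 𝒜 P x → InP 𝒜 P (-x) := fun ⟨h1, h2⟩ =>
      ⟨neg_mem h1, P.neg_mem h2⟩
    rcases eq_or_ne l j with rfl | hne
    · have h2 := inP_add h (hneg ((hpow (ell_mem hb0 (hf l)) M hMpos).2 (hex l hl)))
      rw [add_neg_cancel_comm, hpow (ell_mem hb0 hgm) _ (hn l), hgbad l hl] at h2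
      exact h2 rfl
    · have h2 := inP_add h (hneg ((hpow (ell_mem hb0 hgm) _ (hn j)).2 ((hgbad l hl).2 hne)))
      rw [add_neg_cancel_right, hpow (ell_mem hb0 (hf j)) M hMpos] at h2
      exact hgood j hj l (Finset.mem_erase.2 ⟨hne, hl⟩) h2

include hb0 hP in
theorem exists_common_one (hres : ∀ p : PrimeSpectrum A, (d : Cardinal.{u}) ≤ Cardinal.mk p.asIdeal.ResidueField)
    (h0 : ¬ InP 𝒜 P (tpH A B d b0)) (s : Finset (Fin d)) :
    ∃ f : B, f ∈ 𝒜 1 ∧ ∀ i ∈ s, ¬ InP 𝒜 P (ell b0 i 1 f) := by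
  classical
  induction s using Finset.induction_on with
  | empty => exact ⟨0, zero_mem _, by simp⟩
  | insert j s hjs ih =>
    obtain ⟨f, hf, hfs⟩ := ih
    by_cases hfj : InP 𝒜 P (ell b0 j 1 f)
    swap
    · exact ⟨f, hf, fun i hi => (Finset.mem_insert.1 hi).elim (fun e => e ▸ hfj) (hfs i)⟩
    set g := b0 j
    have hg : ∀ i, i = j → ¬ InP 𝒜 P (ell b0 i 1 g) := by
      rintro i rfl
      rwa [ell_self]
    by_cases hex : ∃ i ∈ s, InP 𝒜 P (ell b0 i 1 g)
    swap
    · push Not at hex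
      exact ⟨g, hb0 j, fun i hi => (Finset.mem_insert.1 hi).elim (hg i) (hex i)⟩
    obtain ⟨i₀, hi₀, hgi₀⟩ := hex
    let p : Ideal A := P.comap (algebraMap A (Cs 𝒜 d))
    have : p.IsPrime := Ideal.comap_isPrime _ _
    let κ := p.ResidueField
    have hp : ∀ (a : A) (x : ⨂[A] _ : Fin d, B), x ∈ Cs 𝒜 d → InP 𝒜 P (a • x) → a ∈ p ∨ InP 𝒜 P x := by
      intro a x hx h
      rw [Algebra.smul_def, inP_mul_iff (Subalgebra.algebraMap_mem _ a) hx] at h
      exact h.imp (fun ⟨_, h⟩ => h) id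
    have hp' : ∀ a : A, a ∈ p ↔ algebraMap A κ a = 0 := fun a => by
      rw [← RingHom.mem_ker, Ideal.ker_algebraMap_residueField]
    by_contra hbad
    push Not at hbad
    let S' := insert j (s.erase i₀)
    have hc : ∀ c : κ, ∃ l ∈ S', ∃ r q : A, algebraMap A κ q ≠ 0 ∧ c = algebraMap A κ r / algebraMap A κ q ∧
        InP 𝒜 P (ell b0 l 1 (q • f + r • g)) := by
      intro c
      obtain ⟨x, y, hy, rfl⟩ := IsFractionRing.div_surjective (A ⧸ p) c
      obtain ⟨r, rfl⟩ := Ideal.Quotient.mk_surjective x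
      obtain ⟨q, rfl⟩ := Ideal.Quotient.mk_surjective y
      have hq : algebraMap A κ q ≠ 0 := fun h => by
        rw [← hp', ← Ideal.Quotient.eq_zero_iff_mem] at h
        exact nonZeroDivisors.ne_zero hy h
      obtain ⟨l, hl, hlP⟩ := hbad (q • f + r • g) (add_mem (Submodule.smul_mem _ q hf) (Submodule.smul_mem _ r (hb0 j)))
      refine ⟨l, ?_, r, q, hq, rfl, hlP⟩
      rcases Finset.mem_insert.1 hl with rfl | hl
      · exact Finset.mem_insert_self _ _
      refine Finset.mem_insert_of_mem (Finset.mem_erase.2 ⟨?_, hl⟩)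
      rintro rfl
      rw [ell_add, ell_smul, ell_smul] at hlP
      have h2 := inP_add hlP (inP_smul (-r) hgi₀)
      rw [add_assoc, ← add_smul, add_neg_cancel, zero_smul, add_zero] at h2
      rcases hp q _ (ell_mem hb0 hf) h2 with h | h
      · exact hq ((hp' q).1 h)
      · exact hfs _ hl h
    choose L hL r q hq hcq hin using hc
    have hinj : Function.Injective fun c : κ => (⟨L c, hL c⟩ : S') := by
      intro c c' h
      have hl : L c = L c' := congrArg Subtype.val h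
      have h1 := hin c
      have h2 := hin c'
      rw [← hl] at h2
      rw [ell_add, ell_smul, ell_smul] at h1 h2
      have hF : InP 𝒜 P ((r c' * q c - r c * q c') • ell b0 (L c) 1 f) := by
        have := inP_add (inP_smul (r c') h1) (inP_smul (-r c) h2)
        convert this using 1
        module
      have hG : InP 𝒜 P ((r c' * q c - r c * q c') • ell b0 (L c) 1 g) := by
        have := inP_add (inP_smul (-q c') h1) (inP_smul (q c) h2)
        convert this using 1
        module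
      have hmem : r c' * q c - r c * q c' ∈ p := by
        rcases Finset.mem_insert.1 (hL c) with e | e
        · exact (hp _ _ (ell_mem hb0 (hb0 j)) hG).resolve_right (hg _ e)
        · exact (hp _ _ (ell_mem hb0 hf) hF).resolve_right (hfs _ (Finset.mem_of_mem_erase e))
      rw [hp', map_sub, map_mul, map_mul, sub_eq_zero] at hmem
      rw [hcq c, hcq c', div_eq_div_iff (hq c) (hq c')]
      exact hmem.symm
    have hcard : Cardinal.mk κ ≤ (S'.card : Cardinal.{u}) := by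
      have := Cardinal.lift_mk_le_lift_mk_of_injective hinj
      rw [Cardinal.lift_id'] at this
      simpa using this
    have h1 : (S'.card : Cardinal.{u}) < d := by
      rw [Nat.cast_lt]
      have h2 : (insert j s).card ≤ d := by simpa using Finset.card_le_univ (insert j s)
      rw [Finset.card_insert_of_notMem hjs] at h2
      have h3 := Finset.card_insert_le j (s.erase i₀)
      rw [Finset.card_erase_of_mem hi₀] at h3
      have := Finset.card_pos.2 ⟨i₀, hi₀⟩
      show (insert j (s.erase i₀)).card < d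
      omega
    exact absurd ((hres ⟨p, inferInstance⟩).trans hcard) (not_le.2 h1)

end Point

theorem exists_pow_mem (hgen : Algebra.adjoin A (𝒜 1 : Set B) = ⊤) (D : Subalgebra A (⨂[A] _ : Fin d, B))
    (hD : D = Cs 𝒜 d ⊓ SymTen.TS A B d) {k : ℕ} (hk : 0 < k) {t : ⨂[A] _ : Fin d, B} (htD : t ∈ D)
    (htk : t ∈ Ck 𝒜 d k) (G : Set (⨂[A] _ : Fin d, B))
    (hG : ∀ (P : Ideal (Cs 𝒜 d)) (b0 : Fin d → B), P.IsPrime → (∀ i, b0 i ∈ 𝒜 1) → ¬ InP 𝒜 P (tpH A B d b0) →
      ∃ g ∈ G, g ∈ D ∧ ¬ InP 𝒜 P g) :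
    ∃ m : ℕ, 0 < m ∧ (⟨t, htD⟩ : D) ^ m ∈ Ideal.span {x : D | (x : ⨂[A] _ : Fin d, B) ∈ G} := by
  set I := Ideal.span {x : D | (x : ⨂[A] _ : Fin d, B) ∈ G}
  have : (⟨t, htD⟩ : D) ∈ I.radical := by
    rw [Ideal.radical_eq_sInf, Ideal.mem_sInf]
    rintro q ⟨hIq, hq⟩
    have hle : D ≤ Cs 𝒜 d := hD ▸ inf_le_left
    let incl := Subalgebra.inclusion hle
    let _ : Algebra D (Cs 𝒜 d) := incl.toRingHom.toAlgebra
    have : Algebra.IsIntegral D (Cs 𝒜 d) := ⟨fun c => by
      let f : Cs 𝒜 d →ₐ[D] (⨂[A] _ : Fin d, B) := { (Cs 𝒜 d).val.toRingHom with commutes' := fun _ => rfl }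
      refine (isIntegral_algHom_iff f Subtype.val_injective).1 ?_
      have := isIntegral_over_sym 𝒜 c.2
      subst hD
      exact this⟩
    obtain ⟨P, -, hP, hPq⟩ := Ideal.exists_ideal_over_prime_of_isIntegral q (⊥ : Ideal (Cs 𝒜 d)) (by
      intro x hx
      rw [Ideal.mem_comap, Ideal.mem_bot] at hx
      have hx' := congrArg Subtype.val hx
      have : x = 0 := Subtype.ext hx'
      exact this ▸ q.zero_mem)
    rw [← hPq, Ideal.mem_comap]
    by_contra hnot
    have hni : ¬ InP 𝒜 P t := fun ⟨_, h⟩ => hnot h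
    obtain ⟨b0, hb0, h0⟩ := exists_deg_one hgen (hP := hP) hk htk hni
    obtain ⟨g, hg, hgD, hgP⟩ := hG P b0 hP hb0 h0
    exact hgP ⟨hle hgD, (hPq ▸ hIq (Ideal.subset_span (s := {x : D | (x : ⨂[A] _ : Fin d, B) ∈ G}) (show (⟨g, hgD⟩ : D) ∈ _ from hg)) : (⟨g, hgD⟩ : D) ∈ P.comap (algebraMap D (Cs 𝒜 d)))⟩
  obtain ⟨m, hm⟩ := this
  exact ⟨m + 1, Nat.succ_pos m, pow_succ (⟨t, htD⟩ : D) m ▸ Ideal.mul_mem_right _ _ hm⟩

end Groth.Agent.ZeroCycGraded
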