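import Groth.Agent.ZeroCycLib.Free
import Mathlib.LinearAlgebra.TensorProduct.Finiteness

/-! Presentation of an algebra by free ones: linear and multiplicative descent. -/

set_option autoImplicit false

universe u

open scoped TensorProduct
open Finset

namespace Groth.Agent.ZeroCycLib

open PolLaw

variable {A : Type u} [CommRing A] {d : ℕ}

section Tensor

variable {V W X : Type u} [AddCommGroup V] [Module A V] [AddCommGroup W] [Module A W]
  [AddCommGroup X] [Module A X]

/-- tensor power of a linear map -/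
noncomputable abbrev Tl (d : ℕ) (l : V →ₗ[A] W) : (⨂[A] _ : Fin d, V) →ₗ[A] (⨂[A] _ : Fin d, W) :=
  PiTensorProduct.map fun _ => l

theorem postcomp_apply (g : W →ₗ[A] X) (F : V →ₚₗ[A] W) (S : Type u) [CommSemiring S] [Algebra A S]
    (x : S ⊗[A] V) : (PolLaw.postcomp g F).toFun' S x = g.lTensor S (F.toFun' S x) := rfl

theorem precomp_apply (F : W →ₚₗ[A] X) (g : V →ₗ[A] W) (S : Type u) [CommSemiring S] [Algebra A S]
    (x : S ⊗[A] V) : (PolLaw.precomp F g).toFun' S x = F.toFun' S (g.lTensor S x) := rfl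

theorem Tl_comp (f : W →ₗ[A] X) (g : V →ₗ[A] W) : Tl d (f ∘ₗ g) = Tl d f ∘ₗ Tl d g :=
  PiTensorProduct.map_comp (f := fun _ : Fin d => g) (g := fun _ : Fin d => f)

theorem Tl_surjective (q : V →ₗ[A] W) (hq : Function.Surjective q) : Function.Surjective (Tl d q) := by
  intro y
  induction y using PiTensorProduct.induction_on with
  | smul_tprod r c =>
    refine ⟨r • PiTensorProduct.tprod A fun i => Function.surjInv hq (c i), ?_⟩
    simp [Function.surjInv_eq hq]
  | add x y hx hy =>
    obtain ⟨u, hu⟩ := hx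
    obtain ⟨v, hv⟩ := hy
    exact ⟨u + v, by rw [map_add, hu, hv]⟩

/-- tensors with one factor killed -/
noncomputable def slotKer (d : ℕ) (q : V →ₗ[A] W) : Submodule A (⨂[A] _ : Fin d, V) :=
  Submodule.span A {t | ∃ c : Fin d → V, (∃ i, q (c i) = 0) ∧ t = PiTensorProduct.tprod A c}

theorem ker_Tl_le (q : V →ₗ[A] W) (hq : Function.Surjective q) :
    LinearMap.ker (Tl d q) ≤ slotKer d q := by
  classical
  set I := slotKer d q with hI
  let mk := I.mkQ
  have one : ∀ (c : Fin d → V) (i : Fin d) (x y : V), q x = q y →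
      mk (PiTensorProduct.tprod A (Function.update c i x)) = mk (PiTensorProduct.tprod A (Function.update c i y)) := by
    intro c i x y h
    rw [← sub_eq_zero, ← map_sub, ← MultilinearMap.map_update_sub]
    exact (Submodule.Quotient.mk_eq_zero _).2
      (Submodule.subset_span ⟨_, ⟨i, by simp [h]⟩, rfl⟩)
  have cong : ∀ c c' : Fin d → V, (∀ i, q (c i) = q (c' i)) →
      mk (PiTensorProduct.tprod A c) = mk (PiTensorProduct.tprod A c') := by
    intro c c' h
    suffices ∀ s : Finset (Fin d), mk (PiTensorProduct.tprod A c) = mk (PiTensorProduct.tprod A (s.piecewise c' c)) by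
      simpa using this Finset.univ
    intro s
    induction s using Finset.induction_on with
    | empty => simp
    | insert a s ha ih =>
      rw [Finset.piecewise_insert, ih]
      conv_lhs => rw [← Function.update_eq_self a (s.piecewise c' c)]
      exact one _ a _ _ (by rw [Finset.piecewise_eq_of_notMem _ _ _ ha, h a])
  let σ := Function.surjInv hq
  have hσ : ∀ w, q (σ w) = w := Function.surjInv_eq hq
  let Φ : MultilinearMap A (fun _ : Fin d => W) ((⨂[A] _ : Fin d, V) ⧸ I) :=
    { toFun := fun w => mk (PiTensorProduct.tprod A fun i => σ (w i))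
      map_update_add' := fun {dec} w i x y => by
        have e : ∀ z z', q z' = z → mk (PiTensorProduct.tprod A fun j => σ (Function.update w i z j)) =
            mk (PiTensorProduct.tprod A (Function.update (fun j => σ (w j)) i z')) := fun z z' h =>
          cong _ _ fun j => by rcases eq_or_ne j i with rfl | hne <;> simp_all [Function.update_of_ne]
        rw [e (x + y) (σ x + σ y) (by simp [hσ]), e x _ (hσ x), e y _ (hσ y),
          MultilinearMap.map_update_add, map_add]
      map_update_smul' := fun {dec} w i a x => by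
        have e : ∀ z z', q z' = z → mk (PiTensorProduct.tprod A fun j => σ (Function.update w i z j)) =
            mk (PiTensorProduct.tprod A (Function.update (fun j => σ (w j)) i z')) := fun z z' h =>
          cong _ _ fun j => by rcases eq_or_ne j i with rfl | hne <;> simp_all [Function.update_of_ne]
        rw [e (a • x) (a • σ x) (by simp [hσ]), e x _ (hσ x), MultilinearMap.map_update_smul, map_smul] }
  have hΦ : PiTensorProduct.lift Φ ∘ₗ Tl d q = mk := by
    refine PiTensorProduct.ext (MultilinearMap.ext fun c => ?_)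
    simp only [LinearMap.compMultilinearMap_apply, LinearMap.comp_apply, PiTensorProduct.map_tprod,
      PiTensorProduct.lift.tprod]
    exact cong _ c fun i => hσ _
  intro t ht
  rw [← Submodule.Quotient.mk_eq_zero, ← Submodule.mkQ_apply, show I.mkQ t = PiTensorProduct.lift Φ (Tl d q t) from
    (LinearMap.congr_fun hΦ t).symm, LinearMap.mem_ker.1 ht, map_zero]

end Tensor

section Natural

variable {B B' : Type u} [CommRing B] [Algebra A B] [CommRing B'] [Algebra A B']

theorem tmap_tl (f : B →ₐ[A] B') : (SymTen.tmap A d f).toLinearMap = Tl d f.toLinearMap := by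
  refine PiTensorProduct.ext (MultilinearMap.ext fun c => ?_)
  simp

theorem Tl_reindex (l : B →ₗ[A] B') (σ : Equiv.Perm (Fin d)) (t : ⨂[A] _ : Fin d, B) :
    Tl d l (PiTensorProduct.reindex A (fun _ : Fin d => B) σ t) =
      PiTensorProduct.reindex A (fun _ : Fin d => B') σ (Tl d l t) :=
  PiTensorProduct.map_reindex (fun _ : Fin d => l) σ t

/-- symmetric tensors of a linear map -/
noncomputable def TSl (d : ℕ) (l : B →ₗ[A] B') : SymTen.TS A B d →ₗ[A] SymTen.TS A B' d :=
  LinearMap.codRestrict (SymTen.TS A B' d).toSubmodule (Tl d l ∘ₗ incl) fun t σ => by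
    show PiTensorProduct.reindex A (fun _ : Fin d => B') σ (Tl d l (incl t)) = Tl d l (incl t)
    rw [← Tl_reindex]
    exact congrArg _ (t.2 σ)

theorem incl_TSl (l : B →ₗ[A] B') : incl ∘ₗ TSl d l = Tl d l ∘ₗ incl := rfl

theorem TSl_alg (f : B →ₐ[A] B') : TSl d f.toLinearMap = (SymTen.TSmap A d f).toLinearMap := by
  refine LinearMap.ext fun t => Subtype.ext ?_
  show Tl d f.toLinearMap (incl t) = SymTen.tmap A d f (incl t)
  rw [← tmap_tl]; rfl

theorem Tl_tpow (l : B →ₗ[A] B') (S : Type u) [CommSemiring S] [Algebra A S] (x : S ⊗[A] B) :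
    (Tl d l).lTensor S ((SymTen.tpowLaw A B d).law.toFun' S x) =
      (SymTen.tpowLaw A B' d).law.toFun' S (l.lTensor S x) := by
  obtain ⟨s, rfl⟩ := TensorProduct.exists_finset x
  rw [tpow_sum s S (fun p => p.1) (fun p => p.2), map_sum, map_sum]
  simp only [LinearMap.lTensor_tmul, PiTensorProduct.map_tprod]
  rw [tpow_sum s S (fun p => p.1) (fun p => l p.2)]

theorem tmap_symm (f : B →ₐ[A] B') (S : Type u) [CommSemiring S] [Algebra A S] (x : S ⊗[A] (⨂[A] _ : Fin d, B)) :
    (Tl d f.toLinearMap).lTensor S ((SymTen.symmLaw A B d).law.toFun' S x) =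
      (SymTen.symmLaw A B' d).law.toFun' S ((Tl d f.toLinearMap).lTensor S x) := by
  rw [← tmap_tl, lTensor_algHom_apply, lTensor_algHom_apply]
  simp only [SymTen.symmLaw, MulLaw.prodMap_toFun', map_prod]
  refine Finset.prod_congr rfl fun σ _ => ?_
  rw [map_id_comp, map_id_comp]
  congr 2
  apply AlgHom.ext
  intro t
  simp only [AlgHom.comp_apply, SymTen.perm_apply, SymTen.tmap_reindex]

variable {ι ι' : Type u} (b : Module.Basis ι A B) (b' : Module.Basis ι' A B')

theorem tau_natural (l : B →ₗ[A] B') :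
    PolLaw.postcomp (TSl d l) (tau b).law = PolLaw.precomp (tau b').law l := by
  ext S _ _ x
  apply incl_injective b' S
  rw [postcomp_apply, precomp_apply]
  have e : ∀ y : S ⊗[A] SymTen.TS A B d, (incl (A := A) (B := B') (d := d)).lTensor S ((TSl d l).lTensor S y) =
      (Tl d l).lTensor S ((incl (A := A) (B := B) (d := d)).lTensor S y) := fun y => by
    rw [← LinearMap.comp_apply, ← LinearMap.lTensor_comp, incl_TSl, LinearMap.lTensor_comp, LinearMap.comp_apply]
  refine (e _).trans ?_
  simp only [tau]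
  rw [incl_codLaw b (SymTen.tpowLaw A B d), incl_codLaw b' (SymTen.tpowLaw A B' d)]
  exact Tl_tpow l S x

theorem homog_precomp {W : Type u} [AddCommGroup W] [Module A W] {G : B' →ₚₗ[A] W} (hG : IsHomog G d)
    (l : B →ₗ[A] B') : IsHomog (PolLaw.precomp G l) d := fun S _ _ s x => by
  show G.toFun' S (l.lTensor S (s • x)) = s ^ d • G.toFun' S (l.lTensor S x)
  rw [← hG S]
  exact congrArg _ ((l.baseChange S).map_smul s x)

theorem rhoL_natural {W : Type u} [AddCommGroup W] [Module A W] {G : B' →ₚₗ[A] W} (hG : IsHomog G d)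
    (l : B →ₗ[A] B') : rhoL b' (d := d) G ∘ₗ TSl d l = rhoL b (PolLaw.precomp G l) := by
  apply lin_ext b
  rw [rhoL_tau b _ (homog_precomp hG l)]
  conv_rhs => rw [← rhoL_tau b' G hG]
  ext S _ _ x
  show (rhoL b' G ∘ₗ TSl d l).lTensor S _ = (rhoL b' (d := d) G).lTensor S ((tau b').law.toFun' S (l.lTensor S x))
  rw [LinearMap.lTensor_comp, LinearMap.comp_apply]
  exact congrArg _ (congrArg (fun F : B →ₚₗ[A] SymTen.TS A B' d => F.toFun' S x) (tau_natural b b' l))

end Natural

section Laws

variable {B B' C C' C'' : Type u} [CommRing B] [Algebra A B] [CommRing B'] [Algebra A B'] [CommRing C] [Algebra A C]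
  [CommRing C'] [Algebra A C'] [CommRing C''] [Algebra A C''] {n : ℕ}

theorem postcomp_precomp (F : MulLaw A B C n) (f : C →ₐ[A] C') (g : B' →ₐ[A] B) :
    (F.postcomp f).precomp g = (F.precomp g).postcomp f := MulLaw.ext (by ext S _ _ x; rfl)

theorem postcomp_postcomp (F : MulLaw A B C n) (f : C →ₐ[A] C') (g : C' →ₐ[A] C'') :
    (F.postcomp f).postcomp g = F.postcomp (g.comp f) := by
  apply MulLaw.ext
  ext S _ _ x
  show g.toLinearMap.lTensor S (f.toLinearMap.lTensor S (F.law.toFun' S x)) =
    (g.toLinearMap ∘ₗ f.toLinearMap).lTensor S (F.law.toFun' S x)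
  rw [LinearMap.lTensor_comp, LinearMap.comp_apply]

theorem lTensor_comp_apply' (g : C' →ₐ[A] C'') (f : C →ₐ[A] C') (S : Type u) [CommSemiring S] [Algebra A S]
    (z : S ⊗[A] C) :
    (g.comp f).toLinearMap.lTensor S z = g.toLinearMap.lTensor S (f.toLinearMap.lTensor S z) := by
  show (g.toLinearMap ∘ₗ f.toLinearMap).lTensor S z = _
  rw [LinearMap.lTensor_comp, LinearMap.comp_apply]

theorem mul_postcomp_apply (F : MulLaw A B C n) (f : C →ₐ[A] C') (S : Type u) [CommSemiring S] [Algebra A S]
    (x : S ⊗[A] B) : (F.postcomp f).law.toFun' S x = f.toLinearMap.lTensor S (F.law.toFun' S x) := rfl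

theorem mul_precomp_apply (F : MulLaw A B C n) (f : B' →ₐ[A] B) (S : Type u) [CommSemiring S] [Algebra A S]
    (x : S ⊗[A] B') : (F.precomp f).law.toFun' S x = F.law.toFun' S (f.toLinearMap.lTensor S x) := rfl

end Laws

section Cover

variable (A) (B : Type u) [CommRing B] [Algebra A B]

/-- the free cover -/
abbrev P : Type u := MvPolynomial B A

/-- its basis -/
noncomputable abbrev bP : Module.Basis (B →₀ ℕ) A (P A B) := MvPolynomial.basisMonomials B A

/-- the projection -/
noncomputable abbrev π : P A B →ₐ[A] B := MvPolynomial.aeval (id : B → B)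

/-- relations -/
abbrev P2 : Type u := MvPolynomial (B ⊕ LinearMap.ker (π A B).toLinearMap) A

/-- first map -/
noncomputable abbrev p₀ : P2 A B →ₐ[A] P A B := MvPolynomial.aeval (Sum.elim MvPolynomial.X fun _ => 0)

/-- second map -/
noncomputable abbrev p₁ : P2 A B →ₐ[A] P A B :=
  MvPolynomial.aeval (Sum.elim MvPolynomial.X fun k => (k : P A B))

theorem π_surjective : Function.Surjective (π A B) := aeval_id_surjective B

theorem π_p : (π A B).comp (p₀ A B) = (π A B).comp (p₁ A B) := by
  refine MvPolynomial.algHom_ext fun i => ?_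
  rcases i with i | ⟨k, hk⟩
  · simp
  · simpa using (LinearMap.mem_ker.1 hk).symm

theorem rpair : RPair (π A B).toLinearMap (p₀ A B).toLinearMap (p₁ A B).toLinearMap where
  surj := π_surjective A B
  split := ⟨(MvPolynomial.rename (Sum.inl : B → B ⊕ LinearMap.ker (π A B).toLinearMap)).toLinearMap, by
    constructor <;>
    · refine LinearMap.ext fun p => ?_
      simp [MvPolynomial.aeval_rename, MvPolynomial.aeval_X_left_apply]⟩
  ker_le k hk := ⟨MvPolynomial.X (Sum.inr ⟨k, hk⟩), by simp, by simp⟩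

theorem rpairT (d : ℕ) :
    RPair (SymTen.tmap A d (π A B)).toLinearMap (SymTen.tmap A d (p₀ A B)).toLinearMap
      (SymTen.tmap A d (p₁ A B)).toLinearMap where
  surj := by rw [tmap_tl]; exact Tl_surjective _ (π_surjective A B)
  split := by
    obtain ⟨σ, h0, h1⟩ := (rpair A B).split
    exact ⟨Tl d σ, by rw [tmap_tl, ← Tl_comp, h0]; exact PiTensorProduct.map_id,
      by rw [tmap_tl, ← Tl_comp, h1]; exact PiTensorProduct.map_id⟩
  ker_le := by
    classical
    rw [tmap_tl, tmap_tl, tmap_tl]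
    refine (ker_Tl_le _ (π_surjective A B)).trans (Submodule.span_le.2 ?_)
    rintro _ ⟨c, ⟨i, hi⟩, rfl⟩
    obtain ⟨σ, h0, h1⟩ := (rpair A B).split
    refine ⟨PiTensorProduct.tprod A (Function.update (fun j => σ (c j)) i (MvPolynomial.X (Sum.inr ⟨c i, hi⟩))), ?_, ?_⟩
    · rw [SetLike.mem_coe, LinearMap.mem_ker, PiTensorProduct.map_tprod]
      exact (PiTensorProduct.tprod A).map_coord_zero i (by simp)
    · rw [PiTensorProduct.map_tprod]
      congr 1
      funext j
      rcases eq_or_ne j i with rfl | hne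
      · simp
      · rw [Function.update_of_ne hne]
        exact LinearMap.congr_fun h1 (c j)

variable {A B} {C : Type u} [CommRing C] [Algebra A C]

/-- the map on symmetric tensors of the cover -/
noncomputable def rhoP (F : MulLaw A B C d) : SymTen.TS A (P A B) d →ₐ[A] C :=
  rho (bP A B) (F.precomp (π A B))

theorem rhoP_tau (F : MulLaw A B C d) : (tau (bP A B)).postcomp (rhoP F) = F.precomp (π A B) :=
  rho_tau _ _

theorem rhoP_tau_apply (F : MulLaw A B C d) (S : Type u) [CommSemiring S] [Algebra A S] (x : S ⊗[A] P A B) :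
    (rhoP F).toLinearMap.lTensor S ((tau (bP A B)).law.toFun' S x) =
      F.law.toFun' S ((π A B).toLinearMap.lTensor S x) := by
  rw [← mul_postcomp_apply, rhoP_tau, mul_precomp_apply]

theorem rho_natural {B₁ B₂ : Type u} [CommRing B₁] [Algebra A B₁] [CommRing B₂] [Algebra A B₂]
    {ι₁ ι₂ : Type u} (b₁ : Module.Basis ι₁ A B₁) (b₂ : Module.Basis ι₂ A B₂) (F : MulLaw A B₂ C d)
    (f : B₁ →ₐ[A] B₂) : (rho b₂ F).comp (SymTen.TSmap A d f) = rho b₁ (F.precomp f) := by
  apply AlgHom.toLinearMap_injective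
  rw [AlgHom.comp_toLinearMap, ← TSl_alg]
  exact rhoL_natural b₁ b₂ F.homog f.toLinearMap

theorem rhoP_p (F : MulLaw A B C d) :
    (rhoP F).comp (SymTen.TSmap A d (p₀ A B)) = (rhoP F).comp (SymTen.TSmap A d (p₁ A B)) := by
  rw [rhoP, rho_natural (MvPolynomial.basisMonomials _ A), rho_natural (MvPolynomial.basisMonomials _ A)]
  congr 1
  apply MulLaw.ext
  ext S _ _ x
  show F.law.toFun' S ((π A B).toLinearMap.lTensor S ((p₀ A B).toLinearMap.lTensor S x)) =
    F.law.toFun' S ((π A B).toLinearMap.lTensor S ((p₁ A B).toLinearMap.lTensor S x))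
  rw [← LinearMap.comp_apply, ← LinearMap.lTensor_comp, ← AlgHom.comp_toLinearMap, π_p,
    AlgHom.comp_toLinearMap, LinearMap.lTensor_comp, LinearMap.comp_apply]

/-- sum over permutations -/
noncomputable def symSum (B : Type u) [CommRing B] [Algebra A B] (d : ℕ) :
    (⨂[A] _ : Fin d, B) →ₗ[A] SymTen.TS A B d :=
  LinearMap.codRestrict (SymTen.TS A B d).toSubmodule
    (∑ σ : Equiv.Perm (Fin d), (SymTen.perm A B d σ).toLinearMap) fun t τ => by
    rw [← SymTen.perm_apply, LinearMap.sum_apply, map_sum]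
    exact Fintype.sum_equiv (Equiv.mulLeft τ) _ _ fun σ => by
      simp only [AlgHom.toLinearMap_apply, ← AlgHom.comp_apply, perm_perm]; rfl

theorem symSum_natural {B' : Type u} [CommRing B'] [Algebra A B'] (f : B →ₐ[A] B') (t : ⨂[A] _ : Fin d, B) :
    SymTen.TSmap A d f (symSum B d t) = symSum B' d (SymTen.tmap A d f t) := by
  apply Subtype.ext
  show SymTen.tmap A d f ((∑ σ : Equiv.Perm (Fin d), (SymTen.perm A B d σ).toLinearMap) t) =
    (∑ σ : Equiv.Perm (Fin d), (SymTen.perm A B' d σ).toLinearMap) (SymTen.tmap A d f t)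
  simp only [LinearMap.sum_apply, map_sum, AlgHom.toLinearMap_apply, SymTen.perm_apply, SymTen.tmap_reindex]

theorem symSum_incl (y : SymTen.TS A B d) : symSum B d (incl y) = d.factorial • y := by
  apply Subtype.ext
  show (∑ σ : Equiv.Perm (Fin d), (SymTen.perm A B d σ).toLinearMap) (incl y) = _
  rw [LinearMap.sum_apply]
  simp only [AlgHom.toLinearMap_apply]
  refine (Finset.sum_congr rfl fun σ _ => (SymTen.perm_apply A B d σ (incl y)).trans (y.2 σ)).trans ?_
  simp [Fintype.card_perm]

theorem psi_ker (F : MulLaw A B C d) :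
    LinearMap.ker (SymTen.tmap A d (π A B)).toLinearMap ≤
      LinearMap.ker ((rhoP F).toLinearMap ∘ₗ symSum (P A B) d) := by
  intro t ht
  obtain ⟨w, hw, rfl⟩ := (rpairT A B d).ker_le ht
  rw [LinearMap.mem_ker, LinearMap.comp_apply, AlgHom.toLinearMap_apply, AlgHom.toLinearMap_apply,
    ← symSum_natural (p₁ A B) w, ← AlgHom.comp_apply, ← rhoP_p, AlgHom.comp_apply, symSum_natural]
  rw [show SymTen.tmap A d (p₀ A B) w = 0 from hw, map_zero, map_zero]

/-- the polarisation of a law -/
noncomputable def Psi (F : MulLaw A B C d) : (⨂[A] _ : Fin d, B) →ₗ[A] C :=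
  (LinearMap.ker (SymTen.tmap A d (π A B)).toLinearMap).liftQ _ (psi_ker F) ∘ₗ
    ((SymTen.tmap A d (π A B)).toLinearMap.quotKerEquivOfSurjective (rpairT A B d).surj).symm.toLinearMap

theorem Psi_apply (F : MulLaw A B C d) (t : ⨂[A] _ : Fin d, P A B) :
    Psi F (SymTen.tmap A d (π A B) t) = rhoP F (symSum (P A B) d t) := by
  rw [Psi, LinearMap.comp_apply, LinearEquiv.coe_coe, ← AlgHom.toLinearMap_apply,
    LinearMap.quotKerEquivOfSurjective_symm_apply, Submodule.liftQ_apply]
  rfl

theorem normTS_natural {B₁ B₂ : Type u} [CommRing B₁] [Algebra A B₁] [CommRing B₂] [Algebra A B₂]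
    {ι₁ ι₂ : Type u} (b₁ : Module.Basis ι₁ A B₁) (b₂ : Module.Basis ι₂ A B₂) (f : B₁ →ₐ[A] B₂) :
    (normTS (d := d) b₁).postcomp (SymTen.TSmap A d f) = (normTS b₂).precomp (SymTen.tmap A d f) := by
  apply MulLaw.ext
  ext S _ _ x
  apply incl_injective b₂ S
  show incl.lTensor S ((SymTen.TSmap A d f).toLinearMap.lTensor S ((normTS b₁).law.toFun' S x)) =
    incl.lTensor S ((normTS b₂).law.toFun' S ((SymTen.tmap A d f).toLinearMap.lTensor S x))
  rw [← TSl_alg, ← LinearMap.comp_apply, ← LinearMap.lTensor_comp, incl_TSl, LinearMap.lTensor_comp,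
    LinearMap.comp_apply, normTS, normTS, incl_codLaw, incl_codLaw, tmap_symm, tmap_tl]

theorem norm_p (F : MulLaw A B C d) :
    ((normTS (bP A B)).postcomp (rhoP F)).precomp (SymTen.tmap A d (p₀ A B)) =
      ((normTS (bP A B)).postcomp (rhoP F)).precomp (SymTen.tmap A d (p₁ A B)) := by
  have key : ∀ p : P2 A B →ₐ[A] P A B, ((normTS (bP A B)).postcomp (rhoP F)).precomp (SymTen.tmap A d p) =
      (normTS (MvPolynomial.basisMonomials _ A)).postcomp ((rhoP F).comp (SymTen.TSmap A d p)) := fun p => by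
    rw [postcomp_precomp, ← normTS_natural (MvPolynomial.basisMonomials _ A) (bP A B) p, postcomp_postcomp]
  rw [key, key, rhoP_p]

/-- the norm from the tensor power attached to a law -/
noncomputable def Norm (F : MulLaw A B C d) : MulLaw A (⨂[A] _ : Fin d, B) C d.factorial :=
  descendMul (rpairT A B d) ((normTS (bP A B)).postcomp (rhoP F)) (norm_p F)

theorem Norm_apply (F : MulLaw A B C d) (S : Type u) [CommSemiring S] [Algebra A S]
    (x : S ⊗[A] (⨂[A] _ : Fin d, P A B)) :
    (Norm F).law.toFun' S ((SymTen.tmap A d (π A B)).toLinearMap.lTensor S x) =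
      (rhoP F).toLinearMap.lTensor S ((normTS (bP A B)).law.toFun' S x) :=
  descendMul_apply _ _ _ S x

theorem tau_p (p : P2 A B →ₐ[A] P A B) :
    (tau (d := d) (bP A B)).precomp p =
      (tau (MvPolynomial.basisMonomials _ A)).postcomp (SymTen.TSmap A d p) := by
  apply MulLaw.ext
  show PolLaw.precomp _ _ = PolLaw.postcomp _ _
  rw [← TSl_alg, tau_natural]

theorem rhoP_surjective {γ : MulLaw A B C d} (hγ : IsGammaD γ) : Function.Surjective (rhoP γ) := by
  set r := (rhoP γ).rangeRestrict
  have h : ((tau (bP A B)).postcomp r).precomp (p₀ A B) = ((tau (bP A B)).postcomp r).precomp (p₁ A B) := by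
    have key : ∀ p : P2 A B →ₐ[A] P A B, ((tau (bP A B)).postcomp r).precomp p =
        (tau (MvPolynomial.basisMonomials _ A)).postcomp (r.comp (SymTen.TSmap A d p)) := fun p => by
      rw [postcomp_precomp, tau_p, postcomp_postcomp]
    rw [key, key]
    congr 1
    ext t
    exact AlgHom.congr_fun (rhoP_p γ) t
  set G := descendMul (rpair A B) ((tau (bP A B)).postcomp r) h with hG
  have hι : G.postcomp (rhoP γ).range.val = γ := by
    apply MulLaw.ext
    ext S _ _ x
    obtain ⟨y, rfl⟩ := LinearMap.lTensor_surjective S (rpair A B).surj x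
    show (rhoP γ).range.val.toLinearMap.lTensor S (G.law.toFun' S _) = _
    rw [hG, descendMul_apply]
    show (rhoP γ).range.val.toLinearMap.lTensor S (r.toLinearMap.lTensor S _) = _
    rw [← LinearMap.comp_apply, ← LinearMap.lTensor_comp]
    exact congrArg (fun F : MulLaw A (P A B) C d => F.law.toFun' S y) (rhoP_tau γ)
  obtain ⟨f, hf, -⟩ := hγ _ G
  have hid : (rhoP γ).range.val.comp f = AlgHom.id A C := by
    refine (hγ C γ).unique ?_ ?_
    · conv_rhs => rw [← hι]
      ext S _ _ x
      show (((rhoP γ).range.val).comp f).toLinearMap.lTensor S _ = _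
      rw [AlgHom.comp_toLinearMap, LinearMap.lTensor_comp, LinearMap.comp_apply]
      exact congrArg _ (congrArg (fun F : B →ₚₗ[A] _ => F.toFun' S x) hf)
    · ext S _ _ x
      show (AlgHom.id A C).toLinearMap.lTensor S _ = _
      rw [AlgHom.toLinearMap_id, LinearMap.lTensor_id, LinearMap.id_apply]
  intro c
  obtain ⟨y, hy⟩ := (f c).2
  exact ⟨y, hy.trans (AlgHom.congr_fun hid c)⟩

section Phi

variable {φ : C →ₐ[A] SymTen.TS A B d} {γ : MulLaw A B C d}
  (hφ : ∀ (S : Type u) [CommSemiring S] [Algebra A S] (n : ℕ) (s : Fin n → S) (b : Fin n → B),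
    ((SymTen.TS A B d).val.comp φ).toLinearMap.lTensor S (γ.law.toFun' S (∑ j, s j ⊗ₜ[A] b j)) =
      ∑ c : Fin d → Fin n, (∏ i, s (c i)) ⊗ₜ[A] PiTensorProduct.tprod A (fun i => b (c i)))

include hφ

theorem phi_gamma (S : Type u) [CommSemiring S] [Algebra A S] (x : S ⊗[A] B) :
    ((SymTen.TS A B d).val.comp φ).toLinearMap.lTensor S (γ.law.toFun' S x) =
      (SymTen.tpowLaw A B d).law.toFun' S x := by
  obtain ⟨s, rfl⟩ := TensorProduct.exists_finset x
  have h := hφ S s.card (fun j => (s.equivFin.symm j).1.1) (fun j => (s.equivFin.symm j).1.2)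
  have e : ∑ j, (s.equivFin.symm j).1.1 ⊗ₜ[A] (s.equivFin.symm j).1.2 = ∑ i ∈ s, i.1 ⊗ₜ[A] i.2 := by
    rw [← Finset.sum_coe_sort s]
    exact Fintype.sum_equiv s.equivFin.symm _ _ fun j => rfl
  rw [← e, h, tpow_sum Finset.univ, Fintype.piFinset_univ]

theorem phi_rho : φ.comp (rhoP γ) = SymTen.TSmap A d (π A B) := by
  have key : ((SymTen.TS A B d).val.comp φ).comp (rhoP γ) =
      (SymTen.tmap A d (π A B)).comp (SymTen.TS A (P A B) d).val := by
    apply alg_ext (bP A B)
    ext S _ _ x
    show (((SymTen.TS A B d).val.comp φ).comp (rhoP γ)).toLinearMap.lTensor S ((tau (bP A B)).law.toFun' S x) =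
      ((SymTen.tmap A d (π A B)).comp (SymTen.TS A (P A B) d).val).toLinearMap.lTensor S ((tau (bP A B)).law.toFun' S x)
    rw [lTensor_comp_apply' ((SymTen.TS A B d).val.comp φ) (rhoP γ),
      lTensor_comp_apply' (SymTen.tmap A d (π A B))]
    rw [rhoP_tau_apply, tau, incl_codLaw, phi_gamma hφ, tmap_tl, Tl_tpow]
  ext t
  exact AlgHom.congr_fun key t

theorem val_phi_Norm (S : Type u) [CommSemiring S] [Algebra A S] (z : S ⊗[A] (⨂[A] _ : Fin d, B)) :
    ((SymTen.TS A B d).val.comp φ).toLinearMap.lTensor S ((Norm γ).law.toFun' S z) =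
      (SymTen.symmLaw A B d).law.toFun' S z := by
  obtain ⟨u, rfl⟩ := LinearMap.lTensor_surjective S (rpairT A B d).surj z
  rw [Norm_apply, ← LinearMap.comp_apply, ← LinearMap.lTensor_comp, ← AlgHom.comp_toLinearMap,
    AlgHom.comp_assoc, phi_rho hφ,
    show ((SymTen.TS A B d).val.comp (SymTen.TSmap A d (π A B))).toLinearMap =
      (SymTen.tmap A d (π A B)).toLinearMap ∘ₗ incl from rfl,
    LinearMap.lTensor_comp, LinearMap.comp_apply, normTS, incl_codLaw, tmap_tl, tmap_symm]

theorem val_phi_Psi (z : ⨂[A] _ : Fin d, B) : φ (Psi γ z) = symSum B d z := by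
  obtain ⟨u, rfl⟩ := (rpairT A B d).surj z
  rw [AlgHom.toLinearMap_apply, Psi_apply, ← AlgHom.comp_apply, phi_rho hφ, symSum_natural]

theorem Psi_phi (hγ : IsGammaD γ) (c : C) : Psi γ (incl (φ c)) = d.factorial • c := by
  obtain ⟨w, rfl⟩ := rhoP_surjective hγ c
  rw [← AlgHom.comp_apply φ, phi_rho hφ]
  show Psi γ (SymTen.tmap A d (π A B) (incl w)) = _
  rw [Psi_apply, symSum_incl, map_nsmul]

end Phi

end Cover

end Groth.Agent.ZeroCycLib
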