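import Groth.Agent.ZeroCycLib.Cover

/-! The norm law on symmetric tensors composed with the comparison map. -/

set_option autoImplicit false

universe u

open scoped TensorProduct
open Finset

namespace Groth.Agent.ZeroCycLib

open PolLaw

variable {A B C : Type u} [CommRing A] [CommRing B] [Algebra A B] [CommRing C] [Algebra A C] {d : ℕ}
  {φ : C →ₐ[A] SymTen.TS A B d} {γ : MulLaw A B C d}
  (hφ : ∀ (S : Type u) [CommSemiring S] [Algebra A S] (n : ℕ) (s : Fin n → S) (b : Fin n → B),
    ((SymTen.TS A B d).val.comp φ).toLinearMap.lTensor S (γ.law.toFun' S (∑ j, s j ⊗ₜ[A] b j)) =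
      ∑ c : Fin d → Fin n, (∏ i, s (c i)) ⊗ₜ[A] PiTensorProduct.tprod A (fun i => b (c i)))

theorem perm_val (σ : Equiv.Perm (Fin d)) :
    (SymTen.perm A B d σ).comp (SymTen.TS A B d).val = (SymTen.TS A B d).val :=
  AlgHom.ext fun t => (SymTen.perm_apply A B d σ _).trans (t.2 σ)

theorem symm_val (S : Type u) [CommSemiring S] [Algebra A S] (y : S ⊗[A] SymTen.TS A B d) :
    (SymTen.symmLaw A B d).law.toFun' S ((SymTen.TS A B d).val.toLinearMap.lTensor S y) =
      (SymTen.TS A B d).val.toLinearMap.lTensor S (y ^ d.factorial) := by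
  simp only [SymTen.symmLaw, MulLaw.prodMap_toFun']
  rw [lTensor_algHom_apply, lTensor_algHom_apply, map_pow]
  simp only [map_id_comp, perm_val, Finset.prod_const, Finset.card_univ, Fintype.card_perm, Fintype.card_fin]

include hφ

theorem postcomp_norm :
    ((Norm γ).precomp (SymTen.TS A B d).val).postcomp φ = MulLaw.pow A (SymTen.TS A B d) d.factorial := by
  apply MulLaw.ext
  refine ext_poly fun σ y => ?_
  apply Module.Flat.lTensor_preserves_injective_linearMap (M := MvPolynomial σ A)
    (SymTen.TS A B d).val.toLinearMap Subtype.val_injective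
  show (SymTen.TS A B d).val.toLinearMap.lTensor _ (φ.toLinearMap.lTensor _ ((Norm γ).law.toFun' _
    ((SymTen.TS A B d).val.toLinearMap.lTensor _ y))) =
    (SymTen.TS A B d).val.toLinearMap.lTensor _ (y ^ d.factorial)
  rw [← lTensor_comp_apply', val_phi_Norm hφ, symm_val]

theorem precomp_norm (hγ : IsGammaD γ) :
    ((Norm γ).precomp (SymTen.TS A B d).val).precomp φ = MulLaw.pow A C d.factorial := by
  apply MulLaw.ext
  ext S _ _ y
  obtain ⟨w, rfl⟩ := LinearMap.lTensor_surjective S (rhoP_surjective hγ : Function.Surjective (rhoP γ).toLinearMap) y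
  show (Norm γ).law.toFun' S ((SymTen.TS A B d).val.toLinearMap.lTensor S
    (φ.toLinearMap.lTensor S ((rhoP γ).toLinearMap.lTensor S w))) = ((rhoP γ).toLinearMap.lTensor S w) ^ d.factorial
  have e : (SymTen.TS A B d).val.toLinearMap.lTensor S
      (φ.toLinearMap.lTensor S ((rhoP γ).toLinearMap.lTensor S w)) =
      (SymTen.tmap A d (π A B)).toLinearMap.lTensor S (incl.lTensor S w) := by
    rw [← lTensor_comp_apply' φ, phi_rho hφ, ← lTensor_comp_apply', ← LinearMap.comp_apply, ← LinearMap.lTensor_comp]
    rfl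
  have hn : (normTS (bP A B)).law.toFun' S (incl.lTensor S w) = w ^ d.factorial := by
    apply incl_injective (bP A B) S
    simp only [normTS]
    rw [incl_codLaw, symm_val]
  rw [e, Norm_apply, hn, lTensor_algHom_apply, lTensor_algHom_apply, map_pow]

end Groth.Agent.ZeroCycLib
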