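import Groth.Agent.ZeroCycLib.Flat
import Groth.Agent.ZeroCycLib.PowLaw
import Mathlib.RingTheory.Finiteness.Basic
import Mathlib.RingTheory.IntegralClosure.IsIntegralClosure.Basic

/-! First consequences for divided power algebras. -/

set_option autoImplicit false

universe u

open scoped TensorProduct
open Finset

namespace Groth.Agent.ZeroCycLib

open PolLaw

variable {A B C : Type u} [CommRing A] [CommRing B] [Algebra A B] [CommRing C] [Algebra A C] {d : ℕ}
  {γ : MulLaw A B C d}

theorem exists_phi (hγ : IsGammaD γ) : ∃ φ : C →ₐ[A] SymTen.TS A B d,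
    ∀ (S : Type u) [CommSemiring S] [Algebra A S] (n : ℕ) (s : Fin n → S) (b : Fin n → B),
    ((SymTen.TS A B d).val.comp φ).toLinearMap.lTensor S (γ.law.toFun' S (∑ j, s j ⊗ₜ[A] b j)) =
      ∑ c : Fin d → Fin n, (∏ i, s (c i)) ⊗ₜ[A] PiTensorProduct.tprod A (fun i => b (c i)) := by
  obtain ⟨φ, hφ, -⟩ := hγ _ (tauB A B d)
  refine ⟨φ, fun S _ _ n s b => ?_⟩
  rw [lTensor_comp_apply', ← postcomp_apply φ.toLinearMap, hφ, val_tauB, tpow_sum Finset.univ, Fintype.piFinset_univ]

theorem span_ev_gamma (hγ : IsGammaD γ) : Submodule.span A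
    {c : C | ∃ (σ : Type u) (x : MvPolynomial σ A ⊗[A] B) (l : MvPolynomial σ A →ₗ[A] A),
      c = ev γ.law (MvPolynomial σ A) x l} = ⊤ := by
  rw [Submodule.eq_top_iff']
  intro c
  obtain ⟨w, rfl⟩ := rhoP_surjective hγ c
  induction span_ev_tau (bP A B) ▸ (Submodule.mem_top (x := w)) using Submodule.span_induction with
  | mem w hw =>
    obtain ⟨σ, x, l, rfl⟩ := hw
    refine Submodule.subset_span ⟨σ, (π A B).toLinearMap.lTensor _ x, l, ?_⟩
    show (rhoP γ).toLinearMap (ev _ _ _ _) = _
    rw [← ev_postcomp, ev, ev, postcomp_apply, rhoP_tau_apply]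
  | zero => rw [map_zero]; exact Submodule.zero_mem _
  | add p q _ _ hp hq => rw [map_add]; exact Submodule.add_mem _ hp hq
  | smul a p _ hp => rw [map_smul]; exact Submodule.smul_mem _ a hp

theorem finite_gamma (hγ : IsGammaD γ) [Module.Finite A B] : Module.Finite A C := by
  classical
  obtain ⟨n, f, hf⟩ := Module.Finite.exists_fin' A B
  let e : Fin n → B := fun j => f (Pi.single j 1)
  obtain ⟨s, hs⟩ := TensorProduct.exists_finset
    (γ.law.toFun' (MvPolynomial (Fin n) A) (∑ j, MvPolynomial.X j ⊗ₜ[A] e j))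
  refine ⟨⟨s.image Prod.snd, top_unique ((span_ev_gamma hγ).ge.trans (Submodule.span_le.2 ?_))⟩⟩
  rintro _ ⟨σ, x, l, rfl⟩
  obtain ⟨r, rfl⟩ : ∃ r : Fin n → MvPolynomial σ A, x = ∑ j, r j ⊗ₜ[A] e j := by
    induction x using TensorProduct.induction_on with
    | zero => exact ⟨0, by simp⟩
    | tmul p b =>
      obtain ⟨c, rfl⟩ := hf b
      refine ⟨fun j => c j • p, ?_⟩
      conv_lhs => rw [pi_eq_sum_univ c, map_sum, TensorProduct.tmul_sum]
      refine Finset.sum_congr rfl fun j _ => ?_
      have ec : (fun i => if j = i then (1 : A) else 0) = Pi.single j 1 := by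
        funext i; simp [Pi.single_apply, eq_comm]
      rw [map_smul, ec, TensorProduct.smul_tmul]
    | add a b ha hb =>
      obtain ⟨r, rfl⟩ := ha
      obtain ⟨r', rfl⟩ := hb
      exact ⟨r + r', by simp [TensorProduct.add_tmul, Finset.sum_add_distrib]⟩
  have hx : (MvPolynomial.aeval (R := A) r).toLinearMap.rTensor B (∑ j, MvPolynomial.X j ⊗ₜ[A] e j) =
      ∑ j, r j ⊗ₜ[A] e j := by simp [map_sum]
  rw [ev, ← hx, ← compat, hs, map_sum, map_sum, map_sum]
  refine Submodule.sum_mem _ fun i hi => ?_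
  simp only [LinearMap.rTensor_tmul, TensorProduct.lid_tmul]
  exact Submodule.smul_mem _ _ (Submodule.subset_span (Finset.mem_coe.2 (Finset.mem_image_of_mem _ hi)))

theorem isIntegral_tensor [Algebra.IsIntegral A B] : Algebra.IsIntegral A (⨂[A] _ : Fin d, B) := ⟨fun t => by
  classical
  induction t using PiTensorProduct.induction_on with
  | smul_tprod r c =>
    refine IsIntegral.smul r ?_
    rw [← Finset.univ_prod_mulSingle c, PiTensorProduct.tprod_prod]
    refine IsIntegral.prod _ fun i _ => ?_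
    exact (Algebra.IsIntegral.isIntegral (R := A) (c i)).map
      (PiTensorProduct.singleAlgHom (R := A) (A := fun _ : Fin d => B) i)
  | add x y hx hy => exact hx.add hy⟩

theorem flat_TS [Module.Flat A B] : Module.Flat A (SymTen.TS A B d) := by
  classical
  have : Module.Free A (⨂[A] _ : Fin d, P A B) := .of_basis (bT (bP A B))
  have : Module.Flat A (SymTen.TS A (P A B) d) :=
    Module.Flat.of_retract incl (retr (bP A B)) (LinearMap.ext (retr_incl (bP A B)))
  refine Module.Flat.of_forall_isTrivialRelation fun {n f x} h => ?_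
  choose z hz using fun i => TSmap_surjective_of_flat (B := B) (d := d) (x i)
  have hk : incl (∑ i, f i • z i) ∈ slotKer d (π A B).toLinearMap := by
    refine ker_Tl_le _ (π_surjective A B) ?_
    rw [LinearMap.mem_ker, ← tmap_tl]
    refine congrArg Subtype.val (?_ : SymTen.TSmap A d (π A B) (∑ i, f i • z i) = 0)
    simp only [map_sum, map_smul, hz, h]
  obtain ⟨R, hR, hkill⟩ := exists_finset_kill _ hk
  obtain ⟨l, hl, hlR⟩ := exists_endo R hR
  have hrel : ∑ i, f i • TSl d l (z i) = 0 := by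
    rw [← (Finset.sum_congr rfl fun i _ => map_smul (TSl d l) (f i) (z i)), ← map_sum]
    exact Subtype.ext (hkill _ l hlR)
  obtain ⟨κ, a, y, ha, hfa⟩ := Module.Flat.isTrivialRelation_of_sum_smul_eq_zero hrel
  refine ⟨κ, a, fun j => SymTen.TSmap A d (π A B) (y j), fun i => ?_, hfa⟩
  have hi : SymTen.TSmap A d (π A B) (TSl d l (z i)) = x i := by
    rw [← hz i]
    refine Subtype.ext ?_
    show SymTen.tmap A d (π A B) (Tl d l (incl (z i))) = SymTen.tmap A d (π A B) (incl (z i))
    rw [← AlgHom.toLinearMap_apply, ← AlgHom.toLinearMap_apply, tmap_tl, ← LinearMap.comp_apply, ← Tl_comp, hl]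
  have hai : TSl d l (z i) = ∑ j, a i j • y j := ha i
  rw [← hi, hai, map_sum]
  exact Finset.sum_congr rfl fun j _ => map_smul _ _ _

end Groth.Agent.ZeroCycLib
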