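import Groth.Agent.ZeroCycLib.KerTools
import Mathlib.RingTheory.TensorProduct.Pi
import Mathlib.RingTheory.Norm.Basic
import Mathlib.RingTheory.TensorProduct.MvPolynomial
import Mathlib.RingTheory.Nilpotent.Lemmas

/-! Laws on an algebra split by a base change. -/

set_option autoImplicit false

universe u

open scoped TensorProduct

namespace Groth.Agent.ZeroCycLib

open PolLaw

variable {A B T : Type u} [CommRing A] [CommRing B] [Algebra A B] [CommRing T] [Algebra A T] {d : ℕ}
  (ψ : T ⊗[A] B ≃ₐ[T] Fin d → T)

/-- the coordinates over an algebra over the splitting ring -/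
noncomputable def coord (R : Type u) [CommRing R] [Algebra A R] [Algebra T R] [IsScalarTower A T R] :
    R ⊗[A] B ≃ₐ[R] Fin d → R :=
  (Algebra.TensorProduct.cancelBaseChange A T R R B).symm.trans
    ((Algebra.TensorProduct.congr AlgEquiv.refl ψ).trans (Algebra.TensorProduct.piScalarRight T R R (Fin d)))

section

variable {R R' : Type u} [CommRing R] [Algebra A R] [Algebra T R] [IsScalarTower A T R]
  [CommRing R'] [Algebra A R'] [Algebra T R'] [IsScalarTower A T R']

theorem coord_tmul (r : R) (b : B) (i : Fin d) :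
    coord ψ R (r ⊗ₜ[A] b) i = r * algebraMap T R (ψ (1 ⊗ₜ[A] b) i) := by
  simp [coord, Algebra.smul_def, mul_comm]

theorem coord_chg (g : R →ₐ[T] R') (x : R ⊗[A] B) (i : Fin d) :
    coord ψ R' (chg B (g.restrictScalars A) x) i = g (coord ψ R x i) := by
  induction x using TensorProduct.induction_on with
  | zero => simp
  | add p q hp hq => simp only [map_add, Pi.add_apply, hp, hq]
  | tmul r b =>
    rw [Algebra.TensorProduct.map_tmul, AlgHom.id_apply, coord_tmul, coord_tmul, map_mul, AlgHom.commutes]
    rfl

theorem chg_coord_symm (g : R →ₐ[T] R') (f : Fin d → R) :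
    chg B (g.restrictScalars A) ((coord ψ R).symm f) = (coord ψ R').symm fun i => g (f i) := by
  rw [AlgEquiv.eq_symm_apply]
  funext i
  rw [coord_chg, AlgEquiv.apply_symm_apply]

end

variable (F : MulLaw A B A d)

theorem nm_prod {R : Type u} [CommRing R] [Algebra A R] {κ : Type} (s : Finset κ) (f : κ → R ⊗[A] B) :
    nm F R (∏ i ∈ s, f i) = ∏ i ∈ s, nm F R (f i) :=
  map_prod ({ toFun := nm F R, map_one' := nm_one F, map_mul' := nm_mul F } : R ⊗[A] B →* R) f s

/-- the multiplicity polynomial of a coordinate -/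
noncomputable def mpoly (R : Type u) [CommRing R] [Algebra A R] [Algebra T R] [IsScalarTower A T R] (i : Fin d) :
    Polynomial R :=
  nm F (Polynomial R) ((coord ψ (Polynomial R)).symm (Function.update 1 i Polynomial.X))

section

variable {R R' : Type u} [CommRing R] [Algebra A R] [Algebra T R] [IsScalarTower A T R]
  [CommRing R'] [Algebra A R'] [Algebra T R'] [IsScalarTower A T R']

theorem update_one_map {S S' G : Type u} [CommRing S] [CommRing S'] [FunLike G S S'] [RingHomClass G S S'] (g : G)
    (i : Fin d) (s : S) : (fun j => g (Function.update (1 : Fin d → S) i s j)) = Function.update (1 : Fin d → S') i (g s) := by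
  funext j
  rcases eq_or_ne j i with rfl | h
  · simp
  · simp [Function.update_of_ne h]

theorem nm_update (i : Fin d) (s : R) :
    nm F R ((coord ψ R).symm (Function.update 1 i s)) = Polynomial.aeval s (mpoly ψ F R i) := by
  show _ = ((Polynomial.aeval s : Polynomial R →ₐ[R] R).restrictScalars T).restrictScalars A _
  rw [mpoly, nm_natural, chg_coord_symm, update_one_map]
  simp

theorem nm_eq_prod (x : R ⊗[A] B) :
    nm F R x = ∏ i, Polynomial.aeval (coord ψ R x i) (mpoly ψ F R i) := by
  classical
  simp only [← nm_update]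
  have e : x = ∏ i, (coord ψ R).symm (Function.update 1 i (coord ψ R x i)) := by
    rw [← map_prod, AlgEquiv.eq_symm_apply]
    funext j
    rw [Finset.prod_apply, Finset.prod_eq_single j (fun i _ hij => by rw [Function.update_of_ne hij.symm]; rfl)
      (fun h => absurd (Finset.mem_univ j) h), Function.update_self]
  conv_lhs => rw [e]
  exact nm_prod F _ _

theorem mpoly_map (g : R →ₐ[T] R') (i : Fin d) : (mpoly ψ F R i).map g.toRingHom = mpoly ψ F R' i := by
  show ((Polynomial.mapAlgHom g).restrictScalars A) _ = _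
  rw [mpoly, nm_natural, chg_coord_symm, update_one_map, mpoly]
  simp

theorem mpoly_prod : ∏ i, mpoly ψ F R i = Polynomial.X ^ d := by
  classical
  simp only [mpoly]
  rw [← nm_prod, ← map_prod]
  have e : ∏ i : Fin d, Function.update (1 : Fin d → Polynomial R) i Polynomial.X =
      (Polynomial.X : Polynomial R) • (1 : Fin d → Polynomial R) := by
    funext j
    rw [Finset.prod_apply, Finset.prod_eq_single j (fun i _ hij => by rw [Function.update_of_ne hij.symm]; rfl)
      (fun h => absurd (Finset.mem_univ j) h), Function.update_self]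
    simp
  rw [e, map_smul, map_one]
  exact (nm_smul F _ _).trans (by rw [nm_one, mul_one])

theorem mpoly_orth (i : Fin d) (m n : ℕ) :
    (mpoly ψ F R i).coeff m * (mpoly ψ F R i).coeff n = if m = n then (mpoly ψ F R i).coeff n else 0 := by
  classical
  set p := mpoly ψ F R i with hp
  let g₁ : Polynomial R →ₐ[R] Polynomial (Polynomial R) := Polynomial.aeval (Polynomial.C Polynomial.X)
  let g₂ : Polynomial R →ₐ[R] Polynomial (Polynomial R) := Polynomial.aeval Polynomial.X
  let g₃ : Polynomial R →ₐ[R] Polynomial (Polynomial R) := Polynomial.aeval (Polynomial.C Polynomial.X * Polynomial.X)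
  have h : ∀ g : Polynomial R →ₐ[R] Polynomial (Polynomial R), g p = nm F _ ((coord ψ (Polynomial (Polynomial R))).symm
      (Function.update 1 i (g Polynomial.X))) := fun g => by
    show ((g.restrictScalars T).restrictScalars A) p = _
    rw [hp, mpoly, nm_natural, chg_coord_symm, update_one_map]
    rfl
  have hmul : g₁ p * g₂ p = g₃ p := by
    rw [h, h, h, ← nm_mul, ← map_mul]
    congr 2
    funext j
    rcases eq_or_ne j i with rfl | hji
    · simp [g₁, g₂, g₃]
    · simp [Function.update_of_ne hji]
  have hg₁ : g₁ p = Polynomial.C p := by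
    have : g₁ = IsScalarTower.toAlgHom R (Polynomial R) (Polynomial (Polynomial R)) :=
      Polynomial.algHom_ext (by simp [g₁])
    rw [this]; rfl
  have hg₂ : g₂ p = p.map Polynomial.C := by
    have : g₂ = Polynomial.mapAlgHom (Algebra.ofId R (Polynomial R)) := Polynomial.algHom_ext (by simp [g₂])
    rw [this]; rfl
  have hg₃ : g₃ p = (p.map Polynomial.C).comp (Polynomial.C Polynomial.X * Polynomial.X) := by
    rw [Polynomial.comp, Polynomial.eval₂_map]
    rfl
  rw [hg₁, hg₂, hg₃] at hmul
  have := congrArg (fun q => (Polynomial.coeff q n).coeff m) hmul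
  simp only [Polynomial.coeff_C_mul, Polynomial.coeff_map, Polynomial.comp_C_mul_X_coeff,
    Polynomial.coeff_mul_C, Polynomial.coeff_X_pow, mul_ite, mul_one, mul_zero] at this
  exact this

theorem mpoly_eq_X_pow [IsDomain R] (i : Fin d) : ∃ k, mpoly ψ F R i = Polynomial.X ^ k := by
  have hne : mpoly ψ F R i ≠ 0 := fun h => by
    have := mpoly_prod ψ F (R := R)
    rw [Finset.prod_eq_zero (Finset.mem_univ i) h] at this
    exact pow_ne_zero d Polynomial.X_ne_zero this.symm
  obtain ⟨k, hk⟩ : ∃ k, (mpoly ψ F R i).coeff k ≠ 0 := by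
    by_contra h
    push Not at h
    exact hne (Polynomial.ext fun k => by rw [h k, Polynomial.coeff_zero])
  have hk1 : (mpoly ψ F R i).coeff k = 1 :=
    mul_left_cancel₀ hk ((by simpa using mpoly_orth ψ F (R := R) i k k : _ = _).trans (mul_one _).symm)
  refine ⟨k, Polynomial.ext fun j => ?_⟩
  rw [Polynomial.coeff_X_pow]
  rcases eq_or_ne j k with rfl | hjk
  · rw [if_pos rfl, hk1]
  · simpa [hk1, hjk] using mpoly_orth ψ F (R := R) i j k

theorem mpoly_domain [IsDomain R] (hker : PolLaw.ker F.law ≤ nilradical B) (i : Fin d) :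
    mpoly ψ F R i = Polynomial.X := by
  classical
  choose k hk using mpoly_eq_X_pow ψ F (R := R)
  have hpos : ∀ j, k j ≠ 0 := by
    intro j hj
    have hkill : Killed F R ((coord ψ R).symm (Pi.single j 1)) := by
      intro R' _ _ g x w
      let _ : Algebra T R' := (g.toRingHom.comp (algebraMap T R)).toAlgebra
      have : IsScalarTower A T R' := IsScalarTower.of_algebraMap_eq fun a => by
        show algebraMap A R' a = g (algebraMap T R (algebraMap A T a))
        rw [← IsScalarTower.algebraMap_apply, g.commutes]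
      let g' : R →ₐ[T] R' := { g.toRingHom with commutes' := fun _ => rfl }
      rw [nm_eq_prod ψ F, nm_eq_prod ψ F]
      refine Finset.prod_congr rfl fun l _ => ?_
      rcases eq_or_ne l j with rfl | hl
      · rw [← mpoly_map ψ F g' l, hk, hj, pow_zero, Polynomial.map_one, map_one, map_one]
      · rw [show g = g'.restrictScalars A from rfl, map_add, map_mul, Pi.add_apply, Pi.mul_apply, coord_chg,
          AlgEquiv.apply_symm_apply, Pi.single_eq_of_ne hl, map_zero, mul_zero, add_zero]
    have h1 := pow_mem_map_ker F hkill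
    have hd : d ≠ 0 := fun h => (h ▸ j).elim0
    have h2 : ((coord ψ R).symm (Pi.single j 1)) ^ d = (coord ψ R).symm (Pi.single j 1) := by
      rw [← map_pow]
      congr 1
      funext l
      rcases eq_or_ne l j with rfl | hl
      · simp
      · simp [Pi.single_eq_of_ne hl, zero_pow hd]
    rw [h2] at h1
    have h3 : IsNilpotent ((coord ψ R).symm (Pi.single j (1 : R))) := by
      have hle : (PolLaw.ker F.law).map (Algebra.TensorProduct.includeRight : B →ₐ[A] R ⊗[A] B) ≤
          nilradical (R ⊗[A] B) := Ideal.map_le_iff_le_comap.2 fun b hb => IsNilpotent.map (hker hb) _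
      exact hle h1
    have h4 := congrFun ((coord ψ R).apply_symm_apply (Pi.single j (1 : R))) j
    have h5 := (h3.map (coord ψ R)).map (Pi.evalRingHom (fun _ : Fin d => R) j)
    simp only [Pi.evalRingHom_apply, h4, Pi.single_eq_same] at h5
    exact one_ne_zero h5.eq_zero
  have hsum : ∑ j, k j = d := by
    have := congrArg Polynomial.natDegree (mpoly_prod ψ F (R := R))
    simpa [hk, Finset.prod_pow_eq_pow_sum] using this
  have hle : ∀ j, k j = 1 := fun j => by
    have h1 : ∑ l ∈ Finset.univ.erase j, 1 ≤ ∑ l ∈ Finset.univ.erase j, k l :=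
      Finset.sum_le_sum fun l _ => Nat.one_le_iff_ne_zero.2 (hpos l)
    have h2 := Finset.add_sum_erase Finset.univ k (Finset.mem_univ j)
    rw [Finset.sum_const, smul_eq_mul, mul_one, Finset.card_erase_of_mem (Finset.mem_univ j), Finset.card_univ,
      Fintype.card_fin] at h1
    have := hpos j
    omega
  rw [hk, hle, pow_one]

theorem mpoly_eq_X (hker : PolLaw.ker F.law ≤ nilradical B) (i : Fin d) : mpoly ψ F R i = Polynomial.X := by
  have hq : ∀ (q : Ideal R) [q.IsPrime] (j : ℕ), (mpoly ψ F R i).coeff j - (Polynomial.X : Polynomial R).coeff j ∈ q := by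
    intro q _ j
    rw [← Ideal.Quotient.eq_zero_iff_mem, map_sub, ← Polynomial.coeff_map, ← Polynomial.coeff_map, Polynomial.map_X,
      show (mpoly ψ F R i).map (Ideal.Quotient.mk q) = mpoly ψ F (R ⧸ q) i from
        mpoly_map ψ F (Ideal.Quotient.mkₐ T q) i,
      mpoly_domain ψ F hker, sub_self]
  have hidem : ∀ j, IsIdempotentElem ((mpoly ψ F R i).coeff j) := fun j => by
    show _ * _ = _
    simpa using mpoly_orth ψ F (R := R) i j j
  have h0 : ∀ j, j ≠ 1 → (mpoly ψ F R i).coeff j = 0 := fun j hj =>
    (hidem j).eq_zero_of_isNilpotent (nilpotent_iff_mem_prime.2 fun q hq' => by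
      simpa [Polynomial.coeff_X, Ne.symm hj] using hq q j)
  have h1 : (mpoly ψ F R i).coeff 1 = 1 := by
    refine (sub_eq_zero.1 ((hidem 1).one_sub.eq_zero_of_isNilpotent (nilpotent_iff_mem_prime.2 fun q hq' => ?_))).symm
    have := q.neg_mem_iff.2 (hq q 1)
    simpa using this
  refine Polynomial.ext fun j => ?_
  rcases eq_or_ne j 1 with rfl | hj
  · simpa using h1
  · simpa [Polynomial.coeff_X, Ne.symm hj] using h0 j hj

theorem nm_eq_prod_coord (hker : PolLaw.ker F.law ≤ nilradical B) (x : R ⊗[A] B) :
    nm F R x = ∏ i, coord ψ R x i := by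
  simp [nm_eq_prod ψ F, mpoly_eq_X ψ F hker]

theorem norm_eq_prod_coord (x : R ⊗[A] B) : Algebra.norm R x = ∏ i, coord ψ R x i := by
  classical
  rw [← Algebra.norm_eq_of_algEquiv (coord ψ R) x, Algebra.norm_eq_matrix_det (Pi.basisFun R (Fin d))]
  have : Algebra.leftMulMatrix (Pi.basisFun R (Fin d)) (coord ψ R x) = Matrix.diagonal (coord ψ R x) := by
    ext a b
    rw [Algebra.leftMulMatrix_eq_repr_mul]
    simp [Matrix.diagonal, Pi.single_apply, eq_comm]
  rw [this, Matrix.det_diagonal]

end

include ψ in
theorem det_law_unique (hinj : Function.Injective (algebraMap A T)) (N : MulLaw A B A d)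
    (hN : ∀ (S : Type u) [CommRing S] [Algebra A S] (x : S ⊗[A] B),
      N.law.toFun' S x = Algebra.norm S x ⊗ₜ[A] (1 : A))
    (hBT : Function.Injective (fun b : B => (1 : T) ⊗ₜ[A] b)) :
    PolLaw.ker N.law = ⊥ ∧ ∀ F : MulLaw A B A d, PolLaw.ker F.law ≤ nilradical B → F = N := by
  classical
  have hnm : ∀ (S : Type u) [CommRing S] [Algebra A S] (x : S ⊗[A] B), nm N S x = Algebra.norm S x := fun S _ _ x => by
    simp [nm, hN]
  constructor
  · rw [eq_bot_iff]
    intro b hb
    rw [Ideal.mem_bot]
    refine hBT ?_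
    show (1 : T) ⊗ₜ[A] b = 1 ⊗ₜ[A] (0 : B)
    rw [TensorProduct.tmul_zero]
    apply ψ.injective
    funext j
    rw [map_zero, Pi.zero_apply]
    have h := nm_add_of_mem_ker N hb (Polynomial T) 1 ((coord ψ _).symm (Pi.single j Polynomial.X))
    rw [nm_one, hnm, norm_eq_prod_coord ψ, Finset.prod_eq_single j (fun l _ hl => by
        simp [Pi.single_eq_of_ne hl]) (fun h => absurd (Finset.mem_univ j) h),
      map_add, map_one, map_mul, AlgEquiv.apply_symm_apply, Pi.add_apply, Pi.one_apply, Pi.mul_apply,
      Pi.single_eq_same, coord_tmul, one_mul] at h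
    have h' := congrArg (fun q => Polynomial.coeff q 1) h
    simpa [Polynomial.coeff_one] using h'
  · intro F hker
    apply MulLaw.ext
    refine ext_poly fun σ x => ?_
    rw [toFun_eq_nm F, toFun_eq_nm N]
    refine congrArg (fun r => r ⊗ₜ[A] (1 : A)) ?_
    let ι : MvPolynomial σ A →ₐ[A] MvPolynomial σ T := MvPolynomial.mapAlgHom (Algebra.ofId A T)
    have hι : Function.Injective ι := MvPolynomial.map_injective _ hinj
    apply hι
    rw [nm_natural, nm_natural, hnm, nm_eq_prod_coord ψ F hker, norm_eq_prod_coord ψ]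

end Groth.Agent.ZeroCycLib
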