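import Groth.Agent.ZeroCycLib.Cover
import Mathlib.RingTheory.PolynomialAlgebra
import Mathlib.Algebra.Polynomial.BigOperators

/-! Cayley–Hamilton for multiplicative laws. -/

set_option autoImplicit false

universe u

open scoped TensorProduct
open Finset Polynomial

namespace Groth.Agent.ZeroCycLib

open PolLaw

variable {A B : Type u} [CommRing A] [CommRing B] [Algebra A B] {d : ℕ}

/-- `A[X] ⊗ T → T[X]` -/
noncomputable def theta (T : Type u) [CommRing T] [Algebra A T] : Polynomial A ⊗[A] T →ₐ[A] Polynomial T :=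
  Algebra.TensorProduct.lift (Polynomial.mapAlgHom (Algebra.ofId A T)) (Polynomial.CAlgHom (R := A) (A := T))
    (fun _ _ => Commute.all _ _)

theorem theta_tmul (T : Type u) [CommRing T] [Algebra A T] (p : Polynomial A) (t : T) :
    theta (A := A) T (p ⊗ₜ[A] t) = p.map (algebraMap A T) * Polynomial.C t := by
  simp [theta, Polynomial.mapAlgHom, Algebra.ofId]

theorem coeff_theta (T : Type u) [CommRing T] [Algebra A T] (z : Polynomial A ⊗[A] T) (k : ℕ) :
    (theta (A := A) T z).coeff k = TensorProduct.lid A T ((Polynomial.lcoeff A k).rTensor T z) := by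
  induction z using TensorProduct.induction_on with
  | zero => simp
  | tmul p t => simp [theta_tmul, Algebra.smul_def]
  | add a b ha hb => simp only [map_add, Polynomial.coeff_add, ha, hb]

theorem coeff_rid (z : Polynomial A ⊗[A] A) (k : ℕ) :
    (TensorProduct.rid A (Polynomial A) z).coeff k = TensorProduct.lid A A ((Polynomial.lcoeff A k).rTensor A z) := by
  induction z using TensorProduct.induction_on with
  | zero => simp
  | tmul p a => simp [mul_comm]
  | add a b ha hb => simp only [map_add, Polynomial.coeff_add, ha, hb]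

local notation "T" => (⨂[A] _ : Fin d, P A B)

/-- the j-th factor -/
noncomputable abbrev slot (j : Fin d) : P A B →ₐ[A] T :=
  PiTensorProduct.singleAlgHom (R := A) (A := fun _ : Fin d => P A B) j

/-- generic characteristic coefficients -/
noncomputable def esym (b : P A B) (k : ℕ) : SymTen.TS A (P A B) d :=
  ev (tau (bP A B)).law (Polynomial A) (1 ⊗ₜ[A] b - Polynomial.X ⊗ₜ[A] (1 : P A B)) (Polynomial.lcoeff A k)

/-- generic characteristic polynomial -/
noncomputable def chPoly (b : P A B) : Polynomial T :=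
  ∏ j : Fin d, (Polynomial.C (slot (A := A) (B := B) j b) - Polynomial.X)

theorem val_esym (b : P A B) (k : ℕ) :
    incl (esym (d := d) b k) = (chPoly b).coeff k := by
  rw [esym, ev, lid_rTensor_lTensor (incl (A := A) (B := P A B) (d := d)), tau, incl_codLaw, ← coeff_theta]
  simp only [SymTen.tpowLaw, MulLaw.prodMap_toFun', map_prod, map_sub, Algebra.TensorProduct.map_tmul,
    AlgHom.id_apply, map_one, theta_tmul, Polynomial.map_one, one_mul, Polynomial.map_X, mul_one]
  rfl

theorem natDegree_chPoly (b : P A B) : (chPoly (d := d) b).natDegree ≤ d := by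
  refine (Polynomial.natDegree_prod_le _ _).trans ?_
  refine (Finset.sum_le_card_nsmul _ _ 1 fun j _ => ?_).trans (by simp)
  exact (Polynomial.natDegree_sub_le _ _).trans (by simp [Polynomial.natDegree_X_le])

theorem coeff_chPoly_top (b : P A B) : (chPoly (d := d) b).coeff d = (-1) ^ d := by
  have h := Polynomial.coeff_prod_of_natDegree_le (s := (Finset.univ : Finset (Fin d)))
    (fun j => Polynomial.C (slot (A := A) (B := B) j b) - Polynomial.X) 1
    (fun j _ => (Polynomial.natDegree_sub_le _ _).trans (by simp [Polynomial.natDegree_X_le]))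
  simp only [Finset.card_univ, Fintype.card_fin, mul_one] at h
  rw [chPoly, h]
  simp [Polynomial.coeff_C]

theorem eval_chPoly (b : P A B) (j : Fin d) :
    ∑ k : Fin (d + 1), incl (esym (d := d) b k) * (slot (A := A) (B := B) j b) ^ (k : ℕ) = 0 := by
  simp only [val_esym]
  rw [Fin.sum_univ_eq_sum_range (fun k => (chPoly b).coeff k * slot (A := A) (B := B) j b ^ k),
    ← Polynomial.eval_eq_sum_range' (Nat.lt_succ_of_le (natDegree_chPoly b)), chPoly, Polynomial.eval_prod]
  exact Finset.prod_eq_zero (Finset.mem_univ j) (by simp)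

variable (F : MulLaw A B A d)

/-- the characteristic polynomial of an element under a law -/
noncomputable def chi (b : B) : Polynomial A :=
  TensorProduct.rid A (Polynomial A)
    (F.law.toFun' (Polynomial A) ((1 : Polynomial A) ⊗ₜ[A] b - Polynomial.X ⊗ₜ[A] (1 : B)))

theorem coeff_chi (b : B) (k : ℕ) :
    (chi F b).coeff k = rhoP F (esym (MvPolynomial.X b : P A B) k) := by
  rw [chi, coeff_rid, ← AlgHom.toLinearMap_apply, esym, ← ev_postcomp, ev, postcomp_apply, rhoP_tau_apply]
  simp [LinearMap.lTensor_tmul]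

theorem natDegree_chi (b : B) : (chi F b).natDegree ≤ d := by
  rw [Polynomial.natDegree_le_iff_coeff_eq_zero]
  intro k hk
  have h : esym (d := d) (MvPolynomial.X b : P A B) k = 0 := by
    apply Subtype.val_injective
    exact (val_esym _ k).trans (Polynomial.coeff_eq_zero_of_natDegree_lt ((natDegree_chPoly _).trans_lt hk))
  rw [coeff_chi, h, map_zero]

theorem coeff_chi_top (b : B) : (chi F b).coeff d = (-1) ^ d := by
  have h : esym (d := d) (MvPolynomial.X b : P A B) d = (-1) ^ d := by
    apply Subtype.val_injective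
    exact (val_esym _ d).trans ((coeff_chPoly_top _).trans (by simp))
  rw [coeff_chi, h, map_pow, map_neg, map_one]

/-- multiply a scalar factor into the value -/
noncomputable def mu {R R' : Type u} [CommRing R] [Algebra A R] [CommRing R'] [Algebra A R'] (f : R →ₐ[A] R')
    (S : Type u) [CommSemiring S] [Algebra A S] : (S ⊗[A] R) ⊗[A] R' →ₐ[A] S ⊗[A] R' :=
  Algebra.TensorProduct.lift (Algebra.TensorProduct.map (AlgHom.id A S) f)
    (Algebra.TensorProduct.includeRight : R' →ₐ[A] S ⊗[A] R') (fun _ _ => Commute.all _ _)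

theorem mu_tmul {R R' : Type u} [CommRing R] [Algebra A R] [CommRing R'] [Algebra A R'] (f : R →ₐ[A] R')
    (S : Type u) [CommSemiring S] [Algebra A S] (s : S) (t : R) (t' : R') :
    mu f S ((s ⊗ₜ[A] t) ⊗ₜ[A] t') = s ⊗ₜ[A] (f t * t') := by
  rw [mu, Algebra.TensorProduct.lift_tmul, Algebra.TensorProduct.map_tmul, AlgHom.id_apply,
    Algebra.TensorProduct.includeRight_apply, Algebra.TensorProduct.tmul_mul_tmul, mul_one]

theorem lTensor_mu {R R' : Type u} [CommRing R] [Algebra A R] [CommRing R'] [Algebra A R'] (f : R →ₐ[A] R')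
    (S : Type u) [CommSemiring S] [Algebra A S] (z : (S ⊗[A] R) ⊗[A] R) :
    f.toLinearMap.lTensor S (mu (AlgHom.id A R) S z) = mu f S (f.toLinearMap.lTensor (S ⊗[A] R) z) := by
  induction z using TensorProduct.induction_on with
  | zero => simp
  | add p q hp hq => simp only [map_add, hp, hq]
  | tmul p t =>
    induction p using TensorProduct.induction_on with
    | zero => simp
    | add p q hp hq => simp only [TensorProduct.add_tmul, map_add, hp, hq]
    | tmul s r => simp [mu_tmul]

/-- evaluate a scalar factor -/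
noncomputable def eps {R : Type u} [CommRing R] [Algebra A R] (f : R →ₐ[A] A) (S : Type u) [CommSemiring S]
    [Algebra A S] : S ⊗[A] R →ₐ[A] S :=
  Algebra.TensorProduct.lift (AlgHom.id A S) ((Algebra.ofId A S).comp f) (fun _ _ => Commute.all _ _)

theorem lTensor_mu_eps {R : Type u} [CommRing R] [Algebra A R] (f : R →ₐ[A] A) (S : Type u) [CommSemiring S]
    [Algebra A S] (z : (S ⊗[A] R) ⊗[A] R) :
    f.toLinearMap.lTensor S (mu (AlgHom.id A R) S z) = f.toLinearMap.lTensor S ((eps f S).toLinearMap.rTensor R z) := by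
  induction z using TensorProduct.induction_on with
  | zero => simp
  | add p q hp hq => simp only [map_add, hp, hq]
  | tmul p t =>
    induction p using TensorProduct.induction_on with
    | zero => simp
    | add p q hp hq => simp only [TensorProduct.add_tmul, map_add, hp, hq]
    | tmul s r =>
      simp only [mu_tmul, eps, LinearMap.lTensor_tmul, LinearMap.rTensor_tmul, AlgHom.toLinearMap_apply,
        Algebra.TensorProduct.lift_tmul, AlgHom.id_apply, map_mul, AlgHom.comp_apply]
      rw [← smul_eq_mul (f r) (f t), ← TensorProduct.smul_tmul]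
      simp [Algebra.ofId, Algebra.smul_def, mul_comm]

/-- argument with generic coefficients -/
noncomputable def genArg {R Q : Type u} [CommRing R] [Algebra A R] [CommRing Q] [Algebra A Q] {N : ℕ}
    (S : Type u) [CommSemiring S] [Algebra A S] (x w : S ⊗[A] Q) (e : Fin N → R) (c : Fin N → Q) :
    (S ⊗[A] R) ⊗[A] Q :=
  (Algebra.TensorProduct.includeLeft : S →ₐ[A] S ⊗[A] R).toLinearMap.rTensor Q x +
    (Algebra.TensorProduct.includeLeft : S →ₐ[A] S ⊗[A] R).toLinearMap.rTensor Q w *
      ∑ k, ((1 : S) ⊗ₜ[A] e k) ⊗ₜ[A] c k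

theorem eps_genArg {R Q : Type u} [CommRing R] [Algebra A R] [CommRing Q] [Algebra A Q] {N : ℕ}
    (f : R →ₐ[A] A) (S : Type u) [CommSemiring S] [Algebra A S] (x w : S ⊗[A] Q) (e : Fin N → R) (c : Fin N → Q) :
    (eps f S).toLinearMap.rTensor Q (genArg S x w e c) = x + w * (1 ⊗ₜ[A] ∑ k, f (e k) • c k) := by
  have hj : ∀ z : S ⊗[A] Q, (eps f S).toLinearMap.rTensor Q
      ((Algebra.TensorProduct.includeLeft : S →ₐ[A] S ⊗[A] R).toLinearMap.rTensor Q z) = z := by
    intro z
    induction z using TensorProduct.induction_on with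
    | zero => simp
    | add p q hp hq => simp only [map_add, hp, hq]
    | tmul s p => simp [eps]
  rw [genArg, map_add, hj, rTensor_algHom_apply (eps f S) (_ * _), map_mul, ← rTensor_algHom_apply,
    ← rTensor_algHom_apply, hj, map_sum, TensorProduct.tmul_sum]
  congr 2
  refine Finset.sum_congr rfl fun k _ => ?_
  rw [TensorProduct.tmul_smul, TensorProduct.smul_tmul', LinearMap.rTensor_tmul, AlgHom.toLinearMap_apply]
  congr 1
  simp [eps, Algebra.ofId, Algebra.smul_def]

theorem mu_genArg {R Q R' : Type u} [CommRing R] [Algebra A R] [CommRing Q] [Algebra A Q] [CommRing R']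
    [Algebra A R'] {N : ℕ} (v : R →ₐ[A] R') (g : Q →ₐ[A] R') (S : Type u) [CommSemiring S] [Algebra A S]
    (x w : S ⊗[A] Q) (e : Fin N → R) (c : Fin N → Q) :
    mu v S (Algebra.TensorProduct.map (AlgHom.id (S ⊗[A] R) (S ⊗[A] R)) g (genArg S x w e c)) =
      Algebra.TensorProduct.map (AlgHom.id S S) g x +
        Algebra.TensorProduct.map (AlgHom.id S S) g w * (1 ⊗ₜ[A] ∑ k, v (e k) * g (c k)) := by
  have hj : ∀ z : S ⊗[A] Q, mu v S (Algebra.TensorProduct.map (AlgHom.id (S ⊗[A] R) (S ⊗[A] R)) g
      ((Algebra.TensorProduct.includeLeft : S →ₐ[A] S ⊗[A] R).toLinearMap.rTensor Q z)) =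
      Algebra.TensorProduct.map (AlgHom.id S S) g z := by
    intro z
    induction z using TensorProduct.induction_on with
    | zero => simp
    | add p q hp hq => simp only [map_add, hp, hq]
    | tmul s p => simp [mu_tmul]
  rw [genArg, map_add, map_add, hj, map_mul, map_mul, hj, map_sum, map_sum, TensorProduct.tmul_sum]
  congr 2
  refine Finset.sum_congr rfl fun k _ => ?_
  rw [Algebra.TensorProduct.map_tmul, AlgHom.id_apply, mu_tmul]

theorem aeval_chi (b : B) : Polynomial.aeval b (chi F b) ∈ PolLaw.ker F.law := by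
  intro S _ _ x w
  obtain ⟨x, rfl⟩ := LinearMap.lTensor_surjective S (rpair A B).surj x
  obtain ⟨w, rfl⟩ := LinearMap.lTensor_surjective S (rpair A B).surj w
  set b₁ : P A B := MvPolynomial.X b with hb₁
  set u₀ : P A B := Polynomial.aeval b₁ (chi F b) with hu₀
  have e : (π A B).toLinearMap.lTensor S x + (π A B).toLinearMap.lTensor S w * (1 ⊗ₜ[A] Polynomial.aeval b (chi F b)) =
      (π A B).toLinearMap.lTensor S (x + w * (1 ⊗ₜ[A] u₀)) := by
    simp only [lTensor_algHom_apply, map_add, map_mul, Algebra.TensorProduct.map_tmul, map_one]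
    rw [hu₀, ← Polynomial.aeval_algHom_apply, hb₁, show π A B (MvPolynomial.X b) = b by simp]
  rw [e, ← rhoP_tau_apply, ← rhoP_tau_apply]
  have hu : u₀ = ∑ k : Fin (d + 1), rhoP F (esym (d := d) b₁ k) • b₁ ^ (k : ℕ) := by
    rw [hu₀, Polynomial.aeval_eq_sum_range' (Nat.lt_succ_of_le (natDegree_chi F b)),
      ← Fin.sum_univ_eq_sum_range (fun k => (chi F b).coeff k • b₁ ^ k)]
    exact Finset.sum_congr rfl fun k _ => congrArg (· • b₁ ^ (k : ℕ)) (coeff_chi F b k)
  have hψ := eps_genArg (rhoP F) S x w (fun k : Fin (d + 1) => esym (d := d) b₁ k) (fun k => b₁ ^ (k : ℕ))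
  rw [← hu] at hψ
  have h1 := lTensor_mu_eps (rhoP F) S ((tau (d := d) (bP A B)).law.toFun' (S ⊗[A] SymTen.TS A (P A B) d)
    (genArg S x w (fun k : Fin (d + 1) => esym (d := d) b₁ k) (fun k => b₁ ^ (k : ℕ))))
  rw [compat (tau (d := d) (bP A B)).law (eps (rhoP F) S), hψ] at h1
  rw [← h1]
  congr 1
  apply incl_injective (bP A B) S
  rw [lTensor_mu, tau, incl_codLaw, incl_codLaw]
  simp only [SymTen.tpowLaw, MulLaw.prodMap_toFun', map_prod]
  refine Finset.prod_congr rfl fun i _ => ?_
  rw [mu_genArg]
  simp only [map_pow]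
  exact ((congrArg (fun t => _ + _ * ((1 : S) ⊗ₜ[A] t)) (eval_chPoly b₁ i)).trans
    (by rw [TensorProduct.tmul_zero, mul_zero, add_zero]))

end Groth.Agent.ZeroCycLib
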