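import Groth.Agent.ZeroCycLib.Nm
import Mathlib.LinearAlgebra.Vandermonde
import Mathlib.LinearAlgebra.TensorProduct.Basis

/-! Kernels of scalar laws: coefficients, Cayley–Hamilton over test algebras, points. -/

set_option autoImplicit false

universe u

open scoped TensorProduct
open Polynomial

namespace Groth.Agent.ZeroCycLib

open PolLaw

variable {A B : Type u} [CommRing A] [CommRing B] [Algebra A B] {d : ℕ} (F : MulLaw A B A d)

/-- constants -/
noncomputable abbrev jC (R : Type u) [CommRing R] [Algebra A R] : R →ₐ[A] R[X] :=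
  IsScalarTower.toAlgHom A R R[X]

/-- evaluation -/
noncomputable abbrev evalA {R : Type u} [CommRing R] [Algebra A R] (a : R) : R[X] →ₐ[A] R :=
  (Polynomial.aeval a).restrictScalars A

theorem chg_id {R : Type u} [CommRing R] [Algebra A R] (v : R ⊗[A] B) : chg B (AlgHom.id A R) v = v := by
  induction v using TensorProduct.induction_on with
  | zero => simp
  | tmul r b => simp
  | add p q hp hq => simp only [map_add, hp, hq]

theorem chg_smul {R R' : Type u} [CommRing R] [Algebra A R] [CommRing R'] [Algebra A R'] (g : R →ₐ[A] R') (r : R)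
    (v : R ⊗[A] B) : chg B g (r • v) = g r • chg B g v := by
  induction v using TensorProduct.induction_on with
  | zero => simp
  | tmul s b => simp [TensorProduct.smul_tmul']
  | add p q hp hq => simp only [smul_add, map_add, hp, hq]

theorem eval_jC {R : Type u} [CommRing R] [Algebra A R] (a : R) (v : R ⊗[A] B) :
    chg B (evalA (A := A) a) (chg B (jC (A := A) R) v) = v := by
  rw [chg_chg, show (evalA (A := A) a).comp (jC (A := A) R) = AlgHom.id A R from AlgHom.ext fun r => by simp, chg_id]

/-- cancelling a regular scalar -/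
theorem nm_eq_of_regular {R : Type u} [CommRing R] [Algebra A R] {a : R} (ha : IsRegular a) (v : R ⊗[A] B)
    (hv : Killed F R (a • v)) (x w : R ⊗[A] B) : nm F R (x + w * v) = nm F R x := by
  set q : R[X] := nm F R[X] (chg B (jC (A := A) R) x + ((X : R[X]) • chg B (jC (A := A) R) w) * chg B (jC (A := A) R) v) with hq
  have heval : ∀ t : R, evalA (A := A) t q = nm F R (x + (t • w) * v) := fun t => by
    rw [hq, nm_natural, map_add, map_mul, chg_smul, eval_jC, eval_jC, eval_jC]
    simp
  let g : R[X] →ₐ[A] R[X] := (Polynomial.aeval (C a * X : R[X])).restrictScalars A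
  have hg : g.comp (jC (A := A) R) = jC R := AlgHom.ext fun r => by simp [g]
  have hcomp : q.comp (C a * X) = C (nm F R x) := by
    rw [show q.comp (C a * X) = g q from Polynomial.comp_eq_aeval, hq, nm_natural, map_add, map_mul, chg_smul,
      chg_chg, chg_chg, chg_chg, hg, show C (nm F R x) = jC (A := A) R (nm F R x) from rfl, nm_natural F (jC (A := A) R)]
    have e : (g X • chg B (jC (A := A) R) w) * chg B (jC (A := A) R) v = ((X : R[X]) • chg B (jC (A := A) R) w) * chg B (jC (A := A) R) (a • v) := by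
      rw [show g X = C a * X by simp [g], chg_smul, show jC (A := A) R a = C a from rfl, smul_mul_assoc,
        smul_mul_assoc, mul_smul_comm, smul_smul, mul_comm X (C a)]
    rw [e]
    exact hv _ (jC (A := A) R) _ _
  have hcoef : ∀ k, q.coeff (k + 1) = 0 := fun k => by
    have := congrArg (fun p => p.coeff (k + 1)) hcomp
    simp only [Polynomial.comp_C_mul_X_coeff, Polynomial.coeff_C_succ] at this
    exact (ha.pow (k + 1)).right (by simpa using this)
  have hC : q = C (q.coeff 0) := Polynomial.ext fun k => by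
    rcases k with _ | k
    · simp
    · rw [hcoef, Polynomial.coeff_C_succ]
  have h0 := heval 0
  have h1 := heval 1
  rw [hC] at h0 h1
  simp only [zero_smul, zero_mul, add_zero, one_smul] at h0 h1
  rw [← h1, ← h0]
  simp

theorem regular_vandermonde {R : Type u} [CommRing R] (N : ℕ) :
    IsRegular (Matrix.vandermonde fun i : Fin N => (X : R[X]) ^ (i : ℕ)).det := by
  rcases subsingleton_or_nontrivial R with h | h
  · exact ⟨fun _ _ _ => Subsingleton.elim _ _, fun _ _ _ => Subsingleton.elim _ _⟩
  refine (Polynomial.Monic.isRegular ?_)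
  rw [Matrix.det_vandermonde]
  refine Polynomial.monic_prod_of_monic _ _ fun i _ => Polynomial.monic_prod_of_monic _ _ fun j hj => ?_
  have hij : (i : ℕ) < j := (Finset.mem_Ioi.1 hj : i < j)
  exact (Polynomial.monic_X_pow _).sub_of_left (by simpa [Polynomial.degree_X_pow] using hij)

theorem exists_expansion (z : A[X] ⊗[A] B) :
    ∃ N, ∀ N', N ≤ N' → z = ∑ k : Fin N', (X ^ (k : ℕ) : A[X]) ⊗ₜ[A] TensorProduct.lid A B ((lcoeff A k).rTensor B z) := by
  induction z using TensorProduct.induction_on with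
  | zero => exact ⟨0, fun N' _ => by simp⟩
  | tmul p b =>
    refine ⟨p.natDegree + 1, fun N' hN => ?_⟩
    conv_lhs => rw [Polynomial.as_sum_range' p N' (by omega), TensorProduct.sum_tmul]
    rw [Fin.sum_univ_eq_sum_range (fun k => (X ^ k : A[X]) ⊗ₜ[A] TensorProduct.lid A B ((lcoeff A k).rTensor B (p ⊗ₜ[A] b)))]
    refine Finset.sum_congr rfl fun k _ => ?_
    rw [LinearMap.rTensor_tmul, TensorProduct.lid_tmul, lcoeff_apply, ← TensorProduct.smul_tmul]
    congr 1
    rw [← Polynomial.C_mul_X_pow_eq_monomial, Algebra.smul_def]; rfl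
  | add p q hp hq =>
    obtain ⟨N₁, h₁⟩ := hp
    obtain ⟨N₂, h₂⟩ := hq
    refine ⟨max N₁ N₂, fun N' hN => ?_⟩
    conv_lhs => rw [h₁ N' (le_of_max_le_left hN), h₂ N' (le_of_max_le_right hN)]
    rw [← Finset.sum_add_distrib]
    exact Finset.sum_congr rfl fun k _ => by rw [map_add, map_add, TensorProduct.tmul_add]

/-- coefficients of a killed element are in the kernel -/
theorem coeff_mem_ker {z : A[X] ⊗[A] B} (hz : Killed F A[X] z) (k : ℕ) :
    TensorProduct.lid A B ((lcoeff A k).rTensor B z) ∈ PolLaw.ker F.law := by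
  classical
  obtain ⟨N₀, hN₀⟩ := exists_expansion z
  set N := max N₀ (k + 1) with hN
  have hzN := hN₀ N (le_max_left _ _)
  set b : Fin N → B := fun k => TensorProduct.lid A B ((lcoeff A k).rTensor B z) with hb
  refine mem_ker_of_nm F fun σ x w => ?_
  let R := MvPolynomial σ A
  set V := Matrix.vandermonde fun i : Fin N => (X : R[X]) ^ (i : ℕ) with hV
  have hi : ∀ i : Fin N, (∑ l, V i l • ((1 : R[X]) ⊗ₜ[A] b l)) ∈ killedIdeal F R[X] := by
    intro i
    have h := killed_chg F hz (Polynomial.aeval ((X : R[X]) ^ (i : ℕ)) : A[X] →ₐ[A] R[X])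
    have e0 : (∑ l, V i l • ((1 : R[X]) ⊗ₜ[A] b l)) = chg B (Polynomial.aeval ((X : R[X]) ^ (i : ℕ))) z := by
      conv_rhs => rw [hzN, map_sum]
      refine Finset.sum_congr rfl fun l _ => ?_
      simp [hV, Matrix.vandermonde, TensorProduct.smul_tmul', hb]
    rw [e0]
    exact h
  have hk : k < N := lt_of_lt_of_le (Nat.lt_succ_self k) (le_max_right _ _)
  have hdet : Killed F R[X] (V.det • ((1 : R[X]) ⊗ₜ[A] b ⟨k, hk⟩)) := by
    have hadj : ∀ l, (∑ i, V.adjugate ⟨k, hk⟩ i * V i l) = if (⟨k, hk⟩ : Fin N) = l then V.det else 0 := fun l => by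
      have := congrFun (congrFun V.adjugate_mul ⟨k, hk⟩) l
      rw [Matrix.mul_apply] at this
      rw [this]
      simp [Matrix.one_apply]
    have e : V.det • ((1 : R[X]) ⊗ₜ[A] b ⟨k, hk⟩) =
        ∑ i, V.adjugate ⟨k, hk⟩ i • ∑ l, V i l • ((1 : R[X]) ⊗ₜ[A] b l) := by
      simp only [Finset.smul_sum, smul_smul]
      rw [Finset.sum_comm]
      simp only [← Finset.sum_smul, hadj, ite_smul, zero_smul, Finset.sum_ite_eq, Finset.mem_univ, if_true]
    rw [e, ← mem_killedIdeal]
    exact Submodule.sum_mem _ fun i _ => Submodule.smul_of_tower_mem _ _ (hi i)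
  have h := nm_eq_of_regular F (regular_vandermonde N) _ hdet (chg B (jC (A := A) R) x) (chg B (jC (A := A) R) w)
  have e : chg B (jC (A := A) R) x + chg B (jC (A := A) R) w * ((1 : R[X]) ⊗ₜ[A] b ⟨k, hk⟩) =
      chg B (jC (A := A) R) (x + w * ((1 : R) ⊗ₜ[A] b ⟨k, hk⟩)) := by
    simp only [map_add, map_mul, Algebra.TensorProduct.map_tmul, map_one, AlgHom.id_apply]
  rw [e, ← nm_natural, ← nm_natural] at h
  exact Polynomial.C_injective h

theorem killed_polynomial :
    killedIdeal F A[X] = (PolLaw.ker F.law).map (Algebra.TensorProduct.includeRight : B →ₐ[A] A[X] ⊗[A] B) := by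
  refine le_antisymm (fun z hz => ?_) (map_ker_le_killed F _)
  obtain ⟨N, hN⟩ := exists_expansion z
  rw [hN N le_rfl]
  refine sum_mem fun k _ => ?_
  rw [← mul_one (X ^ (k : ℕ) : A[X]), ← one_mul (TensorProduct.lid A B ((lcoeff A k).rTensor B z)),
    ← Algebra.TensorProduct.tmul_mul_tmul]
  exact Ideal.mul_mem_left _ _ (Ideal.mem_map_of_mem _ (coeff_mem_ker F hz k))

theorem killed_mvPolynomial (r : ℕ) :
    killedIdeal F (MvPolynomial (Fin r) A) =
      (PolLaw.ker F.law).map (Algebra.TensorProduct.includeRight : B →ₐ[A] MvPolynomial (Fin r) A ⊗[A] B) := by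
  classical
  refine le_antisymm (fun z hz => ?_) (map_ker_le_killed F _)
  set e := TensorProduct.equivFinsuppOfBasisLeft (N := B) (MvPolynomial.basisMonomials (Fin r) A)
  set c := e z with hc
  have hzc : z = ∑ m ∈ c.support, MvPolynomial.monomial m (1 : A) ⊗ₜ[A] c m := by
    conv_lhs => rw [← e.symm_apply_apply z]
    rw [TensorProduct.equivFinsuppOfBasisLeft_symm_apply]
    rfl
  set N := c.support.sup (fun m => Finset.univ.sup fun i => m i) + 1 with hN
  have hlt : ∀ m ∈ c.support, ∀ i, m i < N := fun m hm i => Nat.lt_succ_of_le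
    ((Finset.le_sup (f := fun i => m i) (Finset.mem_univ i)).trans
      (Finset.le_sup (f := fun m : Fin r →₀ ℕ => Finset.univ.sup fun i => m i) hm))
  let κ : MvPolynomial (Fin r) A →ₐ[A] A[X] := MvPolynomial.aeval fun i => X ^ (N ^ (i : ℕ))
  let w : (Fin r →₀ ℕ) → ℕ := fun m => ∑ i : Fin r, m i * N ^ (i : ℕ)
  have hκ : ∀ m, κ (MvPolynomial.monomial m 1) = X ^ w m := fun m => by
    simp only [κ, w, MvPolynomial.aeval_monomial, map_one, one_mul]
    rw [Finsupp.prod_fintype _ _ (fun i => pow_zero _), ← Finset.prod_pow_eq_pow_sum]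
    exact Finset.prod_congr rfl fun i _ => by rw [← pow_mul, mul_comm]
  have winj : ∀ m ∈ c.support, ∀ n ∈ c.support, w m = w n → m = n := by
    intro m hm n hn h
    have := finFunctionFinEquiv.injective (a₁ := fun i => (⟨m i, hlt m hm i⟩ : Fin N))
      (a₂ := fun i => (⟨n i, hlt n hn i⟩ : Fin N)) (Fin.ext (by
        rw [finFunctionFinEquiv_apply, finFunctionFinEquiv_apply]; exact h))
    ext i
    exact congrArg Fin.val (congrFun this i)
  have hk := coeff_mem_ker F (killed_chg F hz κ)
  rw [hzc]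
  refine sum_mem fun m hm => ?_
  have hm' : TensorProduct.lid A B ((lcoeff A (w m)).rTensor B (chg B κ z)) = c m := by
    conv_lhs => rw [hzc]
    simp only [map_sum, Algebra.TensorProduct.map_tmul, hκ, AlgHom.id_apply, LinearMap.rTensor_tmul,
      TensorProduct.lid_tmul, lcoeff_apply, Polynomial.coeff_X_pow, ite_smul, one_smul, zero_smul]
    rw [Finset.sum_eq_single_of_mem m hm, if_pos rfl]
    intro n hn hne
    rw [if_neg fun h => hne (winj n hn m hm h.symm)]
  rw [← mul_one (MvPolynomial.monomial m (1 : A)), ← one_mul (c m), ← Algebra.TensorProduct.tmul_mul_tmul]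
  refine Ideal.mul_mem_left _ _ (Ideal.mem_map_of_mem _ ?_)
  rw [← hm']
  exact hk _

/-- characteristic polynomial over a test algebra -/
noncomputable def chiR (R : Type u) [CommRing R] [Algebra A R] (β : R ⊗[A] B) : R[X] :=
  nm F R[X] (chg B (jC (A := A) R) β - (X : R[X]) • 1)

theorem chiR_natural {R R' : Type u} [CommRing R] [Algebra A R] [CommRing R'] [Algebra A R'] (g : R →ₐ[A] R')
    (β : R ⊗[A] B) : (chiR F R β).map g.toRingHom = chiR F R' (chg B g β) := by
  show Polynomial.mapAlgHom g (chiR F R β) = _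
  rw [chiR, nm_natural, map_sub, chg_smul, map_one, chg_chg,
    show (Polynomial.mapAlgHom g).comp (jC (A := A) R) = (jC (A := A) R').comp g from AlgHom.ext fun r => by simp,
    ← chg_chg, show Polynomial.mapAlgHom g X = X by simp]
  rfl

theorem cancel_one_tmul (R R' : Type u) [CommRing R] [Algebra A R] [CommRing R'] [Algebra A R'] [Algebra R R']
    [IsScalarTower A R R'] (β : R ⊗[A] B) :
    Algebra.TensorProduct.cancelBaseChange A R R' R' B ((1 : R') ⊗ₜ[R] β) = chg B (IsScalarTower.toAlgHom A R R') β := by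
  induction β using TensorProduct.induction_on with
  | zero => simp
  | tmul r b => simp [Algebra.smul_def]
  | add p q hp hq => simp only [TensorProduct.tmul_add, map_add, hp, hq]

theorem chi_bc_eq (R : Type u) [CommRing R] [Algebra A R] (β : R ⊗[A] B) :
    chi (bcA R F) β = chiR F R β := by
  have h : ∀ z : R[X] ⊗[R] R, TensorProduct.rid R R[X] z = Algebra.TensorProduct.rid R R[X] R[X] z := by
    intro z
    induction z using TensorProduct.induction_on with
    | zero => simp
    | tmul p r => simp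
    | add p q hp hq => simp only [map_add, hp, hq]
  rw [chi, h, ← nm, nm_bcA, chiR]
  congr 1
  rw [map_sub, cancel_one_tmul]
  congr 1
  rw [show (X : R[X]) ⊗ₜ[R] (1 : R ⊗[A] B) = (X : R[X]) • ((1 : R[X]) ⊗ₜ[R] (1 : R ⊗[A] B)) by
    rw [TensorProduct.smul_tmul', smul_eq_mul, mul_one], map_smul]
  congr 1
  rw [show ((1 : R[X]) ⊗ₜ[R] (1 : R ⊗[A] B)) = 1 from rfl, map_one]

theorem natDegree_chiR (R : Type u) [CommRing R] [Algebra A R] (β : R ⊗[A] B) : (chiR F R β).natDegree ≤ d := by
  rw [← chi_bc_eq]; exact natDegree_chi _ _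

theorem coeff_chiR_top (R : Type u) [CommRing R] [Algebra A R] (β : R ⊗[A] B) :
    (chiR F R β).coeff d = (-1) ^ d := by
  rw [← chi_bc_eq]; exact coeff_chi_top _ _

theorem aeval_chiR (R : Type u) [CommRing R] [Algebra A R] (β : R ⊗[A] B) :
    Killed F R (Polynomial.aeval β (chiR F R β)) := by
  have h := aeval_chi (bcA R F) β
  rw [chi_bc_eq] at h
  intro R' _ _ g x w
  letI : Algebra R R' := g.toRingHom.toAlgebra
  have : IsScalarTower A R R' := IsScalarTower.of_algebraMap_eq fun a => (g.commutes a).symm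
  have hg : IsScalarTower.toAlgHom A R R' = g := AlgHom.ext fun r => rfl
  set e := Algebra.TensorProduct.cancelBaseChange A R R' R' B
  have h2 := nm_add_of_mem_ker (bcA R F) h R' (e.symm x) (e.symm w)
  rw [nm_bcA, nm_bcA, map_add, map_mul, e.apply_symm_apply, e.apply_symm_apply, cancel_one_tmul, hg] at h2
  exact h2

theorem chiR_of_killed {R : Type u} [CommRing R] [Algebra A R] {β : R ⊗[A] B} (hβ : Killed F R β) :
    chiR F R β = (-X) ^ d := by
  have e : chg B (jC (A := A) R) β - (X : R[X]) • (1 : R[X] ⊗[A] B) = (-X : R[X]) • 1 + 1 * chg B (jC (A := A) R) β := by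
    rw [one_mul]
    module
  rw [chiR, e, hβ, nm_smul, nm_one, mul_one]

theorem chg_aeval {R R' : Type u} [CommRing R] [Algebra A R] [CommRing R'] [Algebra A R'] (g : R →ₐ[A] R')
    (β : R ⊗[A] B) (p : R[X]) :
    chg B g (Polynomial.aeval β p) = Polynomial.aeval (chg B g β) (p.map g.toRingHom) := by
  induction p using Polynomial.induction_on' with
  | add p q hp hq => simp only [map_add, Polynomial.map_add, hp, hq]
  | monomial n r =>
    rw [Polynomial.aeval_monomial, Polynomial.map_monomial, Polynomial.aeval_monomial, map_mul, map_pow]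
    congr 1

theorem pow_mem_map_ker {R : Type u} [CommRing R] [Algebra A R] {v : R ⊗[A] B} (hv : Killed F R v) :
    v ^ d ∈ (PolLaw.ker F.law).map (Algebra.TensorProduct.includeRight : B →ₐ[A] R ⊗[A] B) := by
  classical
  obtain ⟨s, hs⟩ := TensorProduct.exists_finset v
  set β : MvPolynomial (Fin s.card) A ⊗[A] B :=
    ∑ i : Fin s.card, MvPolynomial.X i ⊗ₜ[A] (s.equivFin.symm i).1.2
  let g : MvPolynomial (Fin s.card) A →ₐ[A] R := MvPolynomial.aeval fun i => (s.equivFin.symm i).1.1
  have hgβ : chg B g β = v := by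
    rw [hs, map_sum, ← Finset.sum_coe_sort s]
    exact Fintype.sum_equiv s.equivFin.symm _ _ fun j => by simp [g]
  have h1 := aeval_chiR F _ β
  rw [← mem_killedIdeal, killed_mvPolynomial] at h1
  have h2 := Ideal.mem_map_of_mem (chg B g) h1
  rw [Ideal.map_mapₐ, show (chg B g).comp (Algebra.TensorProduct.includeRight : B →ₐ[A] _ ⊗[A] B) =
    Algebra.TensorProduct.includeRight from AlgHom.ext fun b => by simp, chg_aeval, chiR_natural, hgβ,
    chiR_of_killed F hv, map_pow, map_neg, Polynomial.aeval_X, neg_pow] at h2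
  exact (Ideal.unit_mul_mem_iff_mem _ ((isUnit_one.neg).pow d)).1 h2

/-- at most `d` points in a field -/
theorem card_points {Ω : Type u} [Field Ω] [Algebra A Ω] (g : Fin (d + 1) → (B →ₐ[A] Ω))
    (hker : ∀ i, ∀ b ∈ PolLaw.ker F.law, g i b = 0) (hinj : Function.Injective g) : False := by
  classical
  have hu : ∀ p : Fin (d + 1) × Fin (d + 1), ∃ u : B, p.1 ≠ p.2 → g p.1 u ≠ g p.2 u := fun p => by
    by_cases h : p.1 = p.2
    · exact ⟨0, fun h' => absurd h h'⟩
    · by_contra hne
      push Not at hne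
      exact h (hinj (AlgHom.ext fun u => (hne u).2))
  choose u hu using hu
  let e : Fin ((d + 1) * (d + 1)) ≃ Fin (d + 1) × Fin (d + 1) := finProdFinEquiv.symm
  set R := MvPolynomial (Fin ((d + 1) * (d + 1))) A
  set β : R ⊗[A] B := ∑ k, MvPolynomial.X k ⊗ₜ[A] u (e k) with hβ
  let ψ : R →ₐ[A] MvPolynomial (Fin ((d + 1) * (d + 1))) Ω := MvPolynomial.mapAlgHom (Algebra.ofId A Ω)
  let G : Fin (d + 1) → (R ⊗[A] B →ₐ[A] MvPolynomial (Fin ((d + 1) * (d + 1))) Ω) := fun i =>
    Algebra.TensorProduct.lift ψ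
      ((IsScalarTower.toAlgHom A Ω (MvPolynomial (Fin ((d + 1) * (d + 1))) Ω)).comp (g i))
      (fun _ _ => Commute.all _ _)
  have hG : ∀ i r b, G i (r ⊗ₜ[A] b) = ψ r * MvPolynomial.C (g i b) := fun i r b => by
    simp only [G, Algebra.TensorProduct.lift_tmul]; rfl
  set p := (chiR F R β).map ψ.toRingHom with hp
  have hroot : ∀ i, p.eval (G i β) = 0 := by
    intro i
    have h1 := aeval_chiR F R β
    rw [← mem_killedIdeal, killed_mvPolynomial] at h1
    have h2 : G i (Polynomial.aeval β (chiR F R β)) = 0 := by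
      have hle : (PolLaw.ker F.law).map (Algebra.TensorProduct.includeRight : B →ₐ[A] R ⊗[A] B) ≤
          RingHom.ker (G i) := by
        rw [Ideal.map_le_iff_le_comap]
        intro b hb
        show G i ((1 : R) ⊗ₜ[A] b) = 0
        rw [hG, hker i b hb, map_zero, mul_zero]
      exact hle h1
    rw [hp, Polynomial.eval_map, ← h2]
    have e2 : ∀ q : R[X], G i (Polynomial.aeval β q) = q.eval₂ ψ.toRingHom (G i β) := by
      intro q
      induction q using Polynomial.induction_on' with
      | add a b ha hb => simp only [map_add, Polynomial.eval₂_add, ha, hb]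
      | monomial n r =>
        rw [Polynomial.aeval_monomial, Polynomial.eval₂_monomial, map_mul, map_pow]
        congr 1
        show G i (r ⊗ₜ[A] (1 : B)) = ψ r
        rw [hG, map_one, map_one, mul_one]
    rw [e2]
  have hβi : Function.Injective fun i => G i β := by
    intro i j h
    by_contra hne
    have h' := congrArg (MvPolynomial.coeff (Finsupp.single (e.symm (i, j)) 1)) h
    have hX : ∀ k, ψ (MvPolynomial.X k) = MvPolynomial.X k := fun k =>
      MvPolynomial.map_X _ k
    simp only [hβ, map_sum, hG, hX, MvPolynomial.coeff_sum, mul_comm (MvPolynomial.X _),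
      MvPolynomial.coeff_C_mul, MvPolynomial.coeff_X', Finsupp.single_left_inj one_ne_zero,
      mul_ite, mul_one, mul_zero, Finset.sum_ite_eq', Finset.mem_univ, if_true, Equiv.apply_symm_apply] at h'
    exact hu (i, j) hne h'
  have hp0 : p = 0 := Polynomial.eq_zero_of_natDegree_lt_card_of_eval_eq_zero p hβi hroot (by
    rw [Fintype.card_fin]
    exact lt_of_le_of_lt ((Polynomial.natDegree_map_le).trans (natDegree_chiR F R β)) (Nat.lt_succ_self d))
  have := congrArg (fun q => Polynomial.coeff q d) hp0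
  simp [hp, Polynomial.coeff_map, coeff_chiR_top] at this

end Groth.Agent.ZeroCycLib

namespace Groth.Agent.ZeroCycLib

open PolLaw

theorem comap_le_ker_precomp {A B B' C : Type u} [CommRing A] [CommRing B] [Algebra A B] [CommRing B'] [Algebra A B']
    [CommRing C] [Algebra A C] {d : ℕ} (F : MulLaw A B C d) (φ : B' →ₐ[A] B) :
    (PolLaw.ker F.law).comap φ ≤ PolLaw.ker (F.precomp φ).law := by
  intro b hb S _ _ x w
  show F.law.toFun' S (φ.toLinearMap.lTensor S (x + w * (1 ⊗ₜ[A] b))) = F.law.toFun' S (φ.toLinearMap.lTensor S x)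
  rw [map_add, PolLaw.lTensor_algHom_apply φ S (_ * _), map_mul, Algebra.TensorProduct.map_tmul]
  exact hb S _ _

end Groth.Agent.ZeroCycLib
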