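import Groth.Agent.ZeroCycLib.KerApps
import Mathlib.RingTheory.Localization.Basic
import Mathlib.RingTheory.Adjoin.FG
import Mathlib.RingTheory.FiniteType
import Mathlib.RingTheory.IntegralClosure.IsIntegralClosure.Basic

/-! The kernel of a scalar law on a finite algebra is cut out by finitely many equations. -/

set_option autoImplicit false

universe u

open scoped TensorProduct

namespace Groth.Agent.ZeroCycLib

open PolLaw

variable {A B : Type u} [CommRing A] [CommRing B] [Algebra A B] {d : ℕ} (F : MulLaw A B A d)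

/-- generic element number `k` in the span of a finite family -/
noncomputable def gen {n : ℕ} (e : Fin n → B) (k : Bool) : MvPolynomial (Bool × Fin n) A ⊗[A] B :=
  ∑ i, MvPolynomial.X (k, i) ⊗ₜ[A] e i

/-- constants of the generic ring -/
noncomputable abbrev cst (R : Type u) [CommRing R] [Algebra A R] (n : ℕ) : R →ₐ[A] MvPolynomial (Bool × Fin n) R :=
  IsScalarTower.toAlgHom A R (MvPolynomial (Bool × Fin n) R)

/-- extension of scalars of the generic ring -/
noncomputable abbrev ext' (R : Type u) [CommRing R] [Algebra A R] (n : ℕ) :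
    MvPolynomial (Bool × Fin n) A →ₐ[A] MvPolynomial (Bool × Fin n) R :=
  MvPolynomial.mapAlgHom (Algebra.ofId A R)

/-- the universal equations of being killed -/
noncomputable def eqn {n : ℕ} (e : Fin n → B) (R : Type u) [CommRing R] [Algebra A R] (v : R ⊗[A] B) :
    MvPolynomial (Bool × Fin n) R :=
  nm F (MvPolynomial (Bool × Fin n) R)
      (chg B (ext' R n) (gen e false) + chg B (ext' R n) (gen e true) * chg B (cst R n) v) -
    nm F (MvPolynomial (Bool × Fin n) R) (chg B (ext' R n) (gen e false))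

theorem eqn_natural {n : ℕ} (e : Fin n → B) {R R' : Type u} [CommRing R] [Algebra A R] [CommRing R'] [Algebra A R']
    (g : R →ₐ[A] R') (v : R ⊗[A] B) :
    MvPolynomial.map g.toRingHom (eqn F e R v) = eqn F e R' (chg B g v) := by
  show MvPolynomial.mapAlgHom g (eqn F e R v) = _
  have h1 : (MvPolynomial.mapAlgHom g).comp (ext' (A := A) R n) = ext' R' n := by
    apply MvPolynomial.algHom_ext
    intro i
    simp
  have h2 : (MvPolynomial.mapAlgHom g).comp (cst (A := A) R n) = (cst R' n).comp g := AlgHom.ext fun r => by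
    simp [MvPolynomial.algebraMap_eq]
  rw [eqn, map_sub, nm_natural, nm_natural, map_add, map_mul, chg_chg, chg_chg, chg_chg, h1, h2, ← chg_chg]
  rfl

theorem eqn_of_killed {n : ℕ} (e : Fin n → B) {R : Type u} [CommRing R] [Algebra A R] {v : R ⊗[A] B}
    (hv : Killed F R v) : eqn F e R v = 0 := by
  rw [eqn, hv _ (cst R n), sub_self]

theorem exists_gen {n : ℕ} (e : Fin n → B) (he : Submodule.span A (Set.range e) = ⊤) (S : Type u) [CommRing S]
    [Algebra A S] (x : S ⊗[A] B) : ∃ r : Fin n → S, x = ∑ i, r i ⊗ₜ[A] e i := by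
  induction x using TensorProduct.induction_on with
  | zero => exact ⟨0, by simp⟩
  | tmul s b =>
    obtain ⟨c, rfl⟩ := (Submodule.mem_span_range_iff_exists_fun A).1 (he ▸ Submodule.mem_top (x := b))
    exact ⟨fun i => c i • s, by simp [TensorProduct.tmul_sum, TensorProduct.smul_tmul]⟩
  | add p q hp hq =>
    obtain ⟨r, rfl⟩ := hp
    obtain ⟨r', rfl⟩ := hq
    exact ⟨r + r', by simp [TensorProduct.add_tmul, Finset.sum_add_distrib]⟩

theorem killed_of_eqn {n : ℕ} (e : Fin n → B) (he : Submodule.span A (Set.range e) = ⊤) {R : Type u} [CommRing R]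
    [Algebra A R] {v : R ⊗[A] B} (hv : eqn F e R v = 0) : Killed F R v := by
  intro R' _ _ g x w
  obtain ⟨r, rfl⟩ := exists_gen e he R' x
  obtain ⟨r', rfl⟩ := exists_gen e he R' w
  let val : Bool × Fin n → R' := fun p => cond p.1 (r' p.2) (r p.2)
  let Φ : MvPolynomial (Bool × Fin n) R →ₐ[A] R' := MvPolynomial.aevalTower g val
  have h1 : ∀ k, chg B Φ (chg B (ext' (A := A) R n) (gen e k)) = ∑ i, val (k, i) ⊗ₜ[A] e i := fun k => by
    simp [gen, map_sum, Φ]
  have h2 : Φ.comp (cst (A := A) R n) = g := AlgHom.ext fun a => by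
    simp [Φ, MvPolynomial.algebraMap_eq]
  have h := congrArg Φ hv
  rw [eqn, map_sub, map_zero, nm_natural, nm_natural, map_add, map_mul, chg_chg (cst R n) Φ, h2, h1, h1, sub_eq_zero] at h
  exact h

theorem map_ker_eq_killed_of_isLocalization [Module.Finite A B] (M : Submonoid A) (A' : Type u) [CommRing A']
    [Algebra A A'] [IsLocalization M A'] :
    (PolLaw.ker F.law).map (Algebra.TensorProduct.includeRight : B →ₐ[A] A' ⊗[A] B) = killedIdeal F A' := by
  classical
  refine le_antisymm (map_ker_le_killed F A') fun v hv => ?_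
  obtain ⟨n, e, he⟩ := Module.Finite.exists_fin (R := A) (M := B)
  obtain ⟨s, b, hb⟩ : ∃ (s : M) (b : B), algebraMap A A' s • v = (1 : A') ⊗ₜ[A] b := by
    clear hv
    induction v using TensorProduct.induction_on with
    | zero => exact ⟨1, 0, by simp⟩
    | tmul a c =>
      obtain ⟨⟨x, s⟩, hx⟩ := IsLocalization.surj M a
      refine ⟨s, x • c, ?_⟩
      rw [TensorProduct.smul_tmul', smul_eq_mul, mul_comm, hx, Algebra.algebraMap_eq_smul_one, TensorProduct.smul_tmul]
    | add p q hp hq =>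
      obtain ⟨s₁, b₁, h₁⟩ := hp
      obtain ⟨s₂, b₂, h₂⟩ := hq
      refine ⟨s₁ * s₂, (s₂ : A) • b₁ + (s₁ : A) • b₂, ?_⟩
      rw [Submonoid.coe_mul, map_mul, smul_add, mul_smul, mul_smul, h₂, smul_comm (algebraMap A A' s₁), h₁,
        TensorProduct.tmul_add, TensorProduct.tmul_smul, TensorProduct.tmul_smul, algebraMap_smul, algebraMap_smul]
  set q := eqn F e (Polynomial A) ((Polynomial.X : Polynomial A) ⊗ₜ[A] b) with hq
  let g : Polynomial A →ₐ[A] Polynomial A' := Polynomial.mapAlgHom (Algebra.ofId A A')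
  have hq0 : MvPolynomial.map g.toRingHom q = 0 := by
    rw [hq, eqn_natural]
    refine eqn_of_killed F e ?_
    have hK : Killed F (Polynomial A') (chg B (jC (A := A) A') ((1 : A') ⊗ₜ[A] b)) :=
      killed_chg F (hb ▸ ((mem_killedIdeal F).1 (Submodule.smul_of_tower_mem (killedIdeal F A') _ ((mem_killedIdeal F).2 hv)))) _
    have e' : chg B g ((Polynomial.X : Polynomial A) ⊗ₜ[A] b) =
        (Polynomial.X : Polynomial A') • chg B (jC (A := A) A') ((1 : A') ⊗ₜ[A] b) := by
      simp [g, TensorProduct.smul_tmul']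
    rw [e', ← mem_killedIdeal]
    exact Submodule.smul_of_tower_mem _ _ ((mem_killedIdeal F).2 hK)
  have hex : ∀ m k, ∃ t : M, (t : A) * (q.coeff m).coeff k = 0 := fun m k => by
    refine (IsLocalization.map_eq_zero_iff M A' _).1 ?_
    have h := congrArg (fun p => (MvPolynomial.coeff m p).coeff k) hq0
    simp only [MvPolynomial.coeff_map, MvPolynomial.coeff_zero, Polynomial.coeff_zero] at h
    simpa [g] using h
  choose t ht using hex
  set T : M := ∏ m ∈ q.support, ∏ k ∈ (q.coeff m).support, t m k with hT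
  have hT0 : ∀ m k, (T : A) * (q.coeff m).coeff k = 0 := by
    intro m k
    by_cases hm : m ∈ q.support
    · by_cases hk : k ∈ (q.coeff m).support
      · obtain ⟨u, hu⟩ := (Finset.dvd_prod_of_mem (t m) hk).trans
          (Finset.dvd_prod_of_mem (fun m => ∏ k ∈ (q.coeff m).support, t m k) hm)
        rw [hT, hu, Submonoid.coe_mul, mul_right_comm, ht, zero_mul]
      · rw [Polynomial.notMem_support_iff.1 hk, mul_zero]
    · rw [MvPolynomial.notMem_support_iff.1 hm, Polynomial.coeff_zero, mul_zero]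
  have hzero : ∀ m, (q.coeff m).coeff 0 = 0 := by
    intro m
    have h : MvPolynomial.map (Polynomial.aeval (0 : A) : Polynomial A →ₐ[A] A).toRingHom q = 0 := by
      rw [hq, eqn_natural]
      refine eqn_of_killed F e ?_
      rw [Algebra.TensorProduct.map_tmul, Polynomial.aeval_X, TensorProduct.zero_tmul, ← mem_killedIdeal]
      exact zero_mem _
    have h' := congrArg (MvPolynomial.coeff m) h
    simpa [MvPolynomial.coeff_map, Polynomial.coeff_zero_eq_aeval_zero] using h'
  have hev : MvPolynomial.map (Polynomial.aeval (T : A) : Polynomial A →ₐ[A] A).toRingHom q = 0 := by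
    ext m
    rw [MvPolynomial.coeff_map, MvPolynomial.coeff_zero]
    show Polynomial.aeval (T : A) (q.coeff m) = 0
    rw [Polynomial.aeval_eq_sum_range]
    refine Finset.sum_eq_zero fun k _ => ?_
    rcases k with _ | k
    · rw [hzero, zero_smul]
    · rw [smul_eq_mul, pow_succ, ← mul_assoc, mul_comm, ← mul_assoc, hT0, zero_mul]
  rw [hq, eqn_natural, Algebra.TensorProduct.map_tmul, Polynomial.aeval_X, AlgHom.id_apply] at hev
  have hTb : (T : A) • b ∈ PolLaw.ker F.law := by
    rw [← killed_iff_mem_ker, TensorProduct.tmul_smul, TensorProduct.smul_tmul', smul_eq_mul, mul_one]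
    exact killed_of_eqn F e he hev
  have hmem := Ideal.mem_map_of_mem (Algebra.TensorProduct.includeRight : B →ₐ[A] A' ⊗[A] B) hTb
  rw [Algebra.TensorProduct.includeRight_apply, TensorProduct.tmul_smul, ← algebraMap_smul A', ← hb, smul_smul,
    ← map_mul, ← Submonoid.coe_mul] at hmem
  rw [Algebra.smul_def] at hmem
  exact (Ideal.unit_mul_mem_iff_mem _ ((IsLocalization.map_units A' (T * s)).map _)).1 hmem

theorem killed_iSup [Module.Finite A B] {A' : Type u} [CommRing A'] [Algebra A A'] {ι : Type u} [Preorder ι]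
    [IsDirected ι (fun i j => i ≤ j)] [Nonempty ι]
    (Ai : ι → Type u) [∀ i, CommRing (Ai i)] [∀ i, Algebra A (Ai i)]
    (t : ∀ i j : ι, i ≤ j → (Ai i →ₐ[A] Ai j)) (φ : ∀ i : ι, Ai i →ₐ[A] A')
    (hcomp : ∀ (i j : ι) (h : i ≤ j), (φ j).comp (t i j h) = φ i)
    (hsurj : ∀ a : A', ∃ (i : ι) (x : Ai i), φ i x = a)
    (hzero : ∀ (i : ι) (x : Ai i), φ i x = 0 → ∃ (j : ι) (h : i ≤ j), t i j h x = 0)
    (htrans : ∀ (i j k : ι) (hij : i ≤ j) (hjk : j ≤ k), (t j k hjk).comp (t i j hij) = t i k (hij.trans hjk)) :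
    killedIdeal F A' = ⨆ i : ι, (killedIdeal F (Ai i)).map (chg B (φ i)) := by
  classical
  refine le_antisymm (fun v hv => ?_) (iSup_le fun i => Ideal.map_le_iff_le_comap.2 fun v hv => killed_chg F hv _)
  obtain ⟨n, e, he⟩ := Module.Finite.exists_fin (R := A) (M := B)
  obtain ⟨i, hi⟩ : ∃ i, ∀ j, i ≤ j → ∃ u, chg B (φ j) u = v := by
    clear hv
    induction v using TensorProduct.induction_on with
    | zero => exact ⟨Classical.arbitrary ι, fun j _ => ⟨0, map_zero _⟩⟩
    | tmul a b =>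
      obtain ⟨i, x, rfl⟩ := hsurj a
      exact ⟨i, fun j hj => ⟨t i j hj x ⊗ₜ[A] b, by
        rw [Algebra.TensorProduct.map_tmul, AlgHom.id_apply, ← AlgHom.comp_apply, hcomp]⟩⟩
    | add p q hp hq =>
      obtain ⟨i₁, h₁⟩ := hp
      obtain ⟨i₂, h₂⟩ := hq
      obtain ⟨i, hi₁, hi₂⟩ := directed_of (fun i j : ι => i ≤ j) i₁ i₂
      refine ⟨i, fun j hj => ?_⟩
      obtain ⟨z₁, e₁⟩ := h₁ j (hi₁.trans hj)
      obtain ⟨z₂, e₂⟩ := h₂ j (hi₂.trans hj)
      exact ⟨z₁ + z₂, by rw [map_add, e₁, e₂]⟩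
  obtain ⟨u, rfl⟩ := hi i le_rfl
  set q := eqn F e (Ai i) u with hq
  have hq0 : MvPolynomial.map (φ i).toRingHom q = 0 := by
    rw [hq, eqn_natural]; exact eqn_of_killed F e hv
  have hj : ∀ S : Finset ((Bool × Fin n) →₀ ℕ), ∃ (j : ι) (h : i ≤ j), ∀ m ∈ S, t i j h (q.coeff m) = 0 := by
    intro S
    induction S using Finset.induction_on with
    | empty => exact ⟨i, le_rfl, by simp⟩
    | insert m S _ ih =>
      obtain ⟨j₁, h₁, hS⟩ := ih
      obtain ⟨j₂, h₂, hm⟩ := hzero i (q.coeff m) (by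
        have := congrArg (MvPolynomial.coeff m) hq0
        simpa [MvPolynomial.coeff_map] using this)
      obtain ⟨j, hj₁, hj₂⟩ := directed_of (fun i j : ι => i ≤ j) j₁ j₂
      refine ⟨j, h₁.trans hj₁, fun m' hm' => ?_⟩
      rcases Finset.mem_insert.1 hm' with rfl | hm'
      · rw [show t i j (h₁.trans hj₁) (q.coeff m') = t j₂ j hj₂ (t i j₂ h₂ (q.coeff m')) from
          (DFunLike.congr_fun (htrans i j₂ j h₂ hj₂) _).symm, hm, map_zero]
      · rw [show t i j (h₁.trans hj₁) (q.coeff m') = t j₁ j hj₁ (t i j₁ h₁ (q.coeff m')) from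
          (DFunLike.congr_fun (htrans i j₁ j h₁ hj₁) _).symm, hS m' hm', map_zero]
  obtain ⟨j, hij, hjS⟩ := hj q.support
  have hkill : Killed F (Ai j) (chg B (t i j hij) u) := by
    apply killed_of_eqn F e he
    rw [← eqn_natural, ← hq]
    ext m
    rw [MvPolynomial.coeff_map, MvPolynomial.coeff_zero]
    by_cases hm : m ∈ q.support
    · exact hjS m hm
    · rw [MvPolynomial.notMem_support_iff.1 hm, map_zero]
  rw [← hcomp i j hij, ← chg_chg]
  exact Ideal.mem_iSup_of_mem j (Ideal.mem_map_of_mem _ hkill)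

theorem exists_fg_le_of_mem_map {R S : Type u} [CommRing R] [CommRing S] (f : R →+* S) {I : Ideal R} {z : S}
    (hz : z ∈ I.map f) : ∃ J : Ideal R, J.FG ∧ J ≤ I ∧ z ∈ J.map f := by
  classical
  obtain ⟨T, hT, hzT⟩ := Submodule.mem_span_finite_of_mem_span (hz : z ∈ Ideal.span (f '' I))
  obtain ⟨T', hT', rfl⟩ := Finset.subset_set_image_iff.1 hT
  refine ⟨Ideal.span (T' : Set R), ⟨T', rfl⟩, Ideal.span_le.2 hT', ?_⟩
  rw [Ideal.map_span]
  rw [Finset.coe_image] at hzT
  exact hzT

theorem exists_fg_radical_eq [Algebra.FiniteType A B] :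
    ∃ J : Ideal B, J.FG ∧ J ≤ PolLaw.ker F.law ∧ J.radical = (PolLaw.ker F.law).radical := by
  classical
  obtain ⟨S, hS⟩ := (Algebra.FiniteType.out : (⊤ : Subalgebra A B).FG)
  let p : B → Polynomial A := fun b => Polynomial.C ((-1) ^ d) * chiR F A ((1 : A) ⊗ₜ[A] b)
  let T : Finset B := S.image fun b => Polynomial.aeval b (p b)
  let J₀ : Ideal B := Ideal.span (T : Set B)
  have hJ₀le : J₀ ≤ PolLaw.ker F.law := Ideal.span_le.2 fun y hy => by
    obtain ⟨b, _, rfl⟩ := Finset.mem_image.1 hy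
    rw [map_mul]
    exact Ideal.mul_mem_left _ _ (aeval_mem_ker F b)
  have : Module.Finite A (B ⧸ J₀) := by
    have htop : Algebra.adjoin A (Ideal.Quotient.mkₐ A J₀ '' (S : Set B)) = ⊤ := by
      rw [← AlgHom.map_adjoin, hS, Algebra.map_top, AlgHom.range_eq_top]
      exact Ideal.Quotient.mk_surjective
    have hfg := fg_adjoin_of_finite (R := A) (S.finite_toSet.image (Ideal.Quotient.mkₐ A J₀)) (by
      rintro _ ⟨b, hb, rfl⟩
      exact ⟨p b, Polynomial.monic_of_natDegree_le_of_coeff_eq_one d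
        ((Polynomial.natDegree_C_mul_le _ _).trans (natDegree_chiR F A _))
        (by rw [Polynomial.coeff_C_mul, coeff_chiR_top, ← mul_pow, neg_one_mul, neg_neg, one_pow]), by
          rw [← Polynomial.aeval_def, Polynomial.aeval_algHom_apply]
          exact Ideal.Quotient.eq_zero_iff_mem.2
            (Ideal.subset_span (Finset.mem_coe.2 (Finset.mem_image_of_mem _ hb)))⟩)
    rw [htop, Algebra.top_toSubmodule] at hfg
    exact ⟨hfg⟩
  obtain ⟨N, g, hg⟩ := Module.Finite.exists_fin (R := A) (M := B ⧸ J₀)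
  choose m hm using fun k => Ideal.Quotient.mk_surjective (g k)
  set β : MvPolynomial (Fin N) A ⊗[A] B := ∑ k, MvPolynomial.X k ⊗ₜ[A] m k with hβ
  have hz := aeval_chiR F _ β
  rw [← mem_killedIdeal, killed_mvPolynomial] at hz
  obtain ⟨J₁, hJ₁, hJ₁le, hz₁⟩ := exists_fg_le_of_mem_map
    (Algebra.TensorProduct.includeRight : B →ₐ[A] MvPolynomial (Fin N) A ⊗[A] B).toRingHom hz
  refine ⟨J₀ ⊔ J₁, Submodule.FG.sup ⟨T, rfl⟩ hJ₁, sup_le hJ₀le hJ₁le,
    le_antisymm (Ideal.radical_mono (sup_le hJ₀le hJ₁le)) (Ideal.radical_le_radical_iff.2 fun b hb => ?_)⟩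
  obtain ⟨c, hc⟩ := (Submodule.mem_span_range_iff_exists_fun A).1
    (hg ▸ Submodule.mem_top (x := Ideal.Quotient.mk J₀ b))
  set b' := ∑ k, c k • m k with hb'
  have hdiff : b - b' ∈ J₀ := by
    rw [← Ideal.Quotient.eq, ← hc, hb', map_sum]
    exact Finset.sum_congr rfl fun k _ => by rw [← hm, ← Ideal.Quotient.mkₐ_eq_mk A, map_smul]
  have hb'ker : b' ∈ PolLaw.ker F.law := by
    have := Ideal.sub_mem _ hb (hJ₀le hdiff)
    rwa [sub_sub_cancel] at this
  let ev : MvPolynomial (Fin N) A ⊗[A] B →ₐ[A] B :=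
    Algebra.TensorProduct.lift ((MvPolynomial.aeval fun k => algebraMap A B (c k)))
      (AlgHom.id A B) (fun _ _ => Commute.all _ _)
  let g' : MvPolynomial (Fin N) A →ₐ[A] A := MvPolynomial.aeval c
  have hev : ∀ x, ev x = Algebra.TensorProduct.lid A B (chg B g' x) := by
    intro x
    induction x using TensorProduct.induction_on with
    | zero => simp
    | add p q hp hq => simp only [map_add, hp, hq]
    | tmul r y =>
      have : (MvPolynomial.aeval fun k => algebraMap A B (c k)) r = algebraMap A B (g' r) := by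
        have h := DFunLike.congr_fun (MvPolynomial.comp_aeval (f := c) (φ := Algebra.ofId A B)) r
        exact h.symm
      simp [ev, this, Algebra.smul_def]
  have hgβ : chg B g' β = (1 : A) ⊗ₜ[A] b' := by
    simp [hβ, hb', g', map_sum, TensorProduct.tmul_sum, TensorProduct.smul_tmul']
  have h1 : ev (Polynomial.aeval β (chiR F _ β)) ∈ J₁ := by
    have := Ideal.mem_map_of_mem ev.toRingHom hz₁
    rw [Ideal.map_map] at this
    rwa [show ev.toRingHom.comp
      (Algebra.TensorProduct.includeRight : B →ₐ[A] MvPolynomial (Fin N) A ⊗[A] B).toRingHom = RingHom.id B from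
        RingHom.ext fun y => by simp [ev], Ideal.map_id] at this
  rw [hev, chg_aeval, chiR_natural, hgβ, chiR_of_killed F (killed_of_mem_ker F hb'ker A), map_pow, map_neg,
    Polynomial.aeval_X, map_pow, map_neg, Algebra.TensorProduct.lid_tmul, one_smul, neg_pow] at h1
  have h2 : b' ∈ (J₀ ⊔ J₁).radical :=
    ⟨d, Ideal.mem_sup_right ((Ideal.unit_mul_mem_iff_mem _ ((isUnit_one.neg).pow d)).1 h1)⟩
  have := Ideal.add_mem _ h2 (Ideal.le_radical (Ideal.mem_sup_left hdiff : b - b' ∈ J₀ ⊔ J₁))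
  rwa [add_sub_cancel] at this

end Groth.Agent.ZeroCycLib
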