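import Groth.Agent.ZeroCycLib.KerTools
import Mathlib.RingTheory.Ideal.GoingUp
import Mathlib.RingTheory.Ideal.MinimalPrime.Localization
import Mathlib.RingTheory.IntegralClosure.Algebra.Basic
import Mathlib.RingTheory.LocalRing.ResidueField.Fiber
import Mathlib.FieldTheory.IsAlgClosed.AlgebraicClosure
import Mathlib.LinearAlgebra.TensorProduct.RightExactness

/-! Images of scalar laws: integrality, domains, fibres. -/

set_option autoImplicit false

universe u

open scoped TensorProduct

namespace Groth.Agent.ZeroCycLib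

open PolLaw

variable {A B : Type u} [CommRing A] [CommRing B] [Algebra A B] {d : ℕ} (F : MulLaw A B A d)

theorem aeval_mem_ker (b : B) :
    Polynomial.aeval b (chiR F A ((1 : A) ⊗ₜ[A] b)) ∈ PolLaw.ker F.law := by
  rw [← killed_iff_mem_ker]
  have h := aeval_chiR F A ((1 : A) ⊗ₜ[A] b)
  convert h using 1
  exact (Polynomial.aeval_algHom_apply (Algebra.TensorProduct.includeRight : B →ₐ[A] A ⊗[A] B) b _).symm

theorem isIntegral_image : Algebra.IsIntegral A (PolLaw.image F.law) := by
  refine ⟨fun y => ?_⟩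
  obtain ⟨b, rfl⟩ := Ideal.Quotient.mk_surjective y
  refine ⟨Polynomial.C ((-1) ^ d) * chiR F A ((1 : A) ⊗ₜ[A] b), ?_, ?_⟩
  · apply Polynomial.monic_of_natDegree_le_of_coeff_eq_one d
    · exact (Polynomial.natDegree_C_mul_le _ _).trans (natDegree_chiR F A _)
    · rw [Polynomial.coeff_C_mul, coeff_chiR_top, ← mul_pow, neg_one_mul, neg_neg, one_pow]
  · rw [← Polynomial.aeval_def, map_mul]
    refine mul_eq_zero_of_right _ ?_
    rw [show Ideal.Quotient.mk (PolLaw.ker F.law) b = Ideal.Quotient.mkₐ A (PolLaw.ker F.law) b from rfl,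
      Polynomial.aeval_algHom_apply]
    exact Ideal.Quotient.eq_zero_iff_mem.2 (aeval_mem_ker F b)

theorem ker_bcA (R : Type u) [CommRing R] [Algebra A R] :
    PolLaw.ker (bcA R F).law = killedIdeal F R := by
  refine le_antisymm (fun v hv => ?_) fun v hv => mem_ker_of_nm _ fun σ x w => ?_
  · intro R' _ _ g x w
    let _ : Algebra R R' := g.toRingHom.toAlgebra
    have : IsScalarTower A R R' := IsScalarTower.of_algebraMap_eq fun a => (g.commutes a).symm
    have hg : IsScalarTower.toAlgHom A R R' = g := AlgHom.ext fun r => rfl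
    set e := Algebra.TensorProduct.cancelBaseChange A R R' R' B
    have h2 := nm_add_of_mem_ker (bcA R F) hv R' (e.symm x) (e.symm w)
    rw [nm_bcA, nm_bcA, map_add, map_mul, e.apply_symm_apply, e.apply_symm_apply, cancel_one_tmul, hg] at h2
    exact h2
  · rw [nm_bcA, nm_bcA, map_add, map_mul, cancel_one_tmul]
    exact hv (MvPolynomial σ R) (IsScalarTower.toAlgHom A R _) _ _

theorem mem_ker_of_smul [IsDomain A] {a : A} (ha : a ≠ 0) {b : B} (h : a • b ∈ PolLaw.ker F.law) :
    b ∈ PolLaw.ker F.law := by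
  refine mem_ker_of_nm F fun σ x w => ?_
  have hreg : IsRegular (algebraMap A (MvPolynomial σ A) a) :=
    IsRegular.of_ne_zero (by simpa [MvPolynomial.algebraMap_eq] using ha)
  refine nm_eq_of_regular F hreg ((1 : MvPolynomial σ A) ⊗ₜ[A] b) ?_ x w
  rw [algebraMap_smul, ← TensorProduct.tmul_smul]
  exact killed_of_mem_ker F h _

theorem comap_minimalPrime_eq_bot [IsDomain A] {P : Ideal B} (hP : P ∈ (PolLaw.ker F.law).minimalPrimes) :
    P.comap (algebraMap A B) = ⊥ := by
  rw [Ideal.minimalPrimes_eq_comap] at hP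
  obtain ⟨q, hq, rfl⟩ := hP
  rw [eq_bot_iff]
  intro a ha
  by_contra hne
  rw [Ideal.mem_bot] at hne
  refine notMem_nonZeroDivisors_of_mem_mem_minimalPrimes
    (x := Ideal.Quotient.mk (PolLaw.ker F.law) (algebraMap A B a)) ha hq ?_
  rw [mem_nonZeroDivisors_iff_right]
  intro y hy
  obtain ⟨b, rfl⟩ := Ideal.Quotient.mk_surjective y
  rw [← map_mul, Ideal.Quotient.eq_zero_iff_mem, mul_comm, ← Algebra.smul_def] at hy
  exact Ideal.Quotient.eq_zero_iff_mem.2 (mem_ker_of_smul F hne hy)

theorem exists_over [IsDomain A] {P : Ideal B} (hP : P ∈ (PolLaw.ker F.law).minimalPrimes) (q : Ideal A) [q.IsPrime] :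
    ∃ Q : Ideal B, Q.IsPrime ∧ P ≤ Q ∧ Q.comap (algebraMap A B) = q := by
  have hPp : P.IsPrime := hP.1.1
  have := isIntegral_image F
  set π := Ideal.Quotient.mkₐ A (PolLaw.ker F.law)
  have hπ : Function.Surjective π.toRingHom := Ideal.Quotient.mk_surjective
  have hker : RingHom.ker π.toRingHom ≤ P := (Ideal.mk_ker (I := PolLaw.ker F.law)).le.trans hP.1.2
  have : (P.map π.toRingHom).IsPrime := Ideal.map_isPrime_of_surjective hπ hker
  have hcomap : (P.map π.toRingHom).comap π.toRingHom = P := by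
    rw [Ideal.comap_map_of_surjective _ hπ, sup_eq_left]; exact hker
  have hle : (P.map π.toRingHom).comap (algebraMap A (PolLaw.image F.law)) ≤ q := by
    have e : (algebraMap A (PolLaw.image F.law)) = π.toRingHom.comp (algebraMap A B) := rfl
    rw [e, ← Ideal.comap_comap, hcomap, comap_minimalPrime_eq_bot F hP]
    exact bot_le
  obtain ⟨Q, hQ, hQp, hQc⟩ := Ideal.exists_ideal_over_prime_of_isIntegral_of_isPrime q (P.map π.toRingHom) hle
  refine ⟨Q.comap π.toRingHom, inferInstance, ?_, ?_⟩
  · conv_lhs => rw [← hcomap]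
    exact Ideal.comap_mono hQ
  · rw [Ideal.comap_comap]; exact hQc

theorem killed_le_radical (R : Type u) [CommRing R] [Algebra A R] :
    killedIdeal F R ≤
      ((PolLaw.ker F.law).map (Algebra.TensorProduct.includeRight : B →ₐ[A] R ⊗[A] B)).radical :=
  fun _ hv => ⟨d, pow_mem_map_ker F hv⟩

theorem generalizingMap_image (A' : Type u) [CommRing A'] [Algebra A A'] :
    GeneralizingMap (PrimeSpectrum.comap (algebraMap A' (A' ⊗[A] PolLaw.image F.law))) := by
  intro Q p hp
  have hp' : p.asIdeal ≤ Q.asIdeal.comap (algebraMap A' (A' ⊗[A] PolLaw.image F.law)) :=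
    (PrimeSpectrum.le_iff_specializes _ _).2 hp
  set π := Algebra.TensorProduct.map (AlgHom.id A A') (Ideal.Quotient.mkₐ A (PolLaw.ker F.law)) with hπdef
  have hπ : Function.Surjective π.toRingHom :=
    Algebra.TensorProduct.map_surjective _ _ Function.surjective_id Ideal.Quotient.mk_surjective
  set J := (PolLaw.ker F.law).map (Algebra.TensorProduct.includeRight : B →ₐ[A] A' ⊗[A] B) with hJ
  have hkerπ : RingHom.ker π.toRingHom = J := by
    refine (Algebra.TensorProduct.lTensor_ker (Ideal.Quotient.mkₐ A (PolLaw.ker F.law))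
      Ideal.Quotient.mk_surjective).trans ?_
    congr 1
    exact Ideal.mk_ker
  let D := A' ⧸ p.asIdeal
  set ρ := chg B (Ideal.Quotient.mkₐ A p.asIdeal) with hρdef
  have hρ : Function.Surjective ρ.toRingHom :=
    Algebra.TensorProduct.map_surjective _ _ Ideal.Quotient.mk_surjective Function.surjective_id
  set Q1 := Q.asIdeal.comap π.toRingHom with hQ1
  have hJQ : J ≤ Q1 := hkerπ ▸ Ideal.comap_mono bot_le
  have hπa : ∀ a : A', π (algebraMap A' _ a) = algebraMap A' _ a := fun a => by
    simp [hπdef, Algebra.TensorProduct.algebraMap_apply]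
  have hkerρ : RingHom.ker ρ.toRingHom ≤ Q1 := by
    refine ((Algebra.TensorProduct.rTensor_ker (Ideal.Quotient.mkₐ A p.asIdeal)
      Ideal.Quotient.mk_surjective).le).trans ?_
    rw [Ideal.map_le_iff_le_comap]
    intro a ha'
    have ha : a ∈ p.asIdeal := Ideal.Quotient.eq_zero_iff_mem.1 ha'
    show π (a ⊗ₜ[A] (1 : B)) ∈ Q.asIdeal
    rw [show (a ⊗ₜ[A] (1 : B)) = algebraMap A' _ a from rfl, hπa]
    exact hp' ha
  have : (Q1.map ρ.toRingHom).IsPrime := Ideal.map_isPrime_of_surjective hρ hkerρ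
  have hQ1c : (Q1.map ρ.toRingHom).comap ρ.toRingHom = Q1 := by
    rw [Ideal.comap_map_of_surjective _ hρ, sup_eq_left]; exact hkerρ
  have hJmap : J.map ρ.toRingHom = (PolLaw.ker F.law).map (Algebra.TensorProduct.includeRight : B →ₐ[A] D ⊗[A] B) := by
    rw [hJ]
    refine (Ideal.map_mapₐ _ _).trans ?_
    congr 1
  have hkill : PolLaw.ker (bcA D F).law ≤ Q1.map ρ.toRingHom := by
    rw [ker_bcA]
    refine (killed_le_radical F D).trans ?_
    rw [← hJmap, Ideal.IsPrime.radical_le_iff inferInstance]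
    exact Ideal.map_mono hJQ
  obtain ⟨P0, hP0, hP0le⟩ := Ideal.exists_minimalPrimes_le hkill
  have hP0p : P0.IsPrime := hP0.1.1
  have hbot := comap_minimalPrime_eq_bot (bcA D F) hP0
  set P1 := P0.comap ρ.toRingHom with hP1
  have hP1le : P1 ≤ Q1 := hQ1c ▸ Ideal.comap_mono hP0le
  have hJP : J ≤ P1 := by
    rw [hP1, ← Ideal.map_le_iff_le_comap, hJmap]
    exact (map_ker_le_killed F D).trans ((ker_bcA F D).ge.trans hP0.1.2)
  have hkerP : RingHom.ker π.toRingHom ≤ P1 := hkerπ.le.trans hJP
  have : (P1.map π.toRingHom).IsPrime := Ideal.map_isPrime_of_surjective hπ hkerP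
  refine ⟨⟨P1.map π.toRingHom, inferInstance⟩, ?_, ?_⟩
  · refine (PrimeSpectrum.le_iff_specializes _ _).1 ?_
    show P1.map π.toRingHom ≤ Q.asIdeal
    exact Ideal.map_le_iff_le_comap.2 hP1le
  · apply PrimeSpectrum.ext
    show (P1.map π.toRingHom).comap (algebraMap A' _) = p.asIdeal
    have e : algebraMap A' (A' ⊗[A] PolLaw.image F.law) = π.toRingHom.comp (algebraMap A' (A' ⊗[A] B)) :=
      RingHom.ext fun a => (hπa a).symm
    rw [e, ← Ideal.comap_comap, Ideal.comap_map_of_surjective _ hπ, ← RingHom.ker_eq_comap_bot, sup_eq_left.2 hkerP]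
    ext a
    rw [Ideal.mem_comap, hP1, Ideal.mem_comap,
      show ρ.toRingHom (algebraMap A' _ a) = algebraMap D (D ⊗[A] B) (Ideal.Quotient.mk _ a) by
        simp [hρdef, D, Algebra.TensorProduct.algebraMap_apply],
      ← Ideal.mem_comap, hbot, Ideal.mem_bot, Ideal.Quotient.eq_zero_iff_mem]

/-- field-valued points of the image -/
theorem finite_points (Ω : Type u) [Field Ω] [Algebra A Ω] :
    Finite (PolLaw.image F.law →ₐ[A] Ω) ∧ Nat.card (PolLaw.image F.law →ₐ[A] Ω) ≤ d := by
  have key : ∀ f : Fin (d + 1) → (PolLaw.image F.law →ₐ[A] Ω), ¬ Function.Injective f := fun f hf =>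
    card_points F (fun i => (f i).comp (Ideal.Quotient.mkₐ A _))
      (fun i b hb => by
        show f i (Ideal.Quotient.mk _ b) = 0
        rw [Ideal.Quotient.eq_zero_iff_mem.2 hb, map_zero])
      (fun i j h => hf (Ideal.Quotient.algHom_ext A h))
  have hfin : Finite (PolLaw.image F.law →ₐ[A] Ω) := by
    by_contra hinf
    rw [not_finite_iff_infinite] at hinf
    let e := Infinite.natEmbedding (PolLaw.image F.law →ₐ[A] Ω)
    exact key (fun i => e i) fun i j h => Fin.ext (e.injective h)
  refine ⟨hfin, ?_⟩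
  by_contra hlt
  push Not at hlt
  let e := Finite.equivFin (PolLaw.image F.law →ₐ[A] Ω)
  exact key (fun i => e.symm (Fin.castLE hlt i)) (e.symm.injective.comp (Fin.castLE_injective hlt))

theorem finite_primes (K : Type u) [Field K] [Algebra A K] :
    Finite (PrimeSpectrum (K ⊗[A] PolLaw.image F.law)) ∧
      Nat.card (PrimeSpectrum (K ⊗[A] PolLaw.image F.law)) ≤ d := by
  have := isIntegral_image F
  have hg : ∀ P : PrimeSpectrum (K ⊗[A] PolLaw.image F.law),
      ∃ g : K ⊗[A] PolLaw.image F.law →ₐ[K] AlgebraicClosure K, RingHom.ker g.toRingHom = P.asIdeal := by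
    intro P
    let L := (K ⊗[A] PolLaw.image F.law) ⧸ P.asIdeal
    have : Algebra.IsIntegral K L :=
      Algebra.IsIntegral.of_surjective (Ideal.Quotient.mkₐ K P.asIdeal) Ideal.Quotient.mk_surjective
    have hL : IsField L := isField_of_isIntegral_of_isField' (R := K) (S := L) (Field.toIsField K)
    let _ : Field L := hL.toField
    have : Algebra.IsAlgebraic K L := Algebra.IsIntegral.isAlgebraic
    refine ⟨(IsAlgClosed.lift (R := K) (S := L) (M := AlgebraicClosure K)).comp (Ideal.Quotient.mkₐ K P.asIdeal), ?_⟩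
    ext z
    simp [RingHom.mem_ker, Ideal.Quotient.eq_zero_iff_mem, L]
  choose g hg using hg
  obtain ⟨hfin, hcard⟩ := finite_points F (AlgebraicClosure K)
  let Φ : PrimeSpectrum (K ⊗[A] PolLaw.image F.law) → (PolLaw.image F.law →ₐ[A] AlgebraicClosure K) := fun P =>
    ((g P).restrictScalars A).comp Algebra.TensorProduct.includeRight
  have hΦ : Function.Injective Φ := fun P P' h => by
    have : g P = g P' := Algebra.TensorProduct.ext (Subsingleton.elim _ _) h
    exact PrimeSpectrum.ext (by rw [← hg P, ← hg P', this])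
  exact ⟨Finite.of_injective Φ hΦ, (Nat.card_le_card_of_injective Φ hΦ).trans hcard⟩

theorem finite_fibre (m : PrimeSpectrum A) :
    (PrimeSpectrum.comap (algebraMap A (PolLaw.image F.law)) ⁻¹' {m}).Finite := by
  have := (finite_primes F m.asIdeal.ResidueField).1
  rw [Set.finite_coe_iff.symm]
  exact (PrimeSpectrum.preimageEquivFiber A (PolLaw.image F.law) m).finite_iff.mpr this

end Groth.Agent.ZeroCycLib
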