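import Groth.Agent.ZeroCycLib.Reduced
import Mathlib.AlgebraicGeometry.Morphisms.UniversallyOpen
import Mathlib.AlgebraicGeometry.Pullbacks

/-! The image of a scalar law is universally open over the base. -/

set_option autoImplicit false

universe u

open scoped TensorProduct
open CategoryTheory Limits AlgebraicGeometry

namespace Groth.Agent.ZeroCycLib

open PolLaw

variable {A B : Type u} [CommRing A] [CommRing B] [Algebra A B] {d : ℕ} (F : MulLaw A B A d)

theorem isOpenMap_image (A' : Type u) [CommRing A'] [Algebra A A'] :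
    IsOpenMap (PrimeSpectrum.comap (algebraMap A' (A' ⊗[A] PolLaw.image F.law))) := by
  rw [PrimeSpectrum.isTopologicalBasis_basic_opens.isOpenMap_iff]
  rintro _ ⟨fbar, rfl⟩
  set π := Algebra.TensorProduct.map (AlgHom.id A A') (Ideal.Quotient.mkₐ A (PolLaw.ker F.law)) with hπdef
  have hπ : Function.Surjective π.toRingHom :=
    Algebra.TensorProduct.map_surjective _ _ Function.surjective_id Ideal.Quotient.mk_surjective
  have hkerπ : RingHom.ker π.toRingHom =
      (PolLaw.ker F.law).map (Algebra.TensorProduct.includeRight : B →ₐ[A] A' ⊗[A] B) := by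
    refine (Algebra.TensorProduct.lTensor_ker (Ideal.Quotient.mkₐ A (PolLaw.ker F.law))
      Ideal.Quotient.mk_surjective).trans ?_
    congr 1
    exact Ideal.mk_ker
  have hπa : algebraMap A' (A' ⊗[A] PolLaw.image F.law) = π.toRingHom.comp (algebraMap A' (A' ⊗[A] B)) :=
    RingHom.ext fun a => by simp [hπdef, Algebra.TensorProduct.algebraMap_apply]
  obtain ⟨f, rfl⟩ := hπ fbar
  have key : PrimeSpectrum.comap (algebraMap A' (A' ⊗[A] PolLaw.image F.law)) ''
      (PrimeSpectrum.basicOpen (π.toRingHom f) : Set (PrimeSpectrum (A' ⊗[A] PolLaw.image F.law))) =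
      ⋃ i < d, (PrimeSpectrum.basicOpen ((chiR F A' f).coeff i) : Set (PrimeSpectrum A')) := by
    ext p
    simp only [Set.mem_image, Set.mem_iUnion, SetLike.mem_coe, PrimeSpectrum.mem_basicOpen, exists_prop]
    rw [← image_basicOpen F A' f p]
    constructor
    · rintro ⟨Q, hQ, rfl⟩
      refine ⟨Q.asIdeal.comap π.toRingHom, inferInstance, hkerπ ▸ Ideal.comap_mono bot_le, ?_, hQ⟩
      show _ = Q.asIdeal.comap _
      rw [Ideal.comap_comap, hπa]
    · rintro ⟨Q, hQ, hJ, hQp, hf⟩
      have hle : RingHom.ker π.toRingHom ≤ Q := hkerπ.le.trans hJ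
      have : (Q.map π.toRingHom).IsPrime := Ideal.map_isPrime_of_surjective hπ hle
      have hc : (Q.map π.toRingHom).comap π.toRingHom = Q := by
        rw [Ideal.comap_map_of_surjective _ hπ, sup_eq_left]; exact hle
      refine ⟨⟨Q.map π.toRingHom, inferInstance⟩, fun h => hf (hc ▸ h), PrimeSpectrum.ext ?_⟩
      show (Q.map π.toRingHom).comap _ = _
      rw [hπa, ← Ideal.comap_comap, hc, hQp]
  rw [key]
  exact isOpen_iUnion fun i => isOpen_iUnion fun _ => (PrimeSpectrum.basicOpen _).isOpen

theorem isOpenMap_fst_spec (R : CommRingCat.{u}) (h : Spec R ⟶ Spec (CommRingCat.of A)) :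
    topologically @IsOpenMap
      (pullback.fst h (Spec.map (CommRingCat.ofHom (algebraMap A (PolLaw.image F.law))))) := by
  obtain ⟨φ, rfl⟩ := Spec.map_surjective h
  let _ : Algebra A R := φ.hom.toAlgebra
  rw [show φ = CommRingCat.ofHom (algebraMap A R) from rfl, ← pullbackSpecIso_hom_fst',
    MorphismProperty.cancel_left_of_respectsIso (P := topologically @IsOpenMap)]
  exact isOpenMap_image F R

theorem universallyOpen_image :
    UniversallyOpen (Spec.map (CommRingCat.ofHom (algebraMap A (PolLaw.image F.law)))) := by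
  refine ⟨MorphismProperty.universally_mk' _ _ fun {T} f _ => ?_⟩
  rw [IsZariskiLocalAtTarget.iff_of_openCover (P := topologically @IsOpenMap) T.affineCover]
  intro i
  dsimp only [Scheme.Cover.pullbackHom]
  set g := Spec.map (CommRingCat.ofHom (algebraMap A (PolLaw.image F.law)))
  have h := (IsPullback.of_hasPullback (pullback.fst f g) (T.affineCover.f i)).flip.paste_vert
    (IsPullback.of_hasPullback f g)
  rw [← h.isoPullback_hom_fst]
  refine (MorphismProperty.cancel_left_of_respectsIso (P := topologically @IsOpenMap) _ _).2 ?_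
  exact isOpenMap_fst_spec F _ _

end Groth.Agent.ZeroCycLib
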