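import Groth.Agent.ZeroCycLib.Nm
import Mathlib.RingTheory.Spectrum.Prime.Topology

/-! Multiplicities on a disjoint union over a connected base. -/

set_option autoImplicit false

universe u

open scoped TensorProduct

namespace Groth.Agent.ZeroCycLib

open PolLaw

variable {A B B' : Type u} [CommRing A] [CommRing B] [Algebra A B] [CommRing B'] [Algebra A B'] {d : ℕ}

/-- a corner of an algebra: a non-unital embedding with complementary idempotent -/
structure Corner (ι : B' →ₗ[A] B) (e : B) : Prop where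
  hmul : ∀ x y, ι (x * y) = ι x * ι y
  hone : ι 1 + e = 1
  idem : e * e = e
  ortho : ∀ x, ι x * e = 0

variable {ι : B' →ₗ[A] B} {e : B}

section

variable {S : Type u} [CommSemiring S] [Algebra A S]

theorem Corner.lT_mul (h : Corner ι e) (x y : S ⊗[A] B') :
    ι.lTensor S (x * y) = ι.lTensor S x * ι.lTensor S y := by
  induction x using TensorProduct.induction_on with
  | zero => simp
  | add p q hp hq => simp only [add_mul, map_add, hp, hq]
  | tmul s b =>
    induction y using TensorProduct.induction_on with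
    | zero => simp
    | add p q hp hq => simp only [mul_add, map_add, hp, hq]
    | tmul t c => simp [h.hmul]

theorem Corner.lT_ortho (h : Corner ι e) (x : S ⊗[A] B') : ι.lTensor S x * ((1 : S) ⊗ₜ[A] e) = 0 := by
  induction x using TensorProduct.induction_on with
  | zero => simp
  | add p q hp hq => simp only [map_add, add_mul, hp, hq, add_zero]
  | tmul s b => simp [h.ortho]

theorem lT_smul (s : S) (x : S ⊗[A] B') : ι.lTensor S (s • x) = s • ι.lTensor S x := by
  induction x using TensorProduct.induction_on with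
  | zero => simp
  | add p q hp hq => simp only [smul_add, map_add, hp, hq]
  | tmul t b => simp [TensorProduct.smul_tmul']

theorem Corner.lT_key (h : Corner ι e) (x y : S ⊗[A] B') :
    (ι.lTensor S x + (1 : S) ⊗ₜ[A] e) * (ι.lTensor S y + (1 : S) ⊗ₜ[A] e) =
      ι.lTensor S (x * y) + (1 : S) ⊗ₜ[A] e := by
  rw [add_mul, mul_add, mul_add, ← h.lT_mul, h.lT_ortho, mul_comm ((1 : S) ⊗ₜ[A] e) (ι.lTensor S y), h.lT_ortho,
    Algebra.TensorProduct.tmul_mul_tmul, mul_one, h.idem, add_zero, zero_add]

end

/-- the law induced on a corner -/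
noncomputable def Corner.law (h : Corner ι e) (F : MulLaw A B A d) {d' : ℕ}
    (hd : nm F (Polynomial A) ((Polynomial.X : Polynomial A) ⊗ₜ[A] ι 1 + 1 ⊗ₜ[A] e) = Polynomial.X ^ d') :
    MulLaw A B' A d' where
  law :=
  { toFun' := fun S _ _ x => F.law.toFun' S (ι.lTensor S x + (1 : S) ⊗ₜ[A] e)
    isCompat' := fun {S} _ _ {S'} _ _ φ => by
      funext x
      simp only [Function.comp_apply]
      rw [compat, map_add, LinearMap.rTensor_tmul, AlgHom.toLinearMap_apply, map_one]
      congr 2
      rw [← LinearMap.comp_apply, LinearMap.rTensor_comp_lTensor, ← LinearMap.lTensor_comp_rTensor,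
        LinearMap.comp_apply] }
  homog S _ _ s x := by
    show F.law.toFun' S (ι.lTensor S (s • x) + _) = s ^ d' • F.law.toFun' S (ι.lTensor S x + _)
    have e1 : ι.lTensor S (s • x) + (1 : S) ⊗ₜ[A] e =
        (ι.lTensor S (s ⊗ₜ[A] (1 : B')) + (1 : S) ⊗ₜ[A] e) * (ι.lTensor S x + (1 : S) ⊗ₜ[A] e) := by
      rw [h.lT_key]
      congr 2
      induction x using TensorProduct.induction_on with
      | zero => simp
      | add p q hp hq => simp only [smul_add, mul_add, hp, hq]
      | tmul t b => simp [TensorProduct.smul_tmul']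
    rw [e1, (F.mult S).2]
    have e2 : nm F S (ι.lTensor S (s ⊗ₜ[A] (1 : B')) + (1 : S) ⊗ₜ[A] e) = s ^ d' := by
      have := congrArg (Polynomial.aeval s : Polynomial A →ₐ[A] S) hd
      rw [nm_natural, map_add, Algebra.TensorProduct.map_tmul, Algebra.TensorProduct.map_tmul,
        Polynomial.aeval_X, map_one (Polynomial.aeval s : Polynomial A →ₐ[A] S), map_pow, Polynomial.aeval_X] at this
      exact this
    rw [toFun_eq_nm F (ι.lTensor S (s ⊗ₜ[A] (1 : B')) + (1 : S) ⊗ₜ[A] e), e2]
    generalize F.law.toFun' S (ι.lTensor S x + (1 : S) ⊗ₜ[A] e) = z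
    induction z using TensorProduct.induction_on with
    | zero => simp
    | add p q hp hq => simp only [smul_add, mul_add, hp, hq]
    | tmul t a => simp [TensorProduct.smul_tmul']
  mult S _ _ := by
    refine ⟨?_, fun x y => ?_⟩
    · show F.law.toFun' S (ι.lTensor S 1 + _) = 1
      rw [Algebra.TensorProduct.one_def, LinearMap.lTensor_tmul, ← TensorProduct.tmul_add, h.hone]
      exact (F.mult S).1
    · show F.law.toFun' S (ι.lTensor S (x * y) + _) = _
      rw [← h.lT_key, (F.mult S).2]

theorem eq_zero_or_one_of_idem [ConnectedSpace (PrimeSpectrum A)] {a : A} (h : a * a = a) : a = 0 ∨ a = 1 := by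
  have hc : IsClopen (PrimeSpectrum.basicOpen a : Set (PrimeSpectrum A)) := by
    refine ⟨?_, (PrimeSpectrum.basicOpen a).isOpen⟩
    have he : (PrimeSpectrum.basicOpen a : Set (PrimeSpectrum A)) = PrimeSpectrum.zeroLocus {1 - a} := by
      ext p
      simp only [SetLike.mem_coe, PrimeSpectrum.mem_basicOpen, PrimeSpectrum.mem_zeroLocus,
        Set.singleton_subset_iff, SetLike.mem_coe]
      refine ⟨fun hp => ?_, fun hp hap => p.2.ne_top ?_⟩
      · exact (p.2.mem_or_mem (show a * (1 - a) ∈ p.asIdeal by rw [mul_sub, mul_one, h, sub_self]; exact zero_mem _)).resolve_left hp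
      · rw [Ideal.eq_top_iff_one, ← sub_add_cancel 1 a]; exact add_mem hp hap
    rw [he]
    exact PrimeSpectrum.isClosed_zeroLocus _
  rcases isClopen_iff.1 hc with h0 | h1
  · left
    have : IsNilpotent a := PrimeSpectrum.basicOpen_eq_bot_iff a |>.1 (SetLike.coe_injective (h0.trans TopologicalSpace.Opens.coe_bot.symm))
    exact IsIdempotentElem.eq_zero_of_isNilpotent h this
  · right
    have hu : IsUnit a := by
      by_contra hu
      obtain ⟨m, hm, ham⟩ := exists_max_ideal_of_mem_nonunits hu
      exact (h1.ge (Set.mem_univ (⟨m, hm.isPrime⟩ : PrimeSpectrum A))) ham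
    exact hu.mul_left_cancel (h.trans (mul_one a).symm)

theorem exists_multiplicity [ConnectedSpace (PrimeSpectrum A)] (F : MulLaw A B A d) {e₁ e₂ : B}
    (h₁ : e₁ * e₁ = e₁) (h₂ : e₂ * e₂ = e₂) (h₁₂ : e₁ * e₂ = 0) (h : e₁ + e₂ = 1) :
    ∃ d' : ℕ, nm F (Polynomial A) ((Polynomial.X : Polynomial A) ⊗ₜ[A] e₁ + 1 ⊗ₜ[A] e₂) = Polynomial.X ^ d' := by
  classical
  set p := nm F (Polynomial A) ((Polynomial.X : Polynomial A) ⊗ₜ[A] e₁ + 1 ⊗ₜ[A] e₂) with hp
  let g₁ : Polynomial A →ₐ[A] Polynomial (Polynomial A) := Polynomial.aeval (Polynomial.C Polynomial.X)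
  let g₂ : Polynomial A →ₐ[A] Polynomial (Polynomial A) := Polynomial.aeval Polynomial.X
  let g₃ : Polynomial A →ₐ[A] Polynomial (Polynomial A) := Polynomial.aeval (Polynomial.C Polynomial.X * Polynomial.X)
  have hmul : g₁ p * g₂ p = g₃ p := by
    rw [hp, nm_natural, nm_natural, nm_natural, ← nm_mul]
    congr 1
    simp [g₁, g₂, g₃, add_mul, mul_add, h₁, h₂, h₁₂, mul_comm e₂ e₁]
  have hg₁ : g₁ p = Polynomial.C p := by
    have : g₁ = IsScalarTower.toAlgHom A (Polynomial A) (Polynomial (Polynomial A)) :=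
      Polynomial.algHom_ext (by simp [g₁])
    rw [this]; rfl
  have hg₂ : g₂ p = p.map Polynomial.C := by
    have : g₂ = Polynomial.mapAlgHom (Algebra.ofId A (Polynomial A)) := Polynomial.algHom_ext (by simp [g₂])
    rw [this]; rfl
  have hg₃ : g₃ p = (p.map Polynomial.C).comp (Polynomial.C Polynomial.X * Polynomial.X) := by
    rw [Polynomial.comp, Polynomial.eval₂_map]
    rfl
  rw [hg₁, hg₂, hg₃] at hmul
  have hij : ∀ i j, p.coeff i * p.coeff j = if i = j then p.coeff j else 0 := fun i j => by
    have := congrArg (fun q => (Polynomial.coeff q j).coeff i) hmul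
    simp only [Polynomial.coeff_C_mul, Polynomial.coeff_map, Polynomial.comp_C_mul_X_coeff,
      Polynomial.coeff_mul_C, Polynomial.coeff_C_mul_X_pow, Polynomial.coeff_X_pow, mul_ite, mul_one, mul_zero] at this
    exact this
  have h1 : p.eval 1 = 1 := by
    have : (Polynomial.aeval (1 : A) : Polynomial A →ₐ[A] A) p = 1 := by
      rw [hp, nm_natural]
      have : chg B (Polynomial.aeval (1 : A) : Polynomial A →ₐ[A] A)
          ((Polynomial.X : Polynomial A) ⊗ₜ[A] e₁ + 1 ⊗ₜ[A] e₂) = 1 := by
        simp [← TensorProduct.tmul_add, h, Algebra.TensorProduct.one_def]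
      rw [this, nm_one]
    simpa using this
  obtain ⟨i, hi⟩ : ∃ i, p.coeff i = 1 := by
    by_contra hne
    push Not at hne
    have : p = 0 := Polynomial.ext fun i =>
      ((eq_zero_or_one_of_idem (by simpa using hij i i)).resolve_right (hne i)).trans (Polynomial.coeff_zero i).symm
    rw [this, Polynomial.eval_zero] at h1
    have : Nontrivial A := PrimeSpectrum.nonempty_iff_nontrivial.1 inferInstance
    exact one_ne_zero h1.symm
  refine ⟨i, Polynomial.ext fun j => ?_⟩
  rw [Polynomial.coeff_X_pow]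
  by_cases hji : j = i
  · rw [if_pos hji, hji, hi]
  · rw [if_neg hji]
    simpa [hi, hji] using hij j i

end Groth.Agent.ZeroCycLib
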