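import Groth.Agent.ZeroCycLib.Reduced
import Mathlib.RingTheory.TensorProduct.MvPolynomial

/-! Reduced images for laws with values in an algebra. -/

set_option autoImplicit false

universe u

open scoped TensorProduct

namespace Groth.Agent.ZeroCycLib

open PolLaw

variable {A B C : Type u} [CommRing A] [CommRing B] [Algebra A B] [CommRing C] [Algebra A C] {d : ℕ}

/-- base change of the polynomial ring, as an evaluation -/
noncomputable def thetaC (σ : Type u) : MvPolynomial σ A ⊗[A] C →ₐ[A] MvPolynomial σ C :=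
  (muS C (MvPolynomial σ C)).comp
    (Algebra.TensorProduct.map (MvPolynomial.mapAlgHom (Algebra.ofId A C)) (AlgHom.id A C))

theorem thetaC_injective (σ : Type u) : Function.Injective (thetaC (A := A) (C := C) σ) := by
  classical
  set e := ((Algebra.TensorProduct.comm A (MvPolynomial σ A) C).trans
    ((MvPolynomial.algebraTensorAlgEquiv A C).restrictScalars A))
  have h : thetaC (A := A) (C := C) σ = e.toAlgHom := by
    apply Algebra.TensorProduct.ext
    · apply MvPolynomial.algHom_ext
      intro i
      simp [thetaC, muS, e]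
    · ext c
      simp [thetaC, muS, e, MvPolynomial.algebraMap_eq, MvPolynomial.coeff_one]
  rw [h]
  exact e.injective

theorem mem_ker_bc_iff (F : MulLaw A B C d) (b : B) :
    (1 : C) ⊗ₜ[A] b ∈ PolLaw.ker (bc C F).law ↔ b ∈ PolLaw.ker F.law := by
  constructor
  · intro h
    refine mem_ker_of_poly F.law b fun σ x w => thetaC_injective σ ?_
    set ι : MvPolynomial σ A →ₐ[A] MvPolynomial σ C := MvPolynomial.mapAlgHom (Algebra.ofId A C) with hι
    set e := Algebra.TensorProduct.cancelBaseChange A C (MvPolynomial σ C) (MvPolynomial σ C) B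
    have h2 := nm_add_of_mem_ker (bc C F) h (MvPolynomial σ C) (e.symm (chg B ι x)) (e.symm (chg B ι w))
    rw [nm_bc, nm_bc, bcFun, bcFun, map_add, map_mul, e.apply_symm_apply, e.apply_symm_apply, cancel_one_tmul,
      Algebra.TensorProduct.map_tmul, map_one, AlgHom.id_apply,
      show chg B ι x + chg B ι w * ((1 : MvPolynomial σ C) ⊗ₜ[A] b) = chg B ι (x + w * ((1 : MvPolynomial σ A) ⊗ₜ[A] b)) by
        rw [map_add, map_mul, Algebra.TensorProduct.map_tmul, map_one, AlgHom.id_apply],
      ← rTensor_algHom_apply ι, ← rTensor_algHom_apply ι, ← compat, ← compat, rTensor_algHom_apply ι,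
      rTensor_algHom_apply ι] at h2
    exact h2
  · intro hb
    refine mem_ker_of_nm _ fun σ x w => ?_
    rw [nm_bc, nm_bc, bcFun, bcFun, map_add, map_mul, cancel_one_tmul, Algebra.TensorProduct.map_tmul, map_one,
      AlgHom.id_apply, hb]

theorem isReduced_image_of [IsReduced C] (F : MulLaw A B C d) : IsReduced (PolLaw.image F.law) := by
  refine ⟨fun y ⟨n, hn⟩ => ?_⟩
  obtain ⟨b, rfl⟩ := Ideal.Quotient.mk_surjective y
  rw [← map_pow, Ideal.Quotient.eq_zero_iff_mem, ← mem_ker_bc_iff] at hn
  rw [Ideal.Quotient.eq_zero_iff_mem, ← mem_ker_bc_iff]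
  refine mem_ker_of_pow_mem (bc C F) (n := n) ?_
  rwa [Algebra.TensorProduct.tmul_pow, one_pow]

end Groth.Agent.ZeroCycLib
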