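import Groth.Agent.ZeroCycLib.Cover
import Mathlib.RingTheory.Flat.EquationalCriterion
import Mathlib.RingTheory.Ideal.Maps

/-! Symmetric tensors are divided powers when flat or when `d!` is invertible. -/

set_option autoImplicit false

universe u

open scoped TensorProduct
open Finset

namespace Groth.Agent.ZeroCycLib

open PolLaw

variable {A : Type u} [CommRing A] {B : Type u} [CommRing B] [Algebra A B] {d : ℕ}

theorem tmap_comp {B' B'' : Type u} [CommRing B'] [Algebra A B'] [CommRing B''] [Algebra A B'']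
    (f : B →ₐ[A] B') (g : B' →ₐ[A] B'') :
    (SymTen.tmap A d g).comp (SymTen.tmap A d f) = SymTen.tmap A d (g.comp f) := by
  apply AlgHom.toLinearMap_injective
  rw [AlgHom.comp_toLinearMap, tmap_tl, tmap_tl, tmap_tl, AlgHom.comp_toLinearMap, Tl_comp]

theorem tsmap_comp {B' B'' : Type u} [CommRing B'] [Algebra A B'] [CommRing B''] [Algebra A B'']
    (f : B →ₐ[A] B') (g : B' →ₐ[A] B'') :
    (SymTen.TSmap A d g).comp (SymTen.TSmap A d f) = SymTen.TSmap A d (g.comp f) := by
  refine AlgHom.ext fun t => Subtype.ext ?_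
  exact AlgHom.congr_fun (tmap_comp f g) t.1

variable (A B d)

/-- `x ↦ x ⊗ ⋯ ⊗ x` into symmetric tensors, for any algebra -/
noncomputable def tauB : MulLaw A B (SymTen.TS A B d) d :=
  descendMul (rpair A B) ((tau (bP A B)).postcomp (SymTen.TSmap A d (π A B))) (by
    rw [postcomp_precomp, postcomp_precomp, tau_p, tau_p, postcomp_postcomp, postcomp_postcomp,
      tsmap_comp, tsmap_comp, π_p])

variable {A B d}

theorem tauB_lift (S : Type u) [CommSemiring S] [Algebra A S] (y : S ⊗[A] P A B) :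
    (tauB A B d).law.toFun' S ((π A B).toLinearMap.lTensor S y) =
      (SymTen.TSmap A d (π A B)).toLinearMap.lTensor S ((tau (bP A B)).law.toFun' S y) :=
  descendMul_apply _ _ _ S y

theorem val_tauB (S : Type u) [CommSemiring S] [Algebra A S] (x : S ⊗[A] B) :
    (SymTen.TS A B d).val.toLinearMap.lTensor S ((tauB A B d).law.toFun' S x) =
      (SymTen.tpowLaw A B d).law.toFun' S x := by
  obtain ⟨y, rfl⟩ := LinearMap.lTensor_surjective S (rpair A B).surj x
  rw [tauB_lift, ← LinearMap.comp_apply, ← LinearMap.lTensor_comp,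
    show (SymTen.TS A B d).val.toLinearMap ∘ₗ (SymTen.TSmap A d (π A B)).toLinearMap =
      (SymTen.tmap A d (π A B)).toLinearMap ∘ₗ incl from rfl,
    LinearMap.lTensor_comp, LinearMap.comp_apply, tau, incl_codLaw, tmap_tl, Tl_tpow]

theorem exists_liftAlg {R S T : Type u} [CommRing R] [Algebra A R] [CommRing S] [Algebra A S] [CommRing T]
    [Algebra A T] (f : R →ₐ[A] S) (hf : Function.Surjective f) (g : R →ₐ[A] T)
    (h : ∀ r, f r = 0 → g r = 0) : ∃ k : S →ₐ[A] T, k.comp f = g := by
  let k₀ := f.toRingHom.liftOfSurjective hf ⟨g.toRingHom, fun r hr => h r hr⟩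
  have hk : ∀ r, k₀ (f r) = g r := f.toRingHom.liftOfSurjective_comp_apply hf ⟨g.toRingHom, fun r hr => h r hr⟩
  refine ⟨{ k₀ with commutes' := fun a => ?_ }, AlgHom.ext hk⟩
  show k₀ (algebraMap A S a) = algebraMap A T a
  rw [← f.commutes, hk, g.commutes]

theorem isGammaD_tauB (hS : Function.Surjective (SymTen.TSmap A d (π A B)))
    (hK : ∀ (C : Type u) [CommRing C] [Algebra A C] (F : MulLaw A B C d) (w : SymTen.TS A (P A B) d),
      SymTen.TSmap A d (π A B) w = 0 → rhoP F w = 0) :
    IsGammaD (tauB A B d) := by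
  intro C _ _ F
  obtain ⟨k, hk⟩ := exists_liftAlg _ hS (rhoP F) (hK C F)
  refine ⟨k, ?_, fun g hg => ?_⟩
  · ext S _ _ x
    obtain ⟨y, rfl⟩ := LinearMap.lTensor_surjective S (rpair A B).surj x
    rw [postcomp_apply, tauB_lift, ← lTensor_comp_apply', hk, rhoP_tau_apply]
  · have e : g.comp (SymTen.TSmap A d (π A B)) = rhoP F := by
      apply alg_ext (bP A B)
      ext S _ _ y
      rw [postcomp_apply, postcomp_apply, lTensor_comp_apply', ← tauB_lift, rhoP_tau_apply,
        ← postcomp_apply, hg]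
    refine AlgHom.ext fun s => ?_
    obtain ⟨w, rfl⟩ := hS s
    rw [← AlgHom.comp_apply, ← AlgHom.comp_apply, e, hk]

theorem TSmap_surjective_of_isUnit (h : IsUnit ((d.factorial : ℕ) : A)) :
    Function.Surjective (SymTen.TSmap A d (π A B)) := by
  intro y
  obtain ⟨z, hz⟩ := (rpairT A B d).surj (incl y)
  obtain ⟨u, hu⟩ := h
  refine ⟨(↑u⁻¹ : A) • symSum (P A B) d z, ?_⟩
  rw [map_smul, symSum_natural, show SymTen.tmap A d (π A B) z = incl y from hz, symSum_incl,
    ← Nat.cast_smul_eq_nsmul A, smul_smul, ← hu, Units.inv_mul, one_smul]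

theorem rhoP_eq_zero_of_isUnit (h : IsUnit ((d.factorial : ℕ) : A)) {C : Type u} [CommRing C] [Algebra A C]
    (F : MulLaw A B C d) (w : SymTen.TS A (P A B) d) (hw : SymTen.TSmap A d (π A B) w = 0) : rhoP F w = 0 := by
  have e := Psi_apply F (incl w)
  rw [symSum_incl, map_nsmul, show SymTen.tmap A d (π A B) (incl w) = 0 from congrArg Subtype.val hw,
    map_zero, ← Nat.cast_smul_eq_nsmul A] at e
  exact h.smul_eq_zero.1 e.symm

theorem exists_finset_kill {V W : Type u} [AddCommGroup V] [Module A V] [AddCommGroup W] [Module A W]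
    (q : V →ₗ[A] W) {t : ⨂[A] _ : Fin d, V} (ht : t ∈ slotKer d q) :
    ∃ R : Finset V, (∀ r ∈ R, q r = 0) ∧
      ∀ (U : Type u) [AddCommGroup U] [Module A U] (l : V →ₗ[A] U), (∀ r ∈ R, l r = 0) → Tl d l t = 0 := by
  classical
  induction ht using Submodule.span_induction with
  | mem t ht =>
    obtain ⟨c, ⟨i, hi⟩, rfl⟩ := ht
    refine ⟨{c i}, by simpa using hi, fun U _ _ l hl => ?_⟩
    rw [PiTensorProduct.map_tprod]
    exact (PiTensorProduct.tprod A).map_coord_zero i (hl _ (Finset.mem_singleton_self _))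
  | zero => exact ⟨∅, by simp, fun _ _ _ _ _ => map_zero _⟩
  | add x y _ _ hx hy =>
    obtain ⟨R, hR, hR'⟩ := hx
    obtain ⟨R₂, hR₂, hR₂'⟩ := hy
    refine ⟨R ∪ R₂, fun r hr => (Finset.mem_union.1 hr).elim (hR r) (hR₂ r), fun U _ _ l hl => ?_⟩
    rw [map_add, hR' U l fun r hr => hl r (Finset.mem_union_left _ hr),
      hR₂' U l fun r hr => hl r (Finset.mem_union_right _ hr), add_zero]
  | smul a x _ hx =>
    obtain ⟨R, hR, hR'⟩ := hx
    exact ⟨R, hR, fun U _ _ l hl => by rw [map_smul, hR' U l hl, smul_zero]⟩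

theorem exists_endo [Module.Flat A B] (R : Finset (P A B)) (hR : ∀ r ∈ R, π A B r = 0) :
    ∃ l : P A B →ₗ[A] P A B, (π A B).toLinearMap ∘ₗ l = (π A B).toLinearMap ∧ ∀ r ∈ R, l r = 0 := by
  classical
  set E : Finset (B →₀ ℕ) := R.biUnion fun r => r.support with hE
  let ι : (↥E →₀ A) →ₗ[A] P A B := Finsupp.linearCombination A fun m : ↥E => bP A B m.1
  let pr : P A B →ₗ[A] (↥E →₀ A) :=
    (bP A B).constr A fun m => if h : m ∈ E then Finsupp.single (⟨m, h⟩ : ↥E) (1 : A) else 0
  have hpr : ∀ r ∈ R, ι (pr r) = r := by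
    intro r hr
    have h1 : r ∈ Submodule.span A ((bP A B) '' (r.support : Set (B →₀ ℕ))) :=
      (bP A B).mem_span_image.2 (Finset.Subset.refl _)
    refine Submodule.span_induction (p := fun p _ => ι (pr p) = p) ?_ (by simp) (fun a b _ _ ha hb => by
      rw [map_add, map_add, ha, hb]) (fun a p _ hp => by rw [map_smul, map_smul, hp]) h1
    rintro _ ⟨m, hm, rfl⟩
    simp only [pr, ι, Module.Basis.constr_basis]
    rw [dif_pos (Finset.mem_biUnion.2 ⟨r, hr, hm⟩), Finsupp.linearCombination_single, one_smul]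
  let f : (↥R →₀ A) →ₗ[A] (↥E →₀ A) := Finsupp.linearCombination A fun r : ↥R => pr r.1
  have hxf : ((π A B).toLinearMap ∘ₗ ι) ∘ₗ f = 0 := by
    refine Finsupp.lhom_ext fun r a => ?_
    simp [f, hpr r.1 r.2, hR r.1 r.2]
  obtain ⟨k, a, y, hya, haf⟩ := Module.Flat.exists_factorization_of_comp_eq_zero_of_free hxf
  let y' : (Fin k →₀ A) →ₗ[A] P A B :=
    Finsupp.linearCombination A fun i => Function.surjInv (π_surjective A B) (y (Finsupp.single i 1))
  have hy' : (π A B).toLinearMap ∘ₗ y' = y := by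
    refine Finsupp.lhom_ext fun i c => ?_
    simp only [y', LinearMap.comp_apply, Finsupp.linearCombination_single, AlgHom.toLinearMap_apply, map_smul,
      Function.surjInv_eq (π_surjective A B)]
    rw [← map_smul, Finsupp.smul_single', mul_one]
  refine ⟨(y' ∘ₗ a) ∘ₗ pr + (LinearMap.id - ι ∘ₗ pr), ?_, fun r hr => ?_⟩
  · refine LinearMap.ext fun p => ?_
    simp only [LinearMap.comp_apply, LinearMap.add_apply, LinearMap.sub_apply, LinearMap.id_apply, map_add, map_sub]
    have e1 := LinearMap.congr_fun hy' (a (pr p))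
    have e2 := LinearMap.congr_fun hya (pr p)
    simp only [LinearMap.comp_apply] at e1 e2
    rw [e1, ← e2]
    abel
  · have e := LinearMap.congr_fun haf (Finsupp.single ⟨r, hr⟩ 1)
    simp only [f, LinearMap.comp_apply, Finsupp.linearCombination_single, one_smul, LinearMap.zero_apply] at e
    simp [hpr r hr, e]

theorem TSmap_surjective_of_flat [Module.Flat A B] : Function.Surjective (SymTen.TSmap A d (π A B)) := by
  classical
  intro y
  obtain ⟨z, hz⟩ := (rpairT A B d).surj (incl y)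
  rw [tmap_tl] at hz
  have hσ : ∀ σ : Equiv.Perm (Fin d),
      PiTensorProduct.reindex A (fun _ : Fin d => P A B) σ z - z ∈ slotKer d (π A B).toLinearMap := fun σ => by
    refine ker_Tl_le _ (π_surjective A B) ?_
    rw [LinearMap.mem_ker, map_sub, Tl_reindex, hz]
    exact sub_eq_zero.2 (y.2 σ)
  choose R hR hkill using fun σ => exists_finset_kill _ (hσ σ)
  obtain ⟨l, hl, hlR⟩ := exists_endo (Finset.univ.biUnion R) fun r hr => by
    obtain ⟨σ, -, h⟩ := Finset.mem_biUnion.1 hr
    exact hR σ r h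
  refine ⟨⟨Tl d l z, fun σ => ?_⟩, Subtype.ext ?_⟩
  · rw [← Tl_reindex, ← sub_eq_zero, ← map_sub]
    exact hkill σ _ l fun r hr => hlR r (Finset.mem_biUnion.2 ⟨σ, Finset.mem_univ σ, hr⟩)
  · show SymTen.tmap A d (π A B) (Tl d l z) = incl y
    rw [← hz, ← AlgHom.toLinearMap_apply, tmap_tl, ← LinearMap.comp_apply, ← Tl_comp, hl]

theorem rhoP_eq_zero_of_flat [Module.Flat A B] {C : Type u} [CommRing C] [Algebra A C]
    (F : MulLaw A B C d) (w : SymTen.TS A (P A B) d) (hw : SymTen.TSmap A d (π A B) w = 0) : rhoP F w = 0 := by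
  have hk : incl w ∈ slotKer d (π A B).toLinearMap := by
    refine ker_Tl_le _ (π_surjective A B) ?_
    rw [LinearMap.mem_ker, ← tmap_tl]
    exact congrArg Subtype.val hw
  obtain ⟨R, hR, hkill⟩ := exists_finset_kill _ hk
  obtain ⟨l, hl, hlR⟩ := exists_endo R hR
  have hG : PolLaw.precomp (F.precomp (π A B)).law l = (F.precomp (π A B)).law := by
    ext S _ _ x
    show F.law.toFun' S ((π A B).toLinearMap.lTensor S (l.lTensor S x)) =
      F.law.toFun' S ((π A B).toLinearMap.lTensor S x)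
    rw [← LinearMap.comp_apply, ← LinearMap.lTensor_comp, hl]
  have h1 := LinearMap.congr_fun (rhoL_natural (bP A B) (bP A B) (F.precomp (π A B)).homog l) w
  rw [hG, LinearMap.comp_apply, show TSl d l w = 0 from Subtype.ext (hkill _ l hlR), map_zero] at h1
  exact h1.symm

end Groth.Agent.ZeroCycLib
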