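import Groth.Agent.ZeroCycLib.Apps
import Mathlib.RingTheory.IntegralClosure.IsIntegralClosure.Basic
import Mathlib.LinearAlgebra.Basis.VectorSpace
import Mathlib.Algebra.Field.Subfield.Basic

/-! Values of symmetric tensors at field-valued points. -/

set_option autoImplicit false

universe u

open scoped TensorProduct
open Finset

namespace Groth.Agent.ZeroCycLib

open PolLaw

variable {A B C : Type u} [CommRing A] [CommRing B] [Algebra A B] [CommRing C] [Algebra A C] {d : ℕ}
  {φ : C →ₐ[A] SymTen.TS A B d} {γ : MulLaw A B C d}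
  (hφ : ∀ (S : Type u) [CommSemiring S] [Algebra A S] (n : ℕ) (s : Fin n → S) (b : Fin n → B),
    ((SymTen.TS A B d).val.comp φ).toLinearMap.lTensor S (γ.law.toFun' S (∑ j, s j ⊗ₜ[A] b j)) =
      ∑ c : Fin d → Fin n, (∏ i, s (c i)) ⊗ₜ[A] PiTensorProduct.tprod A (fun i => b (c i)))

include hφ in
theorem orbit_mem_range {ι : Type u} (b : ι → B) (c : Fin d → ι) :
    ∃ z : C, (SymTen.TS A B d).val (φ z) = ∑ c' ∈ orb c, PiTensorProduct.tprod A (fun i => b (c' i)) := by
  classical
  refine ⟨ev γ.law (MvPolynomial ι A) (∑ j ∈ (cnt c).support, MvPolynomial.X j ⊗ₜ[A] b j)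
    (MvPolynomial.lcoeff A (cnt c)), ?_⟩
  show ((SymTen.TS A B d).val.comp φ).toLinearMap _ = _
  rw [ev, lid_rTensor_lTensor, phi_gamma hφ, tpow_sum, map_sum, map_sum]
  simp only [LinearMap.rTensor_tmul, TensorProduct.lid_tmul, prod_X_cnt]
  simp only [MvPolynomial.lcoeff, LinearMap.coe_mk, AddHom.coe_mk, MvPolynomial.coeff_monomial, ite_smul,
    one_smul, zero_smul]
  rw [← Finset.sum_filter]
  refine Finset.sum_congr ?_ fun _ _ => rfl
  ext c'
  simp only [Finset.mem_filter, Fintype.mem_piFinset, mem_orb]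
  refine ⟨fun h => h.2, fun h => ⟨fun i => ?_, h⟩⟩
  rw [← h, Finsupp.mem_support_iff, cnt, Finsupp.finsetSum_apply]
  exact (Finset.sum_pos' (fun j _ => Nat.zero_le _) ⟨i, Finset.mem_univ i, by simp⟩).ne'

theorem isIntegral_val (t : ⨂[A] _ : Fin d, B) : IsIntegral (SymTen.TS A B d) t := by
  classical
  set p : Polynomial (⨂[A] _ : Fin d, B) :=
    ∏ σ : Equiv.Perm (Fin d), (Polynomial.X - Polynomial.C (SymTen.perm A B d σ t)) with hp
  have hfix : ∀ k, p.coeff k ∈ SymTen.TS A B d := by
    intro k τ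
    rw [← SymTen.perm_apply]
    show (SymTen.perm A B d τ).toRingHom (p.coeff k) = _
    rw [← Polynomial.coeff_map, hp, Polynomial.map_prod]
    congr 1
    refine Fintype.prod_equiv (Equiv.mulLeft τ) _ _ fun σ => ?_
    rw [Polynomial.map_sub, Polynomial.map_X, Polynomial.map_C]
    show _ - Polynomial.C (((SymTen.perm A B d τ).comp (SymTen.perm A B d σ)) t) = _
    rw [perm_perm]
    rfl
  have hl : p ∈ Polynomial.lifts (algebraMap (SymTen.TS A B d) (⨂[A] _ : Fin d, B)) :=
    (Polynomial.lifts_iff_coeff_lifts p).2 fun k => ⟨⟨p.coeff k, hfix k⟩, rfl⟩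
  have hm : p.Monic := Polynomial.monic_prod_of_monic _ _ fun σ _ => Polynomial.monic_X_sub_C _
  rcases subsingleton_or_nontrivial (⨂[A] _ : Fin d, B) with hT | hT
  · rw [Subsingleton.elim t 0]; exact isIntegral_zero
  obtain ⟨q, hq, -, hqm⟩ := Polynomial.lifts_and_degree_eq_and_monic hl hm
  refine ⟨q, hqm, ?_⟩
  rw [← Polynomial.eval_map, hq, hp, Polynomial.eval_prod]
  refine Finset.prod_eq_zero (Finset.mem_univ 1) ?_
  rw [Polynomial.eval_sub, Polynomial.eval_X, Polynomial.eval_C]
  have h1 : SymTen.perm A B d 1 t = t := by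
    rw [SymTen.perm_apply, show (1 : Equiv.Perm (Fin d)) = Equiv.refl (Fin d) from rfl, PiTensorProduct.reindex_refl]
    rfl
  rw [h1, sub_self]

include hφ in
theorem exists_fraction {L : Type u} [Field L] [Algebra A L] (g : (⨂[A] _ : Fin d, B) →ₐ[A] L)
    (y : SymTen.TS A B d) :
    ∃ c s : C, g ((SymTen.TS A B d).val (φ s)) ≠ 0 ∧
      g ((SymTen.TS A B d).val y) * g ((SymTen.TS A B d).val (φ s)) = g ((SymTen.TS A B d).val (φ c)) := by
  classical
  set h : C →ₐ[A] L := g.comp ((SymTen.TS A B d).val.comp φ) with hh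
  let K : Subfield L := Subfield.closure (Set.range h)
  let a : A →+* K := (algebraMap A L).codRestrict K fun r =>
    Subfield.subset_closure ⟨algebraMap A C r, h.commutes r⟩
  let _ : Algebra A K := a.toAlgebra
  have : IsScalarTower A K L := IsScalarTower.of_algebraMap_eq fun r => rfl
  let bb : Module.Basis _ K (K ⊗[A] B) := Module.Basis.ofSpan
    (s := Set.range fun x : B => (1 : K) ⊗ₜ[A] x) (by
      intro z _
      induction z using TensorProduct.induction_on with
      | zero => exact Submodule.zero_mem _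
      | tmul k x =>
        have e : k ⊗ₜ[A] x = k • ((1 : K) ⊗ₜ[A] x) := by rw [TensorProduct.smul_tmul', smul_eq_mul, mul_one]
        rw [e]
        exact Submodule.smul_mem _ _ (Submodule.subset_span ⟨x, rfl⟩)
      | add p q hp hq => exact Submodule.add_mem _ (hp trivial) (hq trivial))
  have hsub := Module.Basis.ofSpan_subset (s := Set.range fun x : B => (1 : K) ⊗ₜ[A] x) (K := K) (V := K ⊗[A] B)
  choose β hβ using fun j => (hsub _ ⟨j, rfl⟩ : bb j ∈ Set.range fun x : B => (1 : K) ⊗ₜ[A] x)
  let θ : (⨂[A] _ : Fin d, B) →ₐ[A] (⨂[K] _ : Fin d, K ⊗[A] B) :=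
    PiTensorProduct.liftAlgHom
      ({ toFun := fun f => PiTensorProduct.tprod K fun i => (1 : K) ⊗ₜ[A] f i
         map_update_add' := fun {_} f i x x' => by
           have e : ∀ z, (fun j => (1 : K) ⊗ₜ[A] Function.update f i z j) =
               Function.update (fun j => (1 : K) ⊗ₜ[A] f j) i ((1 : K) ⊗ₜ[A] z) := fun z => by
             funext j; rcases eq_or_ne j i with rfl | hne <;> simp_all [Function.update_of_ne]
           simp only [e, TensorProduct.tmul_add, MultilinearMap.map_update_add]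
         map_update_smul' := fun {_} f i r x => by
           have e : ∀ z, (fun j => (1 : K) ⊗ₜ[A] Function.update f i z j) =
               Function.update (fun j => (1 : K) ⊗ₜ[A] f j) i ((1 : K) ⊗ₜ[A] z) := fun z => by
             funext j; rcases eq_or_ne j i with rfl | hne <;> simp_all [Function.update_of_ne]
           simp only [e, TensorProduct.tmul_smul]
           rw [← algebraMap_smul K r ((1 : K) ⊗ₜ[A] x), MultilinearMap.map_update_smul, algebraMap_smul] } :
        MultilinearMap A (fun _ : Fin d => B) (⨂[K] _ : Fin d, K ⊗[A] B))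
      (PiTensorProduct.one_def (R := K) (A := fun _ : Fin d => K ⊗[A] B)).symm
      (fun f f' => by
        show PiTensorProduct.tprod K (fun i => (1 : K) ⊗ₜ[A] (f i * f' i)) =
          PiTensorProduct.tprod K (fun i => (1 : K) ⊗ₜ[A] f i) * PiTensorProduct.tprod K (fun i => (1 : K) ⊗ₜ[A] f' i)
        rw [PiTensorProduct.tprod_mul_tprod]
        congr 1
        funext i
        simp)
  have hθt : ∀ f, θ (PiTensorProduct.tprod A f) = PiTensorProduct.tprod K fun i => (1 : K) ⊗ₜ[A] f i := fun f => by
    simp [θ]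
  let gj : Fin d → (K ⊗[A] B →ₐ[K] L) := fun j =>
    Algebra.TensorProduct.lift (Algebra.ofId K L) (g.comp (PiTensorProduct.singleAlgHom (R := A) (A := fun _ : Fin d => B) j))
      (fun _ _ => Commute.all _ _)
  let g₀ : (⨂[K] _ : Fin d, K ⊗[A] B) →ₗ[K] L :=
    PiTensorProduct.lift ((MultilinearMap.mkPiAlgebra K (Fin d) L).compLinearMap fun j => (gj j).toLinearMap)
  have hg₀ : ∀ t, g₀ (θ t) = g t := by
    intro t
    induction t using PiTensorProduct.induction_on with
    | smul_tprod r f =>
      rw [map_smul θ, map_smul g, ← algebraMap_smul K r (θ _), map_smul g₀, algebraMap_smul, hθt]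
      congr 1
      simp only [g₀, PiTensorProduct.lift.tprod, MultilinearMap.compLinearMap_apply, MultilinearMap.mkPiAlgebra_apply,
        AlgHom.toLinearMap_apply, gj, Algebra.TensorProduct.lift_tmul, map_one, one_mul, AlgHom.comp_apply]
      rw [← map_prod]
      congr 1
      simp only [PiTensorProduct.singleAlgHom_apply, MonoidHom.mulSingle_apply]
      rw [← PiTensorProduct.tprod_prod]
      exact congrArg _ (Finset.univ_prod_mulSingle f)
    | add x x' hx hx' => simp only [map_add, hx, hx']
  have hperm : ∀ (σ : Equiv.Perm (Fin d)) t,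
      PiTensorProduct.reindex K (fun _ : Fin d => K ⊗[A] B) σ (θ t) =
        θ (PiTensorProduct.reindex A (fun _ : Fin d => B) σ t) := by
    intro σ t
    induction t using PiTensorProduct.induction_on with
    | smul_tprod r f =>
      rw [map_smul θ, hθt, ← algebraMap_smul K r (PiTensorProduct.tprod K fun i => (1 : K) ⊗ₜ[A] f i), map_smul,
        PiTensorProduct.reindex_tprod, map_smul, PiTensorProduct.reindex_tprod, map_smul θ, hθt, algebraMap_smul]
    | add x x' hx hx' => simp only [map_add, hx, hx']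
  let y₀ : SymTen.TS K (K ⊗[A] B) d :=
    ⟨θ ((SymTen.TS A B d).val y), fun σ => (hperm σ _).trans (congrArg θ (y.2 σ))⟩
  have hmem : ∀ c, g₀ (incl (orbSum bb c)) ∈ K := by
    intro c
    obtain ⟨z, hz⟩ := orbit_mem_range hφ β c
    have e : incl (orbSum bb c) = θ ((SymTen.TS A B d).val (φ z)) := by
      show (∑ c' ∈ orb c, bT bb c') = _
      rw [hz, map_sum]
      refine Finset.sum_congr rfl fun c' _ => ?_
      rw [bT_apply, hθt]
      exact congrArg _ (funext fun i => (hβ (c' i)).symm)
    rw [e, hg₀]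
    exact Subfield.subset_closure ⟨z, rfl⟩
  have hy : g ((SymTen.TS A B d).val y) ∈ K := by
    rw [← hg₀, show θ ((SymTen.TS A B d).val y) = incl y₀ from rfl, ← retr_incl bb y₀,
      ← (bT bb).linearCombination_repr (incl y₀), Finsupp.linearCombination_apply, map_finsuppSum, map_finsuppSum,
      map_finsuppSum]
    refine K.toSubring.toAddSubgroup.sum_mem fun c _ => ?_
    show g₀ (incl (retr bb ((bT bb).repr (incl y₀) c • bT bb c))) ∈ K
    rw [map_smul, map_smul, map_smul, retr, Module.Basis.constr_basis, Subfield.smul_def, smul_eq_mul]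
    refine K.mul_mem ((bT bb).repr (incl y₀) c).2 ?_
    split_ifs
    · exact hmem c
    · rw [map_zero, map_zero]; exact K.zero_mem
  obtain ⟨u, hu, v, hv, huv⟩ := Subfield.mem_closure_iff.1 hy
  have hr : Subring.closure (Set.range h) ≤ h.toRingHom.range :=
    Subring.closure_le.2 (by rintro _ ⟨z, rfl⟩; exact ⟨z, rfl⟩)
  obtain ⟨cu, rfl⟩ := hr hu
  obtain ⟨cv, rfl⟩ := hr hv
  by_cases hv0 : h cv = 0
  · refine ⟨0, 1, ?_, ?_⟩
    · simp
    · have h0 : g ((SymTen.TS A B d).val y) = 0 := by
        rw [← huv]; exact (congrArg (h cu / ·) hv0).trans (div_zero _)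
      rw [h0, zero_mul, map_zero, map_zero, map_zero]
  · refine ⟨cu, cv, hv0, ?_⟩
    rw [← huv]
    exact div_mul_cancel₀ _ hv0

end Groth.Agent.ZeroCycLib
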