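import Groth.Agent.ZeroCycLib.Law
import Mathlib.LinearAlgebra.Matrix.SchurComplement
import Mathlib.RingTheory.Spectrum.Prime.FreeLocus
import Mathlib.RingTheory.Spectrum.Maximal.Localization
import Mathlib.RingTheory.Finiteness.Projective

/-! Determinant laws of projective modules. -/

set_option autoImplicit false

universe u

open scoped TensorProduct

namespace Groth.Agent.ZeroCycLib

open PolLaw

variable {A B M : Type u} [CommRing A] [CommRing B] [Algebra A B]
  [AddCommGroup M] [Module A M] [Module B M] [IsScalarTower A B M]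
  {n : ℕ} (f : (Fin n → A) →ₗ[A] M) (s : M →ₗ[A] (Fin n → A))

/-- action extended by the identity on a complement -/
noncomputable def extEnd (R : Type u) [CommRing R] [Algebra A R] (x : R ⊗[A] B) :
    Module.End R (R ⊗[A] (Fin n → A)) :=
  1 + (s.baseChange R ∘ₗ (actEnd M R x - 1)) ∘ₗ f.baseChange R

/-- its determinant -/
noncomputable def extDet (R : Type u) [CommRing R] [Algebra A R] (x : R ⊗[A] B) : R :=
  LinearMap.det (extEnd f s R x)

theorem extEnd_mul (hfs : f ∘ₗ s = LinearMap.id) (R : Type u) [CommRing R] [Algebra A R] (x y : R ⊗[A] B) :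
    extEnd f s R (x * y) = extEnd f s R x * extEnd f s R y := by
  have h : ∀ z, f.baseChange R (s.baseChange R z) = z := fun z => by
    rw [← LinearMap.comp_apply, ← LinearMap.baseChange_comp, hfs, LinearMap.baseChange_id, LinearMap.id_apply]
  refine LinearMap.ext fun z => ?_
  simp only [extEnd, map_mul, LinearMap.add_apply, LinearMap.sub_apply, Module.End.one_apply, LinearMap.comp_apply,
    Module.End.mul_apply, map_add, map_sub, h]
  abel

theorem extEnd_one (R : Type u) [CommRing R] [Algebra A R] : extEnd f s R (1 : R ⊗[A] B) = 1 := by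
  refine LinearMap.ext fun z => ?_
  simp [extEnd]

theorem extDet_mul (hfs : f ∘ₗ s = LinearMap.id) (R : Type u) [CommRing R] [Algebra A R] (x y : R ⊗[A] B) :
    extDet f s R (x * y) = extDet f s R x * extDet f s R y := by
  rw [extDet, extEnd_mul f s hfs, map_mul]; rfl

theorem extDet_one (R : Type u) [CommRing R] [Algebra A R] : extDet f s R (1 : R ⊗[A] B) = 1 := by
  rw [extDet, extEnd_one, map_one]

theorem rTensor_extEnd {R R' : Type u} [CommRing R] [Algebra A R] [CommRing R'] [Algebra A R'] (φ : R →ₐ[A] R')
    (x : R ⊗[A] B) (z : R ⊗[A] (Fin n → A)) :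
    φ.toLinearMap.rTensor _ (extEnd f s R x z) =
      extEnd f s R' (Algebra.TensorProduct.map φ (AlgHom.id A B) x) (φ.toLinearMap.rTensor _ z) := by
  have hg : ∀ {V W : Type u} [AddCommGroup V] [Module A V] [AddCommGroup W] [Module A W] (g : V →ₗ[A] W)
      (y : R ⊗[A] V), φ.toLinearMap.rTensor W (g.baseChange R y) = g.baseChange R' (φ.toLinearMap.rTensor V y) := by
    intro V W _ _ _ _ g y
    induction y using TensorProduct.induction_on with
    | zero => simp
    | tmul a b => simp
    | add a b ha hb => simp only [map_add, ha, hb]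
  simp only [extEnd, LinearMap.add_apply, LinearMap.sub_apply, Module.End.one_apply, LinearMap.comp_apply,
    map_add, map_sub, hg, rTensor_actEnd M φ]

theorem extDet_map {R R' : Type u} [CommRing R] [Algebra A R] [CommRing R'] [Algebra A R'] (φ : R →ₐ[A] R')
    (x : R ⊗[A] B) :
    extDet f s R' (Algebra.TensorProduct.map φ (AlgHom.id A B) x) = φ (extDet f s R x) := by
  classical
  set e := Pi.basisFun A (Fin n)
  unfold extDet
  rw [← LinearMap.det_toMatrix (Algebra.TensorProduct.basis R' e),
    ← LinearMap.det_toMatrix (Algebra.TensorProduct.basis R e), AlgHom.map_det]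
  congr 1
  ext i j
  simp only [AlgHom.mapMatrix_apply, Matrix.map_apply, LinearMap.toMatrix_apply, Algebra.TensorProduct.basis_apply]
  have hr : ∀ (w : R ⊗[A] (Fin n → A)), (Algebra.TensorProduct.basis R' e).repr (φ.toLinearMap.rTensor _ w) i =
      φ ((Algebra.TensorProduct.basis R e).repr w i) := by
    intro w
    induction w using TensorProduct.induction_on with
    | zero => simp
    | tmul t m => simp [Algebra.TensorProduct.basis_repr_tmul, Finsupp.smul_apply, Finsupp.mapRange_apply]
    | add a b ha hb => simp only [map_add, Finsupp.add_apply, ha, hb]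
  rw [← hr, rTensor_extEnd, LinearMap.rTensor_tmul, AlgHom.toLinearMap_apply, map_one]

theorem extDet_eq_detAct (hfs : f ∘ₗ s = LinearMap.id) (R : Type u) [CommRing R] [Algebra A R]
    [Module.Free R (R ⊗[A] M)] [Module.Finite R (R ⊗[A] M)] (x : R ⊗[A] B) :
    extDet f s R x = detAct M R x := by
  classical
  set K := R ⊗[A] M
  let bK := Module.Free.chooseBasis R K
  let bV := Algebra.TensorProduct.basis R (Pi.basisFun A (Fin n))
  set P := LinearMap.toMatrix bK bV (s.baseChange R ∘ₗ (actEnd M R x - 1))
  set Q := LinearMap.toMatrix bV bK (f.baseChange R)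
  have h : f.baseChange R ∘ₗ s.baseChange R = LinearMap.id := by
    rw [← LinearMap.baseChange_comp, hfs, LinearMap.baseChange_id]
  unfold extDet detAct
  rw [← LinearMap.det_toMatrix bV, ← LinearMap.det_toMatrix bK, extEnd, map_add, LinearMap.toMatrix_one,
    LinearMap.toMatrix_comp bV bK bV, Matrix.det_one_add_mul_comm, ← LinearMap.toMatrix_comp bK bV bK,
    ← LinearMap.toMatrix_one bK, ← map_add, ← LinearMap.comp_assoc, h, LinearMap.id_comp]
  exact congrArg (fun e => (LinearMap.toMatrix bK bK e).det) (add_sub_cancel (1 : Module.End R K) _)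

/-- the law attached to a retraction -/
noncomputable def extPLaw : B →ₚₗ[A] A where
  toFun' S _ _ x := (Algebra.TensorProduct.lid A S (extDet f s (A ⊗[A] S) (toRing A B S x))) ⊗ₜ[A] (1 : A)
  isCompat' {S} _ _ {S'} _ _ φ := by
    funext x
    simp only [Function.comp_apply]
    let ψ : A ⊗[A] S →ₐ[A] A ⊗[A] S' := Algebra.TensorProduct.map (AlgHom.id A A) φ
    have hψ : Algebra.TensorProduct.map ψ (AlgHom.id A B) (toRing A B S x) =
        toRing A B S' (φ.toLinearMap.rTensor B x) := by
      induction x using TensorProduct.induction_on with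
      | zero => simp
      | tmul s b => simp [ψ, Algebra.TensorProduct.map_tmul, Algebra.TensorProduct.lid_symm_apply,
          LinearMap.rTensor_tmul]
      | add x y hx hy => simp only [map_add, hx, hy]
    have hlid : ∀ r : A ⊗[A] S,
        Algebra.TensorProduct.lid A S' (ψ r) = φ (Algebra.TensorProduct.lid A S r) := by
      intro r
      induction r using TensorProduct.induction_on with
      | zero => simp
      | tmul a s => simp [ψ, Algebra.TensorProduct.map_tmul, Algebra.TensorProduct.lid_tmul]
      | add x y hx hy => simp only [map_add, hx, hy]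
    rw [LinearMap.rTensor_tmul, ← hψ, extDet_map f s ψ, AlgHom.toLinearMap_apply, hlid]

theorem extPLaw_apply (S : Type u) [CommRing S] [Algebra A S] (x : S ⊗[A] B) :
    (extPLaw f s).toFun' S x = extDet f s S x ⊗ₜ[A] (1 : A) := by
  have h1 : Algebra.TensorProduct.map (Algebra.TensorProduct.lid A S).toAlgHom (AlgHom.id A B)
      (toRing A B S x) = x := by
    induction x using TensorProduct.induction_on with
    | zero => simp
    | tmul s b => simp [Algebra.TensorProduct.map_tmul, Algebra.TensorProduct.lid_symm_apply]
    | add x y hx hy => simp only [map_add, hx, hy]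
  have h2 := extDet_map f s (Algebra.TensorProduct.lid A S).toAlgHom (toRing A B S x)
  rw [h1] at h2
  show (Algebra.TensorProduct.lid A S (extDet f s (A ⊗[A] S) (toRing A B S x))) ⊗ₜ[A] (1 : A) = _
  rw [h2]
  rfl

theorem extPLaw_mult (hfs : f ∘ₗ s = LinearMap.id) : IsMult (extPLaw (B := B) f s) := by
  intro S _ _
  refine ⟨?_, fun x y => ?_⟩
  · show (Algebra.TensorProduct.lid A S (extDet f s (A ⊗[A] S) (toRing A B S 1))) ⊗ₜ[A] (1 : A) = 1
    have h1 : toRing A B S 1 = 1 := by
      simp [Algebra.TensorProduct.one_def, Algebra.TensorProduct.map_tmul, Algebra.TensorProduct.lid_symm_apply]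
    rw [h1, extDet_one]
    simp [Algebra.TensorProduct.one_def]
  · show (Algebra.TensorProduct.lid A S (extDet f s (A ⊗[A] S) (toRing A B S (x * y)))) ⊗ₜ[A] (1 : A) = _
    rw [map_mul, extDet_mul f s hfs, map_mul]
    exact ((Algebra.TensorProduct.tmul_mul_tmul _ _ _ _).trans (by rw [mul_one])).symm

theorem free_baseChange [Module.Finite A M] [Module.Projective A M] (R : Type u) [CommRing R] [IsLocalRing R]
    [Algebra A R] : Module.Free R (R ⊗[A] M) :=
  Module.free_of_flat_of_isLocalRing

theorem eq_of_local (R : Type u) [CommRing R] [Algebra A R] (a b : R)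
    (h : ∀ (L : Type u) [CommRing L] [IsLocalRing L] [Algebra A L] (g : R →ₐ[A] L), g a = g b) : a = b := by
  refine MaximalSpectrum.toPiLocalization_injective R (funext fun I => ?_)
  exact h (Localization.AtPrime I.1) (IsScalarTower.toAlgHom A R (Localization.AtPrime I.1))

theorem laws_eq {F G : B →ₚₗ[A] A}
    (h : ∀ (L : Type u) [CommRing L] [IsLocalRing L] [Algebra A L] (x : L ⊗[A] B), F.toFun' L x = G.toFun' L x) :
    F = G := by
  refine ext_poly fun σ x => ?_
  apply (TensorProduct.rid A (MvPolynomial σ A)).injective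
  refine eq_of_local (A := A) (MvPolynomial σ A) _ _ fun L _ _ _ g => ?_
  have hg : ∀ z : MvPolynomial σ A ⊗[A] A, g (TensorProduct.rid A (MvPolynomial σ A) z) =
      TensorProduct.rid A L (g.toLinearMap.rTensor A z) := by
    intro z
    induction z using TensorProduct.induction_on with
    | zero => simp
    | tmul p a => simp
    | add p q hp hq => simp only [map_add, hp, hq]
  rw [hg, hg, compat, compat, h]

end Groth.Agent.ZeroCycLib
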