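import Groth.Agent.ZeroCycLib.Law
import Mathlib.LinearAlgebra.PiTensorProduct.Basis
import Mathlib.LinearAlgebra.TensorProduct.Basis
import Mathlib.RingTheory.MvPolynomial.Basic

/-! Symmetric tensors of a free algebra: universality for laws. -/

set_option autoImplicit false

universe u

open scoped TensorProduct
open Finset

namespace Groth.Agent.ZeroCycLib

open PolLaw

variable {A : Type u} [CommRing A] {B : Type u} [CommRing B] [Algebra A B] {d : ℕ}

local notation "T" => (⨂[A] _ : Fin d, B)

section Any

theorem perm_tl (σ : Equiv.Perm (Fin d)) :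
    (SymTen.perm A B d σ).toLinearMap = (PiTensorProduct.reindex A (fun _ : Fin d => B) σ).toLinearMap :=
  LinearMap.ext (SymTen.perm_apply A B d σ)

theorem perm_perm (σ τ : Equiv.Perm (Fin d)) :
    (SymTen.perm A B d σ).comp (SymTen.perm A B d τ) = SymTen.perm A B d (σ * τ) := by
  apply AlgHom.toLinearMap_injective
  refine PiTensorProduct.ext (MultilinearMap.ext fun f => ?_)
  simp only [LinearMap.compMultilinearMap_apply, AlgHom.toLinearMap_apply, AlgHom.comp_apply,
    SymTen.perm_tprod]
  rfl

theorem perm_single (σ : Equiv.Perm (Fin d)) (j : Fin d) :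
    (SymTen.perm A B d σ).comp (PiTensorProduct.singleAlgHom (A := fun _ : Fin d => B) j) =
      PiTensorProduct.singleAlgHom (A := fun _ : Fin d => B) (σ j) := by
  ext a
  simp only [AlgHom.comp_apply, PiTensorProduct.singleAlgHom_apply, SymTen.perm_tprod]
  congr 1
  funext i
  simp [MonoidHom.mulSingle_apply, Pi.mulSingle_apply, Equiv.symm_apply_eq]

/-- fixed by all permutations -/
def Fixed {S : Type u} [CommSemiring S] [Algebra A S] (t : S ⊗[A] T) : Prop :=
  ∀ σ : Equiv.Perm (Fin d), (SymTen.perm A B d σ).toLinearMap.lTensor S t = t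

theorem map_id_comp {C D E : Type u} [CommRing C] [Algebra A C] [CommRing D] [Algebra A D] [CommRing E]
    [Algebra A E] (f : D →ₐ[A] E) (g : C →ₐ[A] D) (S : Type u) [CommSemiring S] [Algebra A S] (x : S ⊗[A] C) :
    Algebra.TensorProduct.map (AlgHom.id S S) f (Algebra.TensorProduct.map (AlgHom.id S S) g x) =
      Algebra.TensorProduct.map (AlgHom.id S S) (f.comp g) x := by
  induction x using TensorProduct.induction_on with
  | zero => simp
  | tmul s b => simp
  | add a b ha hb => simp only [map_add, ha, hb]

theorem tpow_fixed (S : Type u) [CommSemiring S] [Algebra A S] (x : S ⊗[A] B) :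
    Fixed ((SymTen.tpowLaw A B d).law.toFun' S x) := by
  intro σ
  rw [lTensor_algHom_apply, SymTen.tpowLaw, MulLaw.prodMap_toFun', map_prod]
  exact Fintype.prod_equiv σ _ _ fun j => by rw [map_id_comp, perm_single]

theorem symm_fixed (S : Type u) [CommSemiring S] [Algebra A S] (x : S ⊗[A] T) :
    Fixed ((SymTen.symmLaw A B d).law.toFun' S x) := by
  intro σ
  rw [lTensor_algHom_apply, SymTen.symmLaw, MulLaw.prodMap_toFun', map_prod]
  exact Fintype.prod_equiv (Equiv.mulLeft σ) _ _ fun τ => by rw [map_id_comp, perm_perm]; rfl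

theorem tpow_sum {κ : Type*} (s : Finset κ) (S : Type u) [CommSemiring S] [Algebra A S] (r : κ → S) (v : κ → B) :
    (SymTen.tpowLaw A B d).law.toFun' S (∑ j ∈ s, r j ⊗ₜ[A] v j) =
      ∑ c ∈ Fintype.piFinset (fun _ : Fin d => s),
        (∏ i, r (c i)) ⊗ₜ[A] PiTensorProduct.tprod A (fun i => v (c i)) := by
  classical
  simp only [SymTen.tpowLaw, MulLaw.prodMap_toFun', map_sum, Algebra.TensorProduct.map_tmul, AlgHom.id_apply]
  rw [Finset.prod_univ_sum]
  refine Finset.sum_congr rfl fun c _ => ?_
  have h : ∀ t : Finset (Fin d),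
      ∏ i ∈ t, r (c i) ⊗ₜ[A] (PiTensorProduct.singleAlgHom (R := A) (A := fun _ : Fin d => B) i (v (c i))) =
        (∏ i ∈ t, r (c i)) ⊗ₜ[A]
          ∏ i ∈ t, PiTensorProduct.singleAlgHom (R := A) (A := fun _ : Fin d => B) i (v (c i)) := fun t => by
    induction t using Finset.induction_on with
    | empty => simp only [prod_empty]; exact Algebra.TensorProduct.one_def
    | insert a t ha ih =>
      rw [prod_insert ha, prod_insert ha, prod_insert ha, ih]
      exact Algebra.TensorProduct.tmul_mul_tmul ..
  rw [h]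
  congr 1
  simp only [PiTensorProduct.singleAlgHom_apply, MonoidHom.mulSingle_apply]
  rw [← PiTensorProduct.tprod_prod]
  exact congrArg _ (Finset.univ_prod_mulSingle (fun i => v (c i)))

end Any

section Free

variable {ι : Type u} (b : Module.Basis ι A B)

/-- the basis of the tensor power -/
noncomputable def bT : Module.Basis (Fin d → ι) A T := Basis.piTensorProduct (fun _ : Fin d => b)

theorem bT_apply (c : Fin d → ι) : bT b c = PiTensorProduct.tprod A (fun i => b (c i)) :=
  Basis.piTensorProduct_apply _ c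

/-- exponent of a tuple -/
noncomputable def cnt (c : Fin d → ι) : ι →₀ ℕ := ∑ i, Finsupp.single (c i) 1

/-- canonical representative -/
noncomputable def canon (c : Fin d → ι) : Fin d → ι :=
  @Classical.epsilon _ ⟨c⟩ fun c' => cnt c' = cnt c

theorem cnt_canon (c : Fin d → ι) : cnt (canon c) = cnt c :=
  @Classical.epsilon_spec _ (fun c' => cnt c' = cnt c) ⟨c, rfl⟩

theorem canon_congr {c c' : Fin d → ι} (h : cnt c = cnt c') : canon c = canon c' := by
  unfold canon
  generalize_proofs h1 h2
  rw [h]

theorem canon_canon (c : Fin d → ι) : canon (canon c) = canon c := canon_congr (cnt_canon c)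

theorem cnt_comp (c : Fin d → ι) (σ : Equiv.Perm (Fin d)) : cnt (c ∘ σ) = cnt c :=
  Fintype.sum_equiv σ _ _ fun _ => rfl

theorem exists_perm {c c' : Fin d → ι} (h : cnt c = cnt c') : ∃ σ : Equiv.Perm (Fin d), c' = c ∘ σ := by
  classical
  have key : ∀ (c : Fin d → ι) j, Fintype.card {i // c i = j} = cnt c j := fun c j => by
    rw [cnt, Finsupp.finsetSum_apply, Fintype.card_subtype, Finset.card_filter]
    exact Finset.sum_congr rfl fun i _ => by simp [Finsupp.single_apply]
  let e : ∀ j, {i // c' i = j} ≃ {i // c i = j} := fun j =>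
    Fintype.equivOfCardEq (by rw [key, key, h])
  exact ⟨Equiv.ofFiberEquiv e, funext fun i => (Equiv.ofFiberEquiv_map e i).symm⟩

theorem exists_cnt : ∀ (d : ℕ) (m : ι →₀ ℕ), (m.sum fun _ k => k) = d → ∃ c : Fin d → ι, cnt c = m := by
  classical
  intro d
  induction d with
  | zero =>
    intro m hm
    refine ⟨Fin.elim0, ?_⟩
    ext j
    by_contra hne
    have hj : j ∈ m.support := Finsupp.mem_support_iff.2 fun h => hne (by simp [cnt, h])
    rw [Finsupp.sum, Finset.sum_eq_zero_iff] at hm
    exact Finsupp.mem_support_iff.1 hj (hm j hj)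
  | succ d ih =>
    intro m hm
    obtain ⟨j, hj⟩ : ∃ j, j ∈ m.support := by
      by_contra h
      push Not at h
      rw [Finsupp.sum, Finset.eq_empty_of_forall_notMem h] at hm
      simp at hm
    have hle : Finsupp.single j 1 ≤ m := by
      rw [Finsupp.single_le_iff]
      exact Nat.one_le_iff_ne_zero.2 (Finsupp.mem_support_iff.1 hj)
    have hm' : m = Finsupp.single j 1 + (m - Finsupp.single j 1) := (add_tsub_cancel_of_le hle).symm
    rw [hm', Finsupp.sum_add_index' (fun _ => rfl) (fun _ _ _ => rfl), Finsupp.sum_single_index rfl] at hm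
    obtain ⟨c, hc⟩ := ih _ (Nat.add_left_cancel (hm.trans (Nat.add_comm d 1)))
    refine ⟨Fin.cons j c, ?_⟩
    rw [cnt, Fin.sum_univ_succ]
    simp only [Fin.cons_zero, Fin.cons_succ]
    rw [← cnt, hc, ← hm']

/-- the orbit of a tuple -/
noncomputable def orb (c : Fin d → ι) : Finset (Fin d → ι) :=
  letI := Classical.decEq (Fin d → ι)
  Finset.univ.image fun σ : Equiv.Perm (Fin d) => c ∘ σ

theorem mem_orb {c c' : Fin d → ι} : c' ∈ orb c ↔ cnt c' = cnt c := by
  classical
  simp only [orb, Finset.mem_image, Finset.mem_univ, true_and]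
  constructor
  · rintro ⟨σ, rfl⟩; exact cnt_comp c σ
  · intro h
    obtain ⟨σ, hσ⟩ := exists_perm h.symm
    exact ⟨σ, hσ.symm⟩

theorem reindex_bT (σ : Equiv.Perm (Fin d)) (c : Fin d → ι) :
    SymTen.perm A B d σ (bT b c) = bT b (c ∘ σ.symm) := by
  rw [bT_apply, bT_apply, SymTen.perm_tprod]; rfl

/-- orbit sum -/
noncomputable def orbSum (c : Fin d → ι) : SymTen.TS A B d :=
  ⟨∑ c' ∈ orb c, bT b c', fun σ => by
    rw [← SymTen.perm_apply, map_sum]
    refine Finset.sum_bij (fun c' _ => c' ∘ σ.symm) (fun c' h => mem_orb.2 ?_)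
      (fun c₁ _ c₂ _ h => ?_) (fun c' h => ⟨c' ∘ σ, mem_orb.2 ?_, ?_⟩) (fun c' _ => reindex_bT b σ c')
    · rw [cnt_comp]; exact mem_orb.1 h
    · have := congrArg (· ∘ σ) h
      simpa [Function.comp_assoc] using this
    · rw [cnt_comp]; exact mem_orb.1 h
    · simp [Function.comp_assoc]⟩

open Classical in
/-- the retraction onto symmetric tensors -/
noncomputable def retr : T →ₗ[A] SymTen.TS A B d :=
  (bT b).constr A fun c => if c = canon c then orbSum b c else 0

/-- the inclusion -/
noncomputable abbrev incl : SymTen.TS A B d →ₗ[A] T := (SymTen.TS A B d).val.toLinearMap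

theorem coord_perm (σ : Equiv.Perm (Fin d)) (c : Fin d → ι) :
    (bT b).coord c ∘ₗ (SymTen.perm A B d σ).toLinearMap = (bT b).coord (c ∘ σ) := by
  classical
  refine (bT b).ext fun c' => ?_
  simp only [LinearMap.comp_apply, AlgHom.toLinearMap_apply, reindex_bT, Module.Basis.coord_apply,
    Module.Basis.repr_self, Finsupp.single_apply]
  refine if_congr ⟨fun h => ?_, fun h => ?_⟩ rfl rfl
  · rw [← h, Function.comp_assoc, Equiv.symm_comp_self, Function.comp_id]
  · rw [h, Function.comp_assoc, Equiv.self_comp_symm, Function.comp_id]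

theorem coord_retr (c : Fin d → ι) :
    (bT b).coord c ∘ₗ incl ∘ₗ retr b = (bT b).coord (canon c) := by
  classical
  refine (bT b).ext fun c' => ?_
  simp only [LinearMap.comp_apply, retr, Module.Basis.constr_basis, Module.Basis.coord_apply,
    Module.Basis.repr_self]
  split_ifs with h
  · simp only [incl, orbSum, AlgHom.toLinearMap_apply, Subalgebra.coe_val, map_sum, Module.Basis.repr_self,
      Finsupp.finsetSum_apply, Finsupp.single_apply, Finset.sum_ite_eq']
    refine if_congr ⟨fun hm => ?_, fun hc => ?_⟩ rfl rfl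
    · rw [h]; exact canon_congr (mem_orb.1 hm).symm
    · rw [mem_orb, hc, cnt_canon]
  · simp only [map_zero, Finsupp.zero_apply]
    rw [Finsupp.single_eq_of_ne]
    rintro rfl
    exact h (canon_canon c).symm

theorem sep {S : Type u} [CommSemiring S] [Algebra A S] {x y : S ⊗[A] T}
    (h : ∀ c, ((bT b).coord c).lTensor S x = ((bT b).coord c).lTensor S y) : x = y := by
  classical
  apply (TensorProduct.equivFinsuppOfBasisRight (M := S) (bT (d := d) b)).injective
  ext c
  rw [TensorProduct.equivFinsuppOfBasisRight_apply, TensorProduct.equivFinsuppOfBasisRight_apply, h]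

theorem incl_retr_fixed {S : Type u} [CommSemiring S] [Algebra A S] {t : S ⊗[A] T} (ht : Fixed t) :
    incl.lTensor S ((retr b).lTensor S t) = t := by
  refine sep b fun c => ?_
  obtain ⟨σ, hσ⟩ := exists_perm (cnt_canon c).symm
  rw [← LinearMap.comp_apply, ← LinearMap.comp_apply, ← LinearMap.lTensor_comp, ← LinearMap.lTensor_comp,
    LinearMap.comp_assoc, coord_retr, hσ, ← coord_perm b σ c, LinearMap.lTensor_comp, LinearMap.comp_apply, ht σ]

theorem retr_incl (y : SymTen.TS A B d) : retr b (incl y) = y := by
  apply Subtype.ext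
  refine (bT b).ext_elem fun c => ?_
  obtain ⟨σ, hσ⟩ := exists_perm (cnt_canon c).symm
  have h := LinearMap.congr_fun (coord_retr b c) (incl y)
  rw [hσ, ← coord_perm b σ c, LinearMap.comp_apply, perm_tl] at h
  simp only [LinearMap.comp_apply, LinearEquiv.coe_coe, Module.Basis.coord_apply] at h
  rw [show PiTensorProduct.reindex A (fun _ : Fin d => B) σ (incl y) = incl y from y.2 σ] at h
  exact h

theorem incl_injective (b : Module.Basis ι A B) (S : Type u) [CommSemiring S] [Algebra A S] :
    Function.Injective ((incl (A := A) (B := B) (d := d)).lTensor S) := fun x y h => by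
  have e : retr b ∘ₗ incl (A := A) (B := B) (d := d) = LinearMap.id := LinearMap.ext (retr_incl b)
  have h' := congrArg ((retr b).lTensor S) h
  rwa [← LinearMap.comp_apply, ← LinearMap.comp_apply, ← LinearMap.lTensor_comp, e,
    LinearMap.lTensor_id] at h'

/-- a fixed-valued law, as a law into symmetric tensors -/
noncomputable def codLaw {C : Type u} [CommRing C] [Algebra A C] {n : ℕ} (G : MulLaw A C T n)
    (hG : ∀ (S : Type u) [CommSemiring S] [Algebra A S] (x : S ⊗[A] C), Fixed (G.law.toFun' S x)) :
    MulLaw A C (SymTen.TS A B d) n where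
  law := PolLaw.postcomp (retr b) G.law
  homog S _ _ s x := by
    show (retr b).lTensor S (G.law.toFun' S (s • x)) = s ^ n • (retr b).lTensor S (G.law.toFun' S x)
    rw [G.homog S s x]
    exact ((retr b).baseChange S).map_smul _ _
  mult S _ _ := by
    refine ⟨incl_injective b S ?_, fun x y => incl_injective b S ?_⟩
    · show incl.lTensor S ((retr b).lTensor S (G.law.toFun' S 1)) = _
      rw [incl_retr_fixed b (hG S 1), lTensor_algHom_apply, map_one, (G.mult S).1]
    · show incl.lTensor S ((retr b).lTensor S (G.law.toFun' S (x * y))) =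
        incl.lTensor S ((retr b).lTensor S (G.law.toFun' S x) * (retr b).lTensor S (G.law.toFun' S y))
      rw [incl_retr_fixed b (hG S (x * y)), lTensor_algHom_apply (SymTen.TS A B d).val, map_mul,
        ← lTensor_algHom_apply (SymTen.TS A B d).val, ← lTensor_algHom_apply (SymTen.TS A B d).val,
        incl_retr_fixed b (hG S x), incl_retr_fixed b (hG S y), (G.mult S).2]

theorem incl_codLaw {C : Type u} [CommRing C] [Algebra A C] {n : ℕ} (G : MulLaw A C T n)
    (hG : ∀ (S : Type u) [CommSemiring S] [Algebra A S] (x : S ⊗[A] C), Fixed (G.law.toFun' S x))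
    (S : Type u) [CommSemiring S] [Algebra A S] (x : S ⊗[A] C) :
    incl.lTensor S ((codLaw b G hG).law.toFun' S x) = G.law.toFun' S x :=
  incl_retr_fixed b (hG S x)

/-- `x ↦ x ⊗ ⋯ ⊗ x` into symmetric tensors -/
noncomputable def tau : MulLaw A B (SymTen.TS A B d) d :=
  codLaw b (SymTen.tpowLaw A B d) fun S _ _ => tpow_fixed S

/-- the symmetrisation norm into symmetric tensors -/
noncomputable def normTS : MulLaw A T (SymTen.TS A B d) d.factorial :=
  codLaw b (SymTen.symmLaw A B d) fun S _ _ => symm_fixed S

theorem exists_repr (S : Type u) [CommSemiring S] [Algebra A S] (x : S ⊗[A] B) :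
    ∃ f : ι →₀ S, x = ∑ j ∈ f.support, f j ⊗ₜ[A] b j := by
  classical
  refine ⟨TensorProduct.equivFinsuppOfBasisRight b x, ?_⟩
  have h := (TensorProduct.equivFinsuppOfBasisRight_symm_apply b
    (TensorProduct.equivFinsuppOfBasisRight (M := S) b x))
  rw [LinearEquiv.symm_apply_apply] at h
  exact h

theorem coord_monomial {σ : Type u} (m : σ →₀ ℕ) :
    (MvPolynomial.basisMonomials σ A).coord m = MvPolynomial.lcoeff A m := by
  ext p; rfl

theorem prod_X_cnt (c : Fin d → ι) :
    (∏ i, MvPolynomial.X (c i) : MvPolynomial ι A) = MvPolynomial.monomial (cnt c) 1 :=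
  (MvPolynomial.monomial_sum_one _ _).symm

theorem orbSum_eq_ev (c : Fin d → ι) :
    ev (tau b (d := d)).law (MvPolynomial ι A)
      (∑ j ∈ (cnt c).support, MvPolynomial.X j ⊗ₜ[A] b j) (MvPolynomial.lcoeff A (cnt c)) = orbSum b c := by
  classical
  apply Subtype.ext
  show incl (ev _ _ _ _) = _
  rw [ev, lid_rTensor_lTensor (incl (A := A) (B := B) (d := d))]
  simp only [tau]
  rw [incl_codLaw b, tpow_sum, map_sum, map_sum]
  simp only [LinearMap.rTensor_tmul, TensorProduct.lid_tmul, prod_X_cnt]
  simp only [MvPolynomial.lcoeff, LinearMap.coe_mk, AddHom.coe_mk, MvPolynomial.coeff_monomial, ite_smul,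
    one_smul, zero_smul, ← bT_apply]
  rw [← Finset.sum_filter]
  refine Finset.sum_congr ?_ fun _ _ => rfl
  ext c'
  simp only [Finset.mem_filter, Fintype.mem_piFinset, mem_orb]
  refine ⟨fun h => h.2, fun h => ⟨fun i => ?_, h⟩⟩
  rw [← h, Finsupp.mem_support_iff, cnt, Finsupp.finsetSum_apply]
  exact (Finset.sum_pos' (fun j _ => Nat.zero_le _) ⟨i, Finset.mem_univ i, by simp⟩).ne'

theorem span_ev_tau : Submodule.span A
    {y : SymTen.TS A B d | ∃ (σ : Type u) (x : MvPolynomial σ A ⊗[A] B) (l : MvPolynomial σ A →ₗ[A] A),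
      y = ev (tau b).law (MvPolynomial σ A) x l} = ⊤ := by
  rw [Submodule.eq_top_iff']
  intro y
  rw [← retr_incl b y, ← (bT b).linearCombination_repr (incl y), Finsupp.linearCombination_apply,
    map_finsuppSum]
  refine Submodule.sum_mem _ fun c _ => ?_
  dsimp only
  rw [map_smul]
  refine Submodule.smul_mem _ _ ?_
  rw [retr, Module.Basis.constr_basis]
  split_ifs with h
  · exact Submodule.subset_span ⟨ι, _, _, (orbSum_eq_ev b c).symm⟩
  · exact Submodule.zero_mem _

theorem lin_ext {W : Type u} [AddCommGroup W] [Module A W] {f g : SymTen.TS A B d →ₗ[A] W}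
    (h : PolLaw.postcomp f (tau b).law = PolLaw.postcomp g (tau b).law) : f = g := by
  refine LinearMap.ext_on (span_ev_tau b) ?_
  rintro _ ⟨σ, x, l, rfl⟩
  rw [← ev_postcomp, ← ev_postcomp, h]

section Coeff

variable {W : Type u} [AddCommGroup W] [Module A W] (F : B →ₚₗ[A] W)

/-- coefficient of a law -/
noncomputable def coef (m : ι →₀ ℕ) : W :=
  ev F (MvPolynomial ι A) (∑ j ∈ m.support, MvPolynomial.X j ⊗ₜ[A] b j) (MvPolynomial.lcoeff A m)

open Classical in
/-- the map on tensors induced by a law -/
noncomputable def lfun : T →ₗ[A] W :=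
  (bT b).constr A fun c => if c = canon c then coef b F (cnt c) else 0

open Classical in
theorem coef_stable (s : Finset ι) (m : ι →₀ ℕ) :
    ev F (MvPolynomial ι A) (∑ j ∈ s, MvPolynomial.X j ⊗ₜ[A] b j) (MvPolynomial.lcoeff A m) =
      if m.support ⊆ s then coef b F m else 0 := by
  classical
  have kill : ∀ (s' : Finset ι),
      MvPolynomial.lcoeff A m ∘ₗ
          (MvPolynomial.aeval (R := A) fun j => if j ∈ s' then (MvPolynomial.X j : MvPolynomial ι A) else 0).toLinearMap =
        if m.support ⊆ s' then MvPolynomial.lcoeff A m else 0 := by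
    intro s'
    refine (MvPolynomial.basisMonomials ι A).ext fun n => ?_
    simp only [MvPolynomial.coe_basisMonomials, LinearMap.comp_apply, AlgHom.toLinearMap_apply,
      MvPolynomial.aeval_monomial, map_one, one_mul]
    by_cases hn : n.support ⊆ s'
    · rw [Finsupp.prod_congr (g2 := fun j e => (MvPolynomial.X j : MvPolynomial ι A) ^ e)
        (fun j hj => by rw [if_pos (hn hj)]), Finsupp.prod, MvPolynomial.prod_X_pow_eq_monomial]
      split_ifs with hm
      · rfl
      · simp only [LinearMap.zero_apply, MvPolynomial.lcoeff, LinearMap.coe_mk, AddHom.coe_mk]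
        rw [MvPolynomial.coeff_monomial, if_neg]
        rintro rfl; exact hm hn
    · obtain ⟨j, hj, hjs⟩ := Finset.not_subset.1 hn
      rw [Finsupp.prod, Finset.prod_eq_zero hj, map_zero]
      · split_ifs with hm
        · simp only [MvPolynomial.lcoeff, LinearMap.coe_mk, AddHom.coe_mk]
          rw [MvPolynomial.coeff_monomial, if_neg]
          rintro rfl; exact hjs (hm hj)
        · rfl
      · rw [if_neg hjs, zero_pow (Finsupp.mem_support_iff.1 hj)]
  have main : ∀ s s' : Finset ι, s' ⊆ s →
      ev F (MvPolynomial ι A) (∑ j ∈ s', MvPolynomial.X j ⊗ₜ[A] b j) (MvPolynomial.lcoeff A m) =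
        if m.support ⊆ s' then ev F (MvPolynomial ι A) (∑ j ∈ s, MvPolynomial.X j ⊗ₜ[A] b j)
          (MvPolynomial.lcoeff A m) else 0 := by
    intro s s' hss
    set φ := MvPolynomial.aeval (R := A) fun j => if j ∈ s' then (MvPolynomial.X j : MvPolynomial ι A) else 0
    have hx : φ.toLinearMap.rTensor B (∑ j ∈ s, MvPolynomial.X j ⊗ₜ[A] b j) =
        ∑ j ∈ s', MvPolynomial.X j ⊗ₜ[A] b j := by
      rw [map_sum, ← Finset.sum_subset hss (fun j _ hj => by simp [φ, hj])]
      exact Finset.sum_congr rfl fun j hj => by simp [φ, hj]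
    rw [ev, ← hx, ← compat, ← LinearMap.comp_apply (LinearMap.rTensor W (MvPolynomial.lcoeff A m)),
      ← LinearMap.rTensor_comp, kill s']
    split_ifs with hm
    · rfl
    · simp
  split_ifs with hm
  · rw [coef, main s m.support hm, if_pos (subset_refl _)]
  · rw [main s s (subset_refl _), if_neg hm]

theorem coef_deg (hF : IsHomog F d) (m : ι →₀ ℕ) (hm : (m.sum fun _ k => k) ≠ d) : coef b F m = 0 := by
  classical
  set φ := MvPolynomial.aeval (R := A)
    fun j => (MvPolynomial.X none * MvPolynomial.X (some j) : MvPolynomial (Option ι) A) with hφ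
  set η := MvPolynomial.rename (R := A) (some : ι → Option ι) with hη
  set e : Option ι →₀ ℕ := Finsupp.single none d + m.mapDomain some with he
  set l := MvPolynomial.lcoeff A e
  set x : MvPolynomial ι A ⊗[A] B := ∑ j ∈ m.support, MvPolynomial.X j ⊗ₜ[A] b j with hx
  have e1 : φ.toLinearMap.rTensor B x =
      (MvPolynomial.X none : MvPolynomial (Option ι) A) • η.toLinearMap.rTensor B x := by
    simp only [hx, map_sum, Finset.smul_sum]
    exact Finset.sum_congr rfl fun j _ => by simp [φ, η, TensorProduct.smul_tmul', smul_eq_mul]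
  have hphi : l ∘ₗ φ.toLinearMap = if (m.sum fun _ k => k) = d then MvPolynomial.lcoeff A m else 0 := by
    refine (MvPolynomial.basisMonomials ι A).ext fun n => ?_
    simp only [MvPolynomial.coe_basisMonomials, LinearMap.comp_apply, AlgHom.toLinearMap_apply, hφ,
      MvPolynomial.aeval_monomial, map_one, one_mul]
    have hp : (n.prod fun j k => (MvPolynomial.X none * MvPolynomial.X (some j) : MvPolynomial (Option ι) A) ^ k) =
        MvPolynomial.monomial (Finsupp.single none (n.sum fun _ k => k) + n.mapDomain some) 1 := by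
      simp only [mul_pow]
      rw [Finsupp.prod_mul, ← one_mul (1 : A), ← MvPolynomial.monomial_mul, MvPolynomial.monomial_eq,
        MvPolynomial.monomial_eq, map_one, one_mul, one_mul, Finsupp.prod_single_index (h := fun n e => (MvPolynomial.X n : MvPolynomial (Option ι) A) ^ e) (pow_zero _),
        Finsupp.prod_mapDomain_index_inj (Option.some_injective ι)]
      congr 1
      rw [Finsupp.prod, Finsupp.sum, Finset.prod_pow_eq_pow_sum]
    rw [hp]
    simp only [l, MvPolynomial.lcoeff, LinearMap.coe_mk, AddHom.coe_mk]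
    rw [MvPolynomial.coeff_monomial]
    by_cases hnm : n = m
    · subst hnm
      by_cases hd : (n.sum fun _ k => k) = d
      · simp [he, hd, MvPolynomial.lcoeff]
      · rw [if_neg hd, if_neg, LinearMap.zero_apply]
        intro h
        have := congrArg (fun f => f none) h
        simp [he, Finsupp.mapDomain_notin_range] at this
        exact hd this
    · rw [if_neg]
      · split_ifs <;> simp [MvPolynomial.lcoeff, MvPolynomial.coeff_monomial, hnm]
      · intro h
        apply hnm
        ext j
        have := congrArg (fun f => f (some j)) h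
        simpa [he, Finsupp.mapDomain_apply (Option.some_injective ι)] using this
  have heta : l ∘ₗ LinearMap.mulLeft A (MvPolynomial.X none ^ d) ∘ₗ η.toLinearMap = MvPolynomial.lcoeff A m := by
    refine (MvPolynomial.basisMonomials ι A).ext fun n => ?_
    simp only [MvPolynomial.coe_basisMonomials, LinearMap.comp_apply, AlgHom.toLinearMap_apply,
      LinearMap.mulLeft_apply, hη, MvPolynomial.rename_monomial, MvPolynomial.X_pow_eq_monomial,
      MvPolynomial.monomial_mul, one_mul]
    simp only [l, MvPolynomial.lcoeff, LinearMap.coe_mk, AddHom.coe_mk]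
    rw [MvPolynomial.coeff_monomial, MvPolynomial.coeff_monomial]
    refine if_congr ⟨fun h => Finsupp.mapDomain_injective (Option.some_injective ι) (add_left_cancel h),
      fun h => by rw [h]⟩ rfl rfl
  have hs : ∀ (t : MvPolynomial (Option ι) A) (y : MvPolynomial (Option ι) A ⊗[A] W),
      t • y = (LinearMap.mulLeft A t).rTensor W y := fun t y => by
    induction y using TensorProduct.induction_on with
    | zero => simp
    | tmul p w => simp [TensorProduct.smul_tmul']
    | add a b ha hb => rw [smul_add, map_add, ha, hb]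
  have h := congrArg (fun z => TensorProduct.lid A W (l.rTensor W z))
    (congrArg (F.toFun' (MvPolynomial (Option ι) A)) e1)
  rw [hF _ _, ← compat F φ, ← compat F η, hs] at h
  simp only [← LinearMap.comp_apply, ← LinearMap.rTensor_comp, hphi, heta, if_neg hm,
    LinearMap.rTensor_zero, LinearMap.zero_apply, map_zero] at h
  exact h.symm

open Classical in
theorem eq_sum_coef (hF : IsHomog F d) (S : Type u) [CommSemiring S] [Algebra A S] (s : Finset ι) (r : ι → S) :
    F.toFun' S (∑ j ∈ s, r j ⊗ₜ[A] b j) =
      ∑ c ∈ (Fintype.piFinset fun _ : Fin d => s) with c = canon c, (∏ i, r (c i)) ⊗ₜ[A] coef b F (cnt c) := by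
  classical
  set P := F.toFun' (MvPolynomial ι A) (∑ j ∈ s, MvPolynomial.X j ⊗ₜ[A] b j) with hP
  have hx : (MvPolynomial.aeval (R := A) r).toLinearMap.rTensor B (∑ j ∈ s, MvPolynomial.X j ⊗ₜ[A] b j) =
      ∑ j ∈ s, r j ⊗ₜ[A] b j := by simp [map_sum]
  have key : P = ∑ c ∈ (Fintype.piFinset fun _ : Fin d => s) with c = canon c,
      (∏ i, MvPolynomial.X (c i)) ⊗ₜ[A] coef b F (cnt c) := by
    apply (TensorProduct.equivFinsuppOfBasisLeft (MvPolynomial.basisMonomials ι A)).injective
    ext m
    rw [map_sum, Finsupp.finsetSum_apply, TensorProduct.equivFinsuppOfBasisLeft_apply, coord_monomial]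
    change ev F (MvPolynomial ι A) _ _ = _
    rw [coef_stable]
    simp only [prod_X_cnt, TensorProduct.equivFinsuppOfBasisLeft_apply_tmul_apply]
    simp only [show ∀ (c : Fin d → ι), (MvPolynomial.basisMonomials ι A).repr
      (MvPolynomial.monomial (cnt c) 1) m = if cnt c = m then 1 else 0 from
        fun c => MvPolynomial.coeff_monomial .., ite_smul, one_smul, zero_smul]
    rw [← Finset.sum_filter, Finset.filter_filter]
    by_cases hsub : m.support ⊆ s ∧ (m.sum fun _ k => k) = d
    · obtain ⟨hs, hd⟩ := hsub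
      obtain ⟨c₀, rfl⟩ := exists_cnt d m hd
      rw [if_pos hs, Finset.sum_eq_single_of_mem (canon c₀), cnt_canon]
      · simp only [Finset.mem_filter, Fintype.mem_piFinset, cnt_canon, and_true, canon_canon]
        intro i
        apply hs
        rw [← cnt_canon c₀, Finsupp.mem_support_iff, cnt, Finsupp.finsetSum_apply]
        exact (Finset.sum_pos' (fun j _ => Nat.zero_le _) ⟨i, Finset.mem_univ i, by simp⟩).ne'
      · intro c hc hne
        simp only [Finset.mem_filter] at hc
        exact absurd (hc.2.1.trans (canon_congr hc.2.2)) hne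
    · rw [Finset.sum_eq_zero]
      · split_ifs with hs
        · exact coef_deg b F hF m fun hd => hsub ⟨hs, hd⟩
        · rfl
      · intro c hc
        simp only [Finset.mem_filter, Fintype.mem_piFinset] at hc
        refine absurd ⟨?_, ?_⟩ hsub
        · rw [← hc.2.2]
          refine (Finsupp.support_finsetSum).trans (Finset.biUnion_subset.2 fun i _ => ?_)
          exact Finsupp.support_single_subset.trans (Finset.singleton_subset_iff.2 (hc.1 i))
        · rw [← hc.2.2, cnt, ← Finsupp.sum_finsetSum_index (fun _ => rfl) (fun _ _ _ => rfl)]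
          simp
  rw [← hx, ← compat, ← hP, key, map_sum]
  exact Finset.sum_congr rfl fun c _ => by simp [map_prod]

theorem lfun_tpow (hF : IsHomog F d) (S : Type u) [CommSemiring S] [Algebra A S] (x : S ⊗[A] B) :
    (lfun b F).lTensor S ((SymTen.tpowLaw A B d).law.toFun' S x) = F.toFun' S x := by
  classical
  obtain ⟨f, rfl⟩ := exists_repr b S x
  rw [tpow_sum, eq_sum_coef b F hF, map_sum, Finset.sum_filter]
  refine Finset.sum_congr rfl fun c _ => ?_
  rw [LinearMap.lTensor_tmul, ← bT_apply b c, lfun, Module.Basis.constr_basis]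
  split_ifs <;> simp

/-- the map on symmetric tensors induced by a law -/
noncomputable def rhoL : SymTen.TS A B d →ₗ[A] W := lfun b F ∘ₗ incl

theorem rhoL_tau (hF : IsHomog F d) : PolLaw.postcomp (rhoL b (d := d) F) (tau b).law = F := by
  ext S _ _ x
  show (rhoL b F).lTensor S ((tau b).law.toFun' S x) = _
  rw [rhoL, LinearMap.lTensor_comp, LinearMap.comp_apply, tau, incl_codLaw, lfun_tpow b F hF]

end Coeff

section Alg

variable {C : Type u} [CommRing C] [Algebra A C]

/-- the algebra map on symmetric tensors induced by a multiplicative law -/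
noncomputable def rho (F : MulLaw A B C d) : SymTen.TS A B d →ₐ[A] C :=
  AlgHom.ofLinearMap (rhoL b F.law) (by
    rw [← ev_one (tau b), ← ev_postcomp, rhoL_tau b F.law F.homog, ev_one]) (by
    have hev : ∀ (S : Type u) [CommSemiring S] [Algebra A S] (x : S ⊗[A] B) (l : S →ₗ[A] A),
        rhoL b F.law (ev (tau b).law S x l) = ev F.law S x l := fun S _ _ x l => by
      rw [← ev_postcomp, rhoL_tau b F.law F.homog]
    intro x y
    induction span_ev_tau b ▸ (Submodule.mem_top (x := x)) using Submodule.span_induction with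
    | mem x hx =>
      induction span_ev_tau b ▸ (Submodule.mem_top (x := y)) using Submodule.span_induction with
      | mem y hy =>
        obtain ⟨σ, x₁, l₁, rfl⟩ := hx
        obtain ⟨τ, x₂, l₂, rfl⟩ := hy
        rw [hev, hev, ev_mul, ev_mul, hev]
      | zero => simp
      | add p q _ _ hp hq => rw [mul_add, map_add, hp, hq, map_add, mul_add]
      | smul a p _ hp => rw [mul_smul_comm, map_smul, hp, map_smul, mul_smul_comm]
    | zero => simp
    | add p q _ _ hp hq => rw [add_mul, map_add, hp, hq, map_add, add_mul]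
    | smul a p _ hp => rw [smul_mul_assoc, map_smul, hp, map_smul, smul_mul_assoc])

theorem rho_tau (F : MulLaw A B C d) : (tau b).postcomp (rho b F) = F :=
  MulLaw.ext (rhoL_tau b F.law F.homog)

theorem alg_ext {f g : SymTen.TS A B d →ₐ[A] C}
    (h : PolLaw.postcomp f.toLinearMap (tau b).law = PolLaw.postcomp g.toLinearMap (tau b).law) : f = g :=
  AlgHom.toLinearMap_injective (lin_ext b h)

theorem isGammaD_tau : IsGammaD (tau b (d := d)) := fun C' _ _ F =>
  ⟨rho b F, congrArg MulLaw.law (rho_tau b F), fun _ hf =>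
    alg_ext b (hf.trans (congrArg MulLaw.law (rho_tau b F)).symm)⟩

end Alg

end Free

end Groth.Agent.ZeroCycLib
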