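import Groth.Prelude.Def_PolLaw2
import Mathlib.LinearAlgebra.TensorProduct.RightExactness
import Mathlib.RingTheory.Flat.Basic
import Mathlib.RingTheory.TensorProduct.MvPolynomial

/-! Polynomial laws: lifting to polynomial rings, evaluation against functionals, descent. -/

set_option autoImplicit false

universe u

open scoped TensorProduct

namespace Groth.Agent.ZeroCycLib

open PolLaw

variable {A : Type u} [CommRing A]

section Lift

variable {M N : Type u} [AddCommGroup M] [Module A M] [AddCommGroup N] [Module A N]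

theorem aeval_id_surjective (S : Type u) [CommSemiring S] [Algebra A S] :
    Function.Surjective (MvPolynomial.aeval (R := A) (id : S → S)) := fun s =>
  ⟨MvPolynomial.X s, MvPolynomial.aeval_X _ s⟩

theorem compat (F : M →ₚₗ[A] N) {S S' : Type u} [CommSemiring S] [Algebra A S] [CommSemiring S']
    [Algebra A S'] (φ : S →ₐ[A] S') (x : S ⊗[A] M) :
    φ.toLinearMap.rTensor N (F.toFun' S x) = F.toFun' S' (φ.toLinearMap.rTensor M x) :=
  congr_fun (F.isCompat' φ) x

theorem exists_polyLift (S : Type u) [CommSemiring S] [Algebra A S] (x : S ⊗[A] M) :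
    ∃ p : MvPolynomial S A ⊗[A] M, (MvPolynomial.aeval (R := A) (id : S → S)).toLinearMap.rTensor M p = x :=
  LinearMap.rTensor_surjective M (aeval_id_surjective S) x

/-- two laws agreeing over all polynomial rings are equal -/
theorem ext_poly {F G : M →ₚₗ[A] N}
    (h : ∀ (σ : Type u) (x : MvPolynomial σ A ⊗[A] M),
      F.toFun' (MvPolynomial σ A) x = G.toFun' (MvPolynomial σ A) x) : F = G := by
  ext S _ _ x
  obtain ⟨p, rfl⟩ := exists_polyLift S x
  rw [← compat, ← compat, h]

/-- the value of a law contracted with a functional -/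
noncomputable def ev (F : M →ₚₗ[A] N) (S : Type u) [CommSemiring S] [Algebra A S] (x : S ⊗[A] M)
    (l : S →ₗ[A] A) : N :=
  TensorProduct.lid A N (l.rTensor N (F.toFun' S x))

omit [Module A M] in
theorem lid_rTensor_lTensor {P : Type u} [AddCommGroup P] [Module A P] (f : N →ₗ[A] P)
    {S : Type u} [CommSemiring S] [Algebra A S] (l : S →ₗ[A] A) (z : S ⊗[A] N) :
    f (TensorProduct.lid A N (l.rTensor N z)) = TensorProduct.lid A P (l.rTensor P (f.lTensor S z)) := by
  induction z using TensorProduct.induction_on with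
  | zero => simp
  | tmul s b => simp
  | add a b ha hb => simp only [map_add, ha, hb]

theorem ev_postcomp {P : Type u} [AddCommGroup P] [Module A P] (f : N →ₗ[A] P) (F : M →ₚₗ[A] N)
    (S : Type u) [CommSemiring S] [Algebra A S] (x : S ⊗[A] M) (l : S →ₗ[A] A) :
    ev (PolLaw.postcomp f F) S x l = f (ev F S x l) :=
  (lid_rTensor_lTensor f l _).symm

theorem ev_eq_ground (F : M →ₚₗ[A] N) (m : M) : F.ground m = ev F A (1 ⊗ₜ[A] m) LinearMap.id := by
  rw [ev, LinearMap.rTensor_id]; rfl

end Lift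

section Mult

variable {B C : Type u} [CommRing B] [Algebra A B] [CommRing C] [Algebra A C]

theorem lid_map_mul {S₁ S₂ : Type u} [CommSemiring S₁] [Algebra A S₁] [CommSemiring S₂] [Algebra A S₂]
    (l₁ : S₁ →ₗ[A] A) (l₂ : S₂ →ₗ[A] A) (z₁ : S₁ ⊗[A] C) (z₂ : S₂ ⊗[A] C) :
    TensorProduct.lid A C (((TensorProduct.lid A A).toLinearMap ∘ₗ TensorProduct.map l₁ l₂).rTensor C
      (Algebra.TensorProduct.map (Algebra.TensorProduct.includeLeft : S₁ →ₐ[A] S₁ ⊗[A] S₂) (AlgHom.id A C) z₁ *
        Algebra.TensorProduct.map (Algebra.TensorProduct.includeRight : S₂ →ₐ[A] S₁ ⊗[A] S₂) (AlgHom.id A C) z₂)) =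
      TensorProduct.lid A C (l₁.rTensor C z₁) * TensorProduct.lid A C (l₂.rTensor C z₂) := by
  induction z₁ using TensorProduct.induction_on with
  | zero => simp
  | add a b ha hb => simp only [map_add, add_mul, ha, hb]
  | tmul s c =>
    induction z₂ using TensorProduct.induction_on with
    | zero => simp
    | add a b ha hb => simp only [map_add, mul_add, ha, hb]
    | tmul t e => simp [smul_smul, mul_comm]

/-- a product of two contracted values is a contracted value -/
theorem ev_mul {d : ℕ} (F : MulLaw A B C d) {S₁ S₂ : Type u} [CommSemiring S₁] [Algebra A S₁]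
    [CommSemiring S₂] [Algebra A S₂] (x₁ : S₁ ⊗[A] B) (x₂ : S₂ ⊗[A] B) (l₁ : S₁ →ₗ[A] A) (l₂ : S₂ →ₗ[A] A) :
    ev F.law S₁ x₁ l₁ * ev F.law S₂ x₂ l₂ = ev F.law (S₁ ⊗[A] S₂)
      (Algebra.TensorProduct.map (Algebra.TensorProduct.includeLeft : S₁ →ₐ[A] S₁ ⊗[A] S₂) (AlgHom.id A B) x₁ *
        Algebra.TensorProduct.map (Algebra.TensorProduct.includeRight : S₂ →ₐ[A] S₁ ⊗[A] S₂) (AlgHom.id A B) x₂)
      ((TensorProduct.lid A A).toLinearMap ∘ₗ TensorProduct.map l₁ l₂) := by
  rw [ev, ev, ev, (F.mult _).2, ← rTensor_algHom_apply, ← rTensor_algHom_apply, ← compat, ← compat,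
    rTensor_algHom_apply, rTensor_algHom_apply, lid_map_mul]

theorem ev_one {d : ℕ} (F : MulLaw A B C d) : ev F.law A 1 LinearMap.id = 1 := by
  rw [ev, (F.mult A).1, LinearMap.rTensor_id, Algebra.TensorProduct.one_def]
  simp

end Mult

section Descent

variable {V V₁ V₂ W : Type u} [AddCommGroup V] [Module A V] [AddCommGroup V₁] [Module A V₁]
  [AddCommGroup V₂] [Module A V₂] [AddCommGroup W] [Module A W]

/-- a reflexive pair presenting `V` -/
structure RPair (Q : V₁ →ₗ[A] V) (P₀ P₁ : V₂ →ₗ[A] V₁) : Prop where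
  surj : Function.Surjective Q
  split : ∃ σ : V₁ →ₗ[A] V₂, P₀ ∘ₗ σ = LinearMap.id ∧ P₁ ∘ₗ σ = LinearMap.id
  ker_le : LinearMap.ker Q ≤ (LinearMap.ker P₀).map P₁

variable {Q : V₁ →ₗ[A] V} {P₀ P₁ : V₂ →ₗ[A] V₁}

theorem RPair.exists_lift (h : RPair Q P₀ P₁) (S : Type u) [CommRing S] [Algebra A S] (x x' : S ⊗[A] V₁)
    (e : Q.lTensor S x = Q.lTensor S x') :
    ∃ u : S ⊗[A] V₂, P₀.lTensor S u = x ∧ P₁.lTensor S u = x' := by
  obtain ⟨σ, h0, h1⟩ := h.split
  have hx : x' - x ∈ LinearMap.range ((LinearMap.ker Q).subtype.lTensor S) := by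
    rw [← LinearMap.exact_iff.1 (lTensor_exact S (LinearMap.exact_subtype_ker_map Q) h.surj),
      LinearMap.mem_ker, map_sub, e, sub_self]
  obtain ⟨z, hz⟩ := hx
  have key : ∀ z : S ⊗[A] (LinearMap.ker Q : Submodule A V₁),
      ∃ w : S ⊗[A] V₂, P₀.lTensor S w = 0 ∧ P₁.lTensor S w = (LinearMap.ker Q).subtype.lTensor S z := by
    intro z
    induction z using TensorProduct.induction_on with
    | zero => exact ⟨0, map_zero _, by simp⟩
    | tmul s k =>
      obtain ⟨v, hv, hvk⟩ := Submodule.mem_map.1 (h.ker_le k.2)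
      exact ⟨s ⊗ₜ v, by simp [LinearMap.mem_ker.1 hv], by simp [hvk]⟩
    | add a b ha hb =>
      obtain ⟨w, hw0, hw1⟩ := ha
      obtain ⟨w', hw0', hw1'⟩ := hb
      exact ⟨w + w', by rw [map_add, hw0, hw0', add_zero], by rw [map_add, map_add, hw1, hw1']⟩
  obtain ⟨w, hw0, hw1⟩ := key z
  refine ⟨σ.lTensor S x + w, ?_, ?_⟩
  · rw [map_add, hw0, add_zero, ← LinearMap.comp_apply, ← LinearMap.lTensor_comp, h0, LinearMap.lTensor_id,
      LinearMap.id_apply]
  · rw [map_add, hw1, hz, ← LinearMap.comp_apply, ← LinearMap.lTensor_comp, h1, LinearMap.lTensor_id,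
      LinearMap.id_apply, add_sub_cancel]

theorem RPair.const (h : RPair Q P₀ P₁) {G₁ : V₁ →ₚₗ[A] W}
    (hG : PolLaw.precomp G₁ P₀ = PolLaw.precomp G₁ P₁) (S : Type u) [CommSemiring S] [Algebra A S]
    (x x' : S ⊗[A] V₁) (e : Q.lTensor S x = Q.lTensor S x') : G₁.toFun' S x = G₁.toFun' S x' := by
  let : CommRing S := { Algebra.semiringToRing A (A := S) with mul_comm := mul_comm }
  obtain ⟨u, rfl, rfl⟩ := h.exists_lift S x x' e
  exact congrArg (fun F : V₂ →ₚₗ[A] W => F.toFun' S u) hG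

/-- descent of a law along a reflexive pair -/
noncomputable def RPair.descend (h : RPair Q P₀ P₁) (G₁ : V₁ →ₚₗ[A] W)
    (hG : PolLaw.precomp G₁ P₀ = PolLaw.precomp G₁ P₁) : V →ₚₗ[A] W where
  toFun' S _ _ x := G₁.toFun' S (Function.surjInv (LinearMap.lTensor_surjective S h.surj) x)
  isCompat' {S} _ _ {S'} _ _ φ := by
    funext x
    simp only [Function.comp_apply]
    rw [compat G₁ φ]
    refine h.const hG S' _ _ ?_
    rw [Function.surjInv_eq (LinearMap.lTensor_surjective S' h.surj), ← LinearMap.comp_apply,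
      LinearMap.lTensor_comp_rTensor, ← LinearMap.rTensor_comp_lTensor, LinearMap.comp_apply,
      Function.surjInv_eq (LinearMap.lTensor_surjective S h.surj)]

theorem RPair.descend_apply (h : RPair Q P₀ P₁) (G₁ : V₁ →ₚₗ[A] W)
    (hG : PolLaw.precomp G₁ P₀ = PolLaw.precomp G₁ P₁) (S : Type u) [CommSemiring S] [Algebra A S]
    (x : S ⊗[A] V₁) : (h.descend G₁ hG).toFun' S (Q.lTensor S x) = G₁.toFun' S x :=
  h.const hG S _ _ (Function.surjInv_eq (LinearMap.lTensor_surjective S h.surj) _)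

end Descent

section DescentMul

variable {B B₁ B₂ C : Type u} [CommRing B] [Algebra A B] [CommRing B₁] [Algebra A B₁]
  [CommRing B₂] [Algebra A B₂] [CommRing C] [Algebra A C]
  {q : B₁ →ₐ[A] B} {p₀ p₁ : B₂ →ₐ[A] B₁}

/-- descent of a multiplicative law along a reflexive pair -/
noncomputable def descendMul (h : RPair q.toLinearMap p₀.toLinearMap p₁.toLinearMap) {d : ℕ}
    (G₁ : MulLaw A B₁ C d) (hG : G₁.precomp p₀ = G₁.precomp p₁) : MulLaw A B C d where
  law := h.descend G₁.law (congrArg MulLaw.law hG)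
  homog S _ _ s x := by
    obtain ⟨y, rfl⟩ := LinearMap.lTensor_surjective S h.surj x
    have e : s • q.toLinearMap.lTensor S y = q.toLinearMap.lTensor S (s • y) := by
      rw [lTensor_algHom_apply, lTensor_algHom_apply, map_smul]
    show (h.descend G₁.law (congrArg MulLaw.law hG)).toFun' S _ = _
    rw [e]
    exact (h.descend_apply _ _ S _).trans ((G₁.homog S s y).trans (congrArg (s ^ d • ·) (h.descend_apply _ _ S y).symm))
  mult S _ _ := by
    refine ⟨?_, fun x x' => ?_⟩
    · have e : (1 : S ⊗[A] B) = q.toLinearMap.lTensor S 1 := by rw [lTensor_algHom_apply, map_one]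
      rw [e]
      exact (h.descend_apply _ _ S _).trans (G₁.mult S).1
    · obtain ⟨y, rfl⟩ := LinearMap.lTensor_surjective S h.surj x
      obtain ⟨y', rfl⟩ := LinearMap.lTensor_surjective S h.surj x'
      have e : q.toLinearMap.lTensor S y * q.toLinearMap.lTensor S y' = q.toLinearMap.lTensor S (y * y') := by
        rw [lTensor_algHom_apply, lTensor_algHom_apply, lTensor_algHom_apply, map_mul]
      rw [e]
      exact (h.descend_apply _ _ S _).trans (((G₁.mult S).2 y y').trans
        (congrArg₂ (· * ·) (h.descend_apply _ _ S y).symm (h.descend_apply _ _ S y').symm))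

theorem descendMul_apply (h : RPair q.toLinearMap p₀.toLinearMap p₁.toLinearMap) {d : ℕ}
    (G₁ : MulLaw A B₁ C d) (hG : G₁.precomp p₀ = G₁.precomp p₁) (S : Type u) [CommSemiring S] [Algebra A S]
    (x : S ⊗[A] B₁) :
    (descendMul h G₁ hG).law.toFun' S (q.toLinearMap.lTensor S x) = G₁.law.toFun' S x :=
  h.descend_apply G₁.law (congrArg MulLaw.law hG) S x

end DescentMul

end Groth.Agent.ZeroCycLib
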