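import Groth.Agent.ZeroCycLib.CH
import Mathlib.LinearAlgebra.TensorProduct.Tower
import Mathlib.RingTheory.TensorProduct.Maps

/-! Scalar-valued laws seen as norms on base changes. -/

set_option autoImplicit false

universe u

open scoped TensorProduct

namespace Groth.Agent.ZeroCycLib

open PolLaw

variable {A B : Type u} [CommRing A] [CommRing B] [Algebra A B] {d : ℕ}

/-- base change of elements -/
noncomputable abbrev chg (B : Type u) [CommRing B] [Algebra A B] {R R' : Type u} [CommSemiring R] [Algebra A R]
    [CommSemiring R'] [Algebra A R'] (g : R →ₐ[A] R') : R ⊗[A] B →ₐ[A] R' ⊗[A] B :=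
  Algebra.TensorProduct.map g (AlgHom.id A B)

/-- the value of a scalar law -/
noncomputable def nm (F : MulLaw A B A d) (R : Type u) [CommSemiring R] [Algebra A R] (x : R ⊗[A] B) : R :=
  Algebra.TensorProduct.rid A R R (F.law.toFun' R x)

theorem chg_chg {R R₁ R₂ : Type u} [CommSemiring R] [Algebra A R] [CommSemiring R₁] [Algebra A R₁] [CommSemiring R₂]
    [Algebra A R₂] (g : R →ₐ[A] R₁) (g' : R₁ →ₐ[A] R₂) (v : R ⊗[A] B) :
    chg B g' (chg B g v) = chg B (g'.comp g) v := by
  induction v using TensorProduct.induction_on with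
  | zero => simp
  | tmul r b => simp
  | add p q hp hq => simp only [map_add, hp, hq]

section Basics

variable (F : MulLaw A B A d) {R R' : Type u} [CommSemiring R] [Algebra A R] [CommSemiring R'] [Algebra A R']

theorem nm_one : nm F R 1 = 1 := by rw [nm, (F.mult R).1, map_one]

theorem nm_mul (x y : R ⊗[A] B) : nm F R (x * y) = nm F R x * nm F R y := by
  rw [nm, (F.mult R).2, map_mul]; rfl

theorem nm_pow (x : R ⊗[A] B) (n : ℕ) : nm F R (x ^ n) = nm F R x ^ n := by
  induction n with
  | zero => rw [pow_zero, pow_zero, nm_one]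
  | succ n ih => rw [pow_succ, pow_succ, nm_mul, ih]

theorem nm_smul (r : R) (x : R ⊗[A] B) : nm F R (r • x) = r ^ d * nm F R x := by
  rw [nm, F.homog R r x, map_smul, smul_eq_mul]; rfl

theorem nm_natural (g : R →ₐ[A] R') (x : R ⊗[A] B) : g (nm F R x) = nm F R' (chg B g x) := by
  rw [nm, nm, ← rTensor_algHom_apply g x, ← compat]
  generalize F.law.toFun' R x = z
  induction z using TensorProduct.induction_on with
  | zero => simp
  | tmul r a => simp
  | add p q hp hq => simp only [map_add, hp, hq]

theorem nm_inj {x y : R ⊗[A] B} (h : nm F R x = nm F R y) : F.law.toFun' R x = F.law.toFun' R y :=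
  (Algebra.TensorProduct.rid A R R).injective h

theorem toFun_eq_nm (x : R ⊗[A] B) : F.law.toFun' R x = nm F R x ⊗ₜ[A] (1 : A) := by
  apply (Algebra.TensorProduct.rid A R R).injective
  simp [nm]

end Basics

section Membership

variable (F : MulLaw A B A d)

theorem nm_add_of_mem_ker {b : B} (hb : b ∈ PolLaw.ker F.law) (R : Type u) [CommSemiring R] [Algebra A R]
    (x w : R ⊗[A] B) : nm F R (x + w * (1 ⊗ₜ[A] b)) = nm F R x :=
  congrArg (Algebra.TensorProduct.rid A R R) (hb R x w)

theorem mem_ker_of_poly {C : Type u} [CommRing C] [Algebra A C] (G : B →ₚₗ[A] C) (b : B)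
    (h : ∀ (σ : Type u) (x w : MvPolynomial σ A ⊗[A] B),
      G.toFun' _ (x + w * (1 ⊗ₜ[A] b)) = G.toFun' _ x) : b ∈ PolLaw.ker G := by
  intro S _ _ x w
  obtain ⟨p, rfl⟩ := exists_polyLift S x
  obtain ⟨q, rfl⟩ := exists_polyLift S w
  have e : ((MvPolynomial.aeval (R := A) (id : S → S)).toLinearMap.rTensor B p +
      (MvPolynomial.aeval (R := A) (id : S → S)).toLinearMap.rTensor B q * ((1 : S) ⊗ₜ[A] b)) =
      (MvPolynomial.aeval (R := A) (id : S → S)).toLinearMap.rTensor B (p + q * (1 ⊗ₜ[A] b)) := by
    simp only [rTensor_algHom_apply, map_add, map_mul, Algebra.TensorProduct.map_tmul, map_one, AlgHom.id_apply]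
  rw [e, ← compat, ← compat, h]

theorem mem_ker_of_nm {b : B}
    (h : ∀ (σ : Type u) (x w : MvPolynomial σ A ⊗[A] B), nm F _ (x + w * (1 ⊗ₜ[A] b)) = nm F _ x) :
    b ∈ PolLaw.ker F.law :=
  mem_ker_of_poly F.law b fun σ x w => nm_inj F (h σ x w)

/-- a base change element is killed -/
def Killed (R : Type u) [CommRing R] [Algebra A R] (v : R ⊗[A] B) : Prop :=
  ∀ (R' : Type u) [CommRing R'] [Algebra A R'] (g : R →ₐ[A] R') (x w : R' ⊗[A] B),
    nm F R' (x + w * chg B g v) = nm F R' x

theorem killed_chg {R R₂ : Type u} [CommRing R] [Algebra A R] [CommRing R₂] [Algebra A R₂] {v : R ⊗[A] B}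
    (hv : Killed F R v) (g : R →ₐ[A] R₂) : Killed F R₂ (chg B g v) := by
  intro R' _ _ g' x w
  have e := chg_chg g g' v
  rw [e]
  exact hv R' _ x w

theorem killed_of_mem_ker {b : B} (hb : b ∈ PolLaw.ker F.law) (R : Type u) [CommRing R] [Algebra A R] :
    Killed F R (1 ⊗ₜ[A] b) := fun R' _ _ g x w => by
  rw [Algebra.TensorProduct.map_tmul, map_one, AlgHom.id_apply]
  exact nm_add_of_mem_ker F hb R' x w

/-- the killed elements form an ideal -/
def killedIdeal (R : Type u) [CommRing R] [Algebra A R] : Ideal (R ⊗[A] B) where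
  carrier := {v | Killed F R v}
  zero_mem' R' _ _ g x w := by simp
  add_mem' {p q} hp hq R' _ _ g x w := by
    rw [map_add, mul_add, ← add_assoc, hq R' g, hp R' g]
  smul_mem' c {v} hv R' _ _ g x w := by
    rw [smul_eq_mul, map_mul, ← mul_assoc]
    exact hv R' g x _

theorem mem_killedIdeal {R : Type u} [CommRing R] [Algebra A R] {v : R ⊗[A] B} :
    v ∈ killedIdeal F R ↔ Killed F R v := Iff.rfl

theorem map_ker_le_killed (R : Type u) [CommRing R] [Algebra A R] :
    (PolLaw.ker F.law).map (Algebra.TensorProduct.includeRight : B →ₐ[A] R ⊗[A] B) ≤ killedIdeal F R := by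
  rw [Ideal.map_le_iff_le_comap]
  intro b hb
  exact killed_of_mem_ker F hb R

theorem killed_iff_mem_ker {b : B} : Killed F A (1 ⊗ₜ[A] b) ↔ b ∈ PolLaw.ker F.law := by
  refine ⟨fun h => mem_ker_of_nm F fun σ x w => ?_, fun h => killed_of_mem_ker F h A⟩
  have := h (MvPolynomial σ A) (Algebra.ofId A _) x w
  rwa [Algebra.TensorProduct.map_tmul, map_one, AlgHom.id_apply] at this

theorem killedIdeal_eq_kerBC (R : Type u) [CommRing R] [Algebra A R] :
    killedIdeal F R = PolLaw.kerBC F.law R := by
  refine le_antisymm (fun v hv => ?_) fun v hv R' _ _ g x w => ?_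
  · intro S _ _ _ _ x w
    let hr : Algebra R (MvPolynomial S R) := inferInstance
    have hsur : Function.Surjective ((MvPolynomial.aeval (R := R) (id : S → S)).restrictScalars A) := fun s =>
      ⟨MvPolynomial.X s, by simp⟩
    set φ := (MvPolynomial.aeval (R := R) (id : S → S)).restrictScalars A with hφ
    obtain ⟨p, rfl⟩ := LinearMap.rTensor_surjective B (g := φ.toLinearMap) hsur x
    obtain ⟨q, rfl⟩ := LinearMap.rTensor_surjective B (g := φ.toLinearMap) hsur w
    have e0 : φ.comp (IsScalarTower.toAlgHom A R (MvPolynomial S R)) = IsScalarTower.toAlgHom A R S :=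
      AlgHom.ext fun r => by simp [φ]
    have e1 : chg B φ (chg B (IsScalarTower.toAlgHom A R (MvPolynomial S R)) v) =
        chg B (IsScalarTower.toAlgHom A R S) v := by
      rw [← e0]
      exact chg_chg _ _ v
    have h := nm_inj F (hv (MvPolynomial S R) (IsScalarTower.toAlgHom A R (MvPolynomial S R)) p q)
    have h2 := congrArg (φ.toLinearMap.rTensor A) h
    rw [compat, compat, rTensor_algHom_apply φ (_ + _), map_add, map_mul, e1, ← rTensor_algHom_apply,
      ← rTensor_algHom_apply] at h2
    exact h2
  · letI : Algebra R R' := g.toRingHom.toAlgebra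
    have : IsScalarTower A R R' := IsScalarTower.of_algebraMap_eq fun a => (g.commutes a).symm
    exact congrArg (Algebra.TensorProduct.rid A R' R') (hv R' x w)

end Membership

section BaseChange

variable {C : Type u} [CommRing C] [Algebra A C]

/-- values in an algebra receiving the target -/
noncomputable def nmC (F : MulLaw A B C d) (A' : Type u) [CommRing A'] [Algebra A A'] (f : C →ₐ[A] A') :
    MulLaw A B A' d := F.postcomp f

variable (A' : Type u) [CommRing A'] [Algebra A A']

/-- multiplication into an algebra -/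
noncomputable def muS (S : Type u) [CommSemiring S] [Algebra A S] [Algebra A' S] [IsScalarTower A A' S] :
    S ⊗[A] A' →ₐ[A] S :=
  Algebra.TensorProduct.lift (AlgHom.id A S) (IsScalarTower.toAlgHom A A' S) (fun _ _ => Commute.all _ _)

/-- the value of the base changed law -/
noncomputable def bcFun (F : MulLaw A B A' d) (S : Type u) [CommSemiring S] [Algebra A S] [Algebra A' S]
    [IsScalarTower A A' S] (x : S ⊗[A'] (A' ⊗[A] B)) : S :=
  muS A' S (F.law.toFun' S (Algebra.TensorProduct.cancelBaseChange A A' S S B x))

/-- base change of a law with values in the new base -/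
noncomputable def bc (F : MulLaw A B A' d) : MulLaw A' (A' ⊗[A] B) A' d where
  law :=
  { toFun' := fun S _ _ x =>
      letI : Algebra A S := ((algebraMap A' S).comp (algebraMap A A')).toAlgebra
      haveI : IsScalarTower A A' S := IsScalarTower.of_algebraMap_eq fun _ => rfl
      bcFun A' F S x ⊗ₜ[A'] (1 : A')
    isCompat' := fun {S} _ _ {S'} _ _ φ => by
      letI : Algebra A S := ((algebraMap A' S).comp (algebraMap A A')).toAlgebra
      haveI : IsScalarTower A A' S := IsScalarTower.of_algebraMap_eq fun _ => rfl
      letI : Algebra A S' := ((algebraMap A' S').comp (algebraMap A A')).toAlgebra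
      haveI : IsScalarTower A A' S' := IsScalarTower.of_algebraMap_eq fun _ => rfl
      funext x
      simp only [Function.comp_apply, LinearMap.rTensor_tmul, AlgHom.toLinearMap_apply]
      refine congrArg (· ⊗ₜ[A'] (1 : A')) ?_
      have e : Algebra.TensorProduct.cancelBaseChange A A' S' S' B (φ.toLinearMap.rTensor _ x) =
          (φ.restrictScalars A).toLinearMap.rTensor B (Algebra.TensorProduct.cancelBaseChange A A' S S B x) := by
        induction x using TensorProduct.induction_on with
        | zero => simp
        | add p q hp hq => simp only [map_add, hp, hq]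
        | tmul s z =>
          induction z using TensorProduct.induction_on with
          | zero => simp
          | add p q hp hq => simp only [TensorProduct.tmul_add, map_add, hp, hq]
          | tmul a b => simp [map_smul]
      simp only [bcFun]
      rw [e, ← compat]
      generalize F.law.toFun' S (Algebra.TensorProduct.cancelBaseChange A A' S S B x) = z
      induction z using TensorProduct.induction_on with
      | zero => simp
      | add p q hp hq => simp only [map_add, hp, hq]
      | tmul s a => simp [muS] }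
  homog S _ _ s x := by
    let _ : Algebra A S := ((algebraMap A' S).comp (algebraMap A A')).toAlgebra
    have : IsScalarTower A A' S := IsScalarTower.of_algebraMap_eq fun _ => rfl
    show bcFun A' F S (s • x) ⊗ₜ[A'] (1 : A') = s ^ d • (bcFun A' F S x ⊗ₜ[A'] (1 : A'))
    rw [TensorProduct.smul_tmul', smul_eq_mul]
    congr 1
    simp only [bcFun]
    rw [map_smul, F.homog S s]
    generalize F.law.toFun' S (Algebra.TensorProduct.cancelBaseChange A A' S S B x) = z
    induction z using TensorProduct.induction_on with
    | zero => simp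
    | add p q hp hq => simp only [smul_add, map_add, mul_add, hp, hq]
    | tmul t a => simp [muS, TensorProduct.smul_tmul', mul_assoc]
  mult S _ _ := by
    let _ : Algebra A S := ((algebraMap A' S).comp (algebraMap A A')).toAlgebra
    have : IsScalarTower A A' S := IsScalarTower.of_algebraMap_eq fun _ => rfl
    refine ⟨?_, fun x y => ?_⟩
    · show bcFun A' F S 1 ⊗ₜ[A'] (1 : A') = 1
      rw [bcFun, map_one, (F.mult S).1, map_one]; rfl
    · show bcFun A' F S (x * y) ⊗ₜ[A'] (1 : A') = (bcFun A' F S x ⊗ₜ[A'] (1 : A')) * (bcFun A' F S y ⊗ₜ[A'] (1 : A'))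
      rw [Algebra.TensorProduct.tmul_mul_tmul, mul_one, bcFun, map_mul, (F.mult S).2, map_mul]; rfl

theorem nm_bc (F : MulLaw A B A' d) (S : Type u) [CommSemiring S] [h₁ : Algebra A S] [Algebra A' S]
    [IsScalarTower A A' S] (x : S ⊗[A'] (A' ⊗[A] B)) : nm (bc A' F) S x = bcFun A' F S x := by
  have e : h₁ = ((algebraMap A' S).comp (algebraMap A A')).toAlgebra :=
    Algebra.algebra_ext _ _ fun r => IsScalarTower.algebraMap_apply A A' S r
  subst e
  let _ : Algebra A S := ((algebraMap A' S).comp (algebraMap A A')).toAlgebra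
  show Algebra.TensorProduct.rid A' S S (bcFun A' F S x ⊗ₜ[A'] (1 : A')) = _
  simp

/-- base change of a scalar law -/
noncomputable def bcA (F : MulLaw A B A d) : MulLaw A' (A' ⊗[A] B) A' d := bc A' (F.postcomp (Algebra.ofId A A'))

theorem nm_bcA (F : MulLaw A B A d) (S : Type u) [CommSemiring S] [Algebra A S] [Algebra A' S]
    [IsScalarTower A A' S] (x : S ⊗[A'] (A' ⊗[A] B)) :
    nm (bcA A' F) S x = nm F S (Algebra.TensorProduct.cancelBaseChange A A' S S B x) := by
  rw [bcA, nm_bc, bcFun, mul_postcomp_apply, nm]
  generalize F.law.toFun' S (Algebra.TensorProduct.cancelBaseChange A A' S S B x) = z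
  induction z using TensorProduct.induction_on with
  | zero => simp
  | add p q hp hq => simp only [map_add, hp, hq]
  | tmul s a => simp [muS, Algebra.ofId, Algebra.smul_def, mul_comm]

end BaseChange

end Groth.Agent.ZeroCycLib
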