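import Groth.Agent.ZeroCycLib.KerApps
import Mathlib.Algebra.MvPolynomial.Nilpotent
import Mathlib.RingTheory.Polynomial.Nilpotent
import Mathlib.RingTheory.Nilpotent.Lemmas

/-! Images over reduced bases are reduced; images of basic opens. -/

set_option autoImplicit false

universe u

open scoped TensorProduct
open Polynomial

namespace Groth.Agent.ZeroCycLib

open PolLaw

theorem isReduced_polynomial (R : Type u) [CommRing R] [IsReduced R] : IsReduced R[X] :=
  ⟨fun f hf => Polynomial.ext fun i =>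
    (isNilpotent_iff_eq_zero).1 ((Polynomial.isNilpotent_iff.1 hf) i) |>.trans (Polynomial.coeff_zero i).symm⟩

/-- in a reduced ring, a factor of a regular constant is constant -/
theorem coeff_eq_zero_of_mul_eq_C {P : Type u} [CommRing P] [IsReduced P] {f g : P[X]} {c : P}
    (hc : IsRegular c) (h : f * g = C c) (k : ℕ) : f.coeff (k + 1) = 0 := by
  refine hc.left (show c * f.coeff (k + 1) = c * 0 from ?_)
  rw [mul_zero]
  refine IsReduced.eq_zero _ (nilpotent_iff_mem_prime.2 fun p hp => ?_)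
  by_cases hcp : c ∈ p
  · exact Ideal.mul_mem_right _ _ hcp
  refine Ideal.mul_mem_left _ _ (Ideal.Quotient.eq_zero_iff_mem.1 ?_)
  have h' := congrArg (Polynomial.map (Ideal.Quotient.mk p)) h
  rw [Polynomial.map_mul, Polynomial.map_C] at h'
  have hne : C (Ideal.Quotient.mk p c) ≠ 0 := by simpa [Ideal.Quotient.eq_zero_iff_mem] using hcp
  have hf : f.map (Ideal.Quotient.mk p) ≠ 0 := fun e => hne (by rw [← h', e, zero_mul])
  have hg : g.map (Ideal.Quotient.mk p) ≠ 0 := fun e => hne (by rw [← h', e, mul_zero])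
  have hd := congrArg Polynomial.natDegree h'
  rw [Polynomial.natDegree_mul hf hg, Polynomial.natDegree_C] at hd
  rw [← Polynomial.coeff_map]
  exact Polynomial.coeff_eq_zero_of_natDegree_lt (by omega)

variable {A B : Type u} [CommRing A] [CommRing B] [Algebra A B] {d : ℕ} (F : MulLaw A B A d)

theorem nm_eq_of_pow_mem {P : Type u} [CommRing P] [Algebra A P] [IsReduced P] {b : B} {n : ℕ}
    (hb : b ^ n ∈ PolLaw.ker F.law) (x w : P ⊗[A] B) (hreg : IsRegular (nm F P x)) :
    nm F P (x + w * ((1 : P) ⊗ₜ[A] b)) = nm F P x := by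
  set xT : P[X] ⊗[A] B := chg B (jC (A := A) P) x with hxT
  set wT : P[X] ⊗[A] B := (X : P[X]) • chg B (jC (A := A) P) w with hwT
  set u : P[X] ⊗[A] B := wT * ((1 : P[X]) ⊗ₜ[A] b) with hu
  set f : P[X] := nm F P[X] (xT + u) with hf
  set g : P[X] := nm F P[X] (∑ i ∈ Finset.range n, xT ^ i * (-u) ^ (n - 1 - i)) with hg
  have hfg : f * g = C (nm F P x ^ n) := by
    rw [hf, hg, ← nm_mul, mul_comm (xT + u), show xT + u = xT - -u by rw [sub_neg_eq_add],
      (Commute.all xT (-u)).geom_sum₂_mul,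
      show xT ^ n - (-u) ^ n = xT ^ n + (-((-1) ^ n * wT ^ n)) * ((1 : P[X]) ⊗ₜ[A] (b ^ n)) by
        rw [neg_pow u, hu, mul_pow, Algebra.TensorProduct.tmul_pow, one_pow]; ring,
      nm_add_of_mem_ker F hb, nm_pow, hxT, ← nm_natural, map_pow]
    rfl
  have hconst : f = C (f.coeff 0) := Polynomial.ext fun k => by
    rcases k with _ | k
    · simp
    · rw [coeff_eq_zero_of_mul_eq_C (hreg.pow n) hfg, Polynomial.coeff_C_succ]
  have heval : ∀ t : P, evalA (A := A) t f = nm F P (x + (t • w) * ((1 : P) ⊗ₜ[A] b)) := fun t => by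
    rw [hf, nm_natural, hu, map_add, map_mul, hxT, hwT, chg_smul, eval_jC, eval_jC, Algebra.TensorProduct.map_tmul,
      map_one, AlgHom.id_apply]
    simp
  have h0 := heval 0
  have h1 := heval 1
  rw [hconst] at h0 h1
  simp only [zero_smul, zero_mul, add_zero, one_smul] at h0 h1
  rw [← h1, ← h0]
  simp

theorem mem_ker_of_pow_mem [IsReduced A] {b : B} {n : ℕ} (hb : b ^ n ∈ PolLaw.ker F.law) :
    b ∈ PolLaw.ker F.law := by
  refine mem_ker_of_nm F fun σ x w => ?_
  let R := MvPolynomial σ A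
  have : IsReduced R[X] := isReduced_polynomial R
  have hreg : IsRegular (chiR F R x) := by
    have hu : IsUnit (C ((-1 : R) ^ d)) := Polynomial.isUnit_C.2 ((isUnit_one.neg).pow d)
    have hm : (C ((-1 : R) ^ d) * chiR F R x).Monic := by
      apply Polynomial.monic_of_natDegree_le_of_coeff_eq_one d
      · exact (Polynomial.natDegree_C_mul_le _ _).trans (natDegree_chiR F R x)
      · rw [Polynomial.coeff_C_mul, coeff_chiR_top, ← mul_pow, neg_one_mul, neg_neg, one_pow]
    have e : chiR F R x = C ((-1 : R) ^ d) * (C ((-1 : R) ^ d) * chiR F R x) := by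
      rw [← mul_assoc, ← map_mul, ← mul_pow, neg_one_mul, neg_neg, one_pow, map_one, one_mul]
    rw [e]
    exact hu.isRegular.mul hm.isRegular
  have h2 := nm_eq_of_pow_mem F hb (chg B (jC (A := A) R) x - (X : R[X]) • 1) (chg B (jC (A := A) R) w) hreg
  have h3 := congrArg (evalA (A := A) (0 : R)) h2
  rw [nm_natural, nm_natural, map_add, map_mul, map_sub, chg_smul, eval_jC, eval_jC,
    Algebra.TensorProduct.map_tmul, map_one, AlgHom.id_apply] at h3
  simpa using h3

theorem isReduced_image [IsReduced A] : IsReduced (PolLaw.image F.law) := by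
  refine ⟨fun y ⟨n, hn⟩ => ?_⟩
  obtain ⟨b, rfl⟩ := Ideal.Quotient.mk_surjective y
  rw [← map_pow, Ideal.Quotient.eq_zero_iff_mem] at hn
  exact Ideal.Quotient.eq_zero_iff_mem.2 (mem_ker_of_pow_mem F hn)

/-- the image of a basic open is the union of the basic opens at the coefficients -/
theorem image_basicOpen (A' : Type u) [CommRing A'] [Algebra A A'] (f : A' ⊗[A] B)
    (p : PrimeSpectrum A') :
    (∃ Q : Ideal (A' ⊗[A] B), Q.IsPrime ∧
        (PolLaw.ker F.law).map (Algebra.TensorProduct.includeRight : B →ₐ[A] A' ⊗[A] B) ≤ Q ∧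
        Q.comap (algebraMap A' _) = p.asIdeal ∧ f ∉ Q) ↔
      ∃ i < d, (chiR F A' f).coeff i ∉ p.asIdeal := by
  constructor
  · rintro ⟨Q, hQ, hJ, hQp, hf⟩
    by_contra hall
    push Not at hall
    refine hf ((hQ.mem_of_pow_mem d) ?_)
    have h1 : Polynomial.aeval f (chiR F A' f) ∈ Q :=
      (Ideal.IsPrime.radical_le_iff hQ).2 hJ (killed_le_radical F A' (aeval_chiR F A' f))
    rw [Polynomial.aeval_eq_sum_range' (n := d + 1) (Nat.lt_succ_of_le (natDegree_chiR F A' f)),
      Finset.sum_range_succ, coeff_chiR_top] at h1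
    have h2 : ∑ i ∈ Finset.range d, (chiR F A' f).coeff i • f ^ i ∈ Q := sum_mem fun i hi => by
      rw [Algebra.smul_def]
      refine Ideal.mul_mem_right _ _ ?_
      rw [← Ideal.mem_comap, hQp]
      exact hall i (Finset.mem_range.1 hi)
    have h3 := (Ideal.add_mem_iff_right _ h2).1 h1
    rw [Algebra.smul_def] at h3
    exact (Ideal.unit_mul_mem_iff_mem _ (((isUnit_one.neg).pow d).map _)).1 h3
  · rintro ⟨i, hid, hi⟩
    by_contra hall
    push Not at hall
    apply hi
    let D := A' ⧸ p.asIdeal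
    set ρ := chg B (Ideal.Quotient.mkₐ A p.asIdeal) with hρdef
    have hJmap : ((PolLaw.ker F.law).map (Algebra.TensorProduct.includeRight : B →ₐ[A] A' ⊗[A] B)).map ρ.toRingHom =
        (PolLaw.ker F.law).map (Algebra.TensorProduct.includeRight : B →ₐ[A] D ⊗[A] B) := by
      refine (Ideal.map_mapₐ _ _).trans ?_
      congr 1
    have hrad : ρ f ∈ (PolLaw.ker (bcA D F).law).radical := by
      rw [Ideal.radical_eq_sInf, Ideal.mem_sInf]
      rintro P ⟨hP, hPp⟩
      have : P.IsPrime := hPp
      obtain ⟨P0, hP0, hP0le⟩ := Ideal.exists_minimalPrimes_le hP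
      refine hP0le ?_
      have : P0.IsPrime := hP0.1.1
      have hker : (PolLaw.ker F.law).map (Algebra.TensorProduct.includeRight : B →ₐ[A] D ⊗[A] B) ≤ P0 :=
        (map_ker_le_killed F D).trans ((ker_bcA F D).ge.trans hP0.1.2)
      refine hall (P0.comap ρ.toRingHom) inferInstance ?_ ?_
      · rw [← Ideal.map_le_iff_le_comap, hJmap]; exact hker
      · have hbot := comap_minimalPrime_eq_bot (bcA D F) hP0
        ext a
        rw [Ideal.mem_comap, Ideal.mem_comap,
          show ρ.toRingHom (algebraMap A' _ a) = algebraMap D (D ⊗[A] B) (Ideal.Quotient.mk _ a) by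
            simp [hρdef, D, Algebra.TensorProduct.algebraMap_apply],
          ← Ideal.mem_comap, hbot, Ideal.mem_bot, Ideal.Quotient.eq_zero_iff_mem]
    obtain ⟨n, hn⟩ := hrad
    have hk := mem_ker_of_pow_mem (bcA D F) hn
    rw [ker_bcA] at hk
    have hchi := chiR_of_killed F hk
    rw [hρdef, ← chiR_natural] at hchi
    have hcoef := congrArg (fun q => Polynomial.coeff q i) hchi
    rw [Polynomial.coeff_map, neg_pow, show ((-1 : D[X]) ^ d) = C ((-1 : D) ^ d) by simp,
      Polynomial.coeff_C_mul_X_pow, if_neg hid.ne] at hcoef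
    exact Ideal.Quotient.eq_zero_iff_mem.1 hcoef

end Groth.Agent.ZeroCycLib
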